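import Cfsg.Agent.Lib.Helper2.HNMult.P3.Cert
set_option autoImplicit false
set_option maxRecDepth 1000000
set_option Elab.async false
namespace Cfsg.Agent.Lib.Helper2.HNMult.P3
open Cfsg.Agent.Lib.Helper4.Sparse
theorem tr_1474561 : chkTreeRange 7 piT parT 3 1474561 8192 = true := by decide +kernel
theorem tr_1482753 : chkTreeRange 7 piT parT 3 1482753 8192 = true := by decide +kernel
theorem tr_1490945 : chkTreeRange 7 piT parT 3 1490945 8192 = true := by decide +kernel
theorem tr_1499137 : chkTreeRange 7 piT parT 3 1499137 8192 = true := by decide +kernel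
theorem tr_1507329 : chkTreeRange 7 piT parT 3 1507329 8192 = true := by decide +kernel
theorem tr_1515521 : chkTreeRange 7 piT parT 3 1515521 8192 = true := by decide +kernel
theorem tr_1523713 : chkTreeRange 7 piT parT 3 1523713 8192 = true := by decide +kernel
theorem tr_1531905 : chkTreeRange 7 piT parT 3 1531905 7095 = true := by decide +kernel
theorem treeP12 (j : ℕ) (h1 : 1474561 ≤ j) (h2 : j < 1539000) : chkTreeAt 7 piT parT 3 j = true := by
  rcases Nat.lt_or_ge j 1482753 with g0 | g0
  · exact chkTreeRange_spec 7 piT parT 3 1474561 8192 tr_1474561 j (by omega) (by omega)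
  rcases Nat.lt_or_ge j 1490945 with g1 | g1
  · exact chkTreeRange_spec 7 piT parT 3 1482753 8192 tr_1482753 j (by omega) (by omega)
  rcases Nat.lt_or_ge j 1499137 with g2 | g2
  · exact chkTreeRange_spec 7 piT parT 3 1490945 8192 tr_1490945 j (by omega) (by omega)
  rcases Nat.lt_or_ge j 1507329 with g3 | g3
  · exact chkTreeRange_spec 7 piT parT 3 1499137 8192 tr_1499137 j (by omega) (by omega)
  rcases Nat.lt_or_ge j 1515521 with g4 | g4
  · exact chkTreeRange_spec 7 piT parT 3 1507329 8192 tr_1507329 j (by omega) (by omega)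
  rcases Nat.lt_or_ge j 1523713 with g5 | g5
  · exact chkTreeRange_spec 7 piT parT 3 1515521 8192 tr_1515521 j (by omega) (by omega)
  rcases Nat.lt_or_ge j 1531905 with g6 | g6
  · exact chkTreeRange_spec 7 piT parT 3 1523713 8192 tr_1523713 j (by omega) (by omega)
  exact chkTreeRange_spec 7 piT parT 3 1531905 7095 tr_1531905 j (by omega) (by omega)
end Cfsg.Agent.Lib.Helper2.HNMult.P3
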