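import Cfsg.Agent.Lib.Helper2.HNMult.P3.Cert
set_option autoImplicit false
set_option maxRecDepth 1000000
set_option Elab.async false
namespace Cfsg.Agent.Lib.Helper2.HNMult.P3
open Cfsg.Agent.Lib.Helper4.Sparse
theorem tr_368641 : chkTreeRange 7 piT parT 3 368641 8192 = true := by decide +kernel
theorem tr_376833 : chkTreeRange 7 piT parT 3 376833 8192 = true := by decide +kernel
theorem tr_385025 : chkTreeRange 7 piT parT 3 385025 8192 = true := by decide +kernel
theorem tr_393217 : chkTreeRange 7 piT parT 3 393217 8192 = true := by decide +kernel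
theorem tr_401409 : chkTreeRange 7 piT parT 3 401409 8192 = true := by decide +kernel
theorem tr_409601 : chkTreeRange 7 piT parT 3 409601 8192 = true := by decide +kernel
theorem tr_417793 : chkTreeRange 7 piT parT 3 417793 8192 = true := by decide +kernel
theorem tr_425985 : chkTreeRange 7 piT parT 3 425985 8192 = true := by decide +kernel
theorem tr_434177 : chkTreeRange 7 piT parT 3 434177 8192 = true := by decide +kernel
theorem tr_442369 : chkTreeRange 7 piT parT 3 442369 8192 = true := by decide +kernel
theorem tr_450561 : chkTreeRange 7 piT parT 3 450561 8192 = true := by decide +kernel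
theorem tr_458753 : chkTreeRange 7 piT parT 3 458753 8192 = true := by decide +kernel
theorem tr_466945 : chkTreeRange 7 piT parT 3 466945 8192 = true := by decide +kernel
theorem tr_475137 : chkTreeRange 7 piT parT 3 475137 8192 = true := by decide +kernel
theorem tr_483329 : chkTreeRange 7 piT parT 3 483329 8192 = true := by decide +kernel
theorem treeP3 (j : ℕ) (h1 : 368641 ≤ j) (h2 : j < 491521) : chkTreeAt 7 piT parT 3 j = true := by
  rcases Nat.lt_or_ge j 376833 with g0 | g0
  · exact chkTreeRange_spec 7 piT parT 3 368641 8192 tr_368641 j (by omega) (by omega)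
  rcases Nat.lt_or_ge j 385025 with g1 | g1
  · exact chkTreeRange_spec 7 piT parT 3 376833 8192 tr_376833 j (by omega) (by omega)
  rcases Nat.lt_or_ge j 393217 with g2 | g2
  · exact chkTreeRange_spec 7 piT parT 3 385025 8192 tr_385025 j (by omega) (by omega)
  rcases Nat.lt_or_ge j 401409 with g3 | g3
  · exact chkTreeRange_spec 7 piT parT 3 393217 8192 tr_393217 j (by omega) (by omega)
  rcases Nat.lt_or_ge j 409601 with g4 | g4
  · exact chkTreeRange_spec 7 piT parT 3 401409 8192 tr_401409 j (by omega) (by omega)
  rcases Nat.lt_or_ge j 417793 with g5 | g5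
  · exact chkTreeRange_spec 7 piT parT 3 409601 8192 tr_409601 j (by omega) (by omega)
  rcases Nat.lt_or_ge j 425985 with g6 | g6
  · exact chkTreeRange_spec 7 piT parT 3 417793 8192 tr_417793 j (by omega) (by omega)
  rcases Nat.lt_or_ge j 434177 with g7 | g7
  · exact chkTreeRange_spec 7 piT parT 3 425985 8192 tr_425985 j (by omega) (by omega)
  rcases Nat.lt_or_ge j 442369 with g8 | g8
  · exact chkTreeRange_spec 7 piT parT 3 434177 8192 tr_434177 j (by omega) (by omega)
  rcases Nat.lt_or_ge j 450561 with g9 | g9
  · exact chkTreeRange_spec 7 piT parT 3 442369 8192 tr_442369 j (by omega) (by omega)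
  rcases Nat.lt_or_ge j 458753 with g10 | g10
  · exact chkTreeRange_spec 7 piT parT 3 450561 8192 tr_450561 j (by omega) (by omega)
  rcases Nat.lt_or_ge j 466945 with g11 | g11
  · exact chkTreeRange_spec 7 piT parT 3 458753 8192 tr_458753 j (by omega) (by omega)
  rcases Nat.lt_or_ge j 475137 with g12 | g12
  · exact chkTreeRange_spec 7 piT parT 3 466945 8192 tr_466945 j (by omega) (by omega)
  rcases Nat.lt_or_ge j 483329 with g13 | g13
  · exact chkTreeRange_spec 7 piT parT 3 475137 8192 tr_475137 j (by omega) (by omega)
  exact chkTreeRange_spec 7 piT parT 3 483329 8192 tr_483329 j (by omega) (by omega)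
end Cfsg.Agent.Lib.Helper2.HNMult.P3
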