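import Cfsg.Agent.Lib.Helper2.HNMult.P3.Cert
set_option autoImplicit false
set_option maxRecDepth 1000000
set_option Elab.async false
namespace Cfsg.Agent.Lib.Helper2.HNMult.P3
open Cfsg.Agent.Lib.Helper4.Sparse
theorem tr_491521 : chkTreeRange 7 piT parT 3 491521 8192 = true := by decide +kernel
theorem tr_499713 : chkTreeRange 7 piT parT 3 499713 8192 = true := by decide +kernel
theorem tr_507905 : chkTreeRange 7 piT parT 3 507905 8192 = true := by decide +kernel
theorem tr_516097 : chkTreeRange 7 piT parT 3 516097 8192 = true := by decide +kernel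
theorem tr_524289 : chkTreeRange 7 piT parT 3 524289 8192 = true := by decide +kernel
theorem tr_532481 : chkTreeRange 7 piT parT 3 532481 8192 = true := by decide +kernel
theorem tr_540673 : chkTreeRange 7 piT parT 3 540673 8192 = true := by decide +kernel
theorem tr_548865 : chkTreeRange 7 piT parT 3 548865 8192 = true := by decide +kernel
theorem tr_557057 : chkTreeRange 7 piT parT 3 557057 8192 = true := by decide +kernel
theorem tr_565249 : chkTreeRange 7 piT parT 3 565249 8192 = true := by decide +kernel
theorem tr_573441 : chkTreeRange 7 piT parT 3 573441 8192 = true := by decide +kernel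
theorem tr_581633 : chkTreeRange 7 piT parT 3 581633 8192 = true := by decide +kernel
theorem tr_589825 : chkTreeRange 7 piT parT 3 589825 8192 = true := by decide +kernel
theorem tr_598017 : chkTreeRange 7 piT parT 3 598017 8192 = true := by decide +kernel
theorem tr_606209 : chkTreeRange 7 piT parT 3 606209 8192 = true := by decide +kernel
theorem treeP4 (j : ℕ) (h1 : 491521 ≤ j) (h2 : j < 614401) : chkTreeAt 7 piT parT 3 j = true := by
  rcases Nat.lt_or_ge j 499713 with g0 | g0
  · exact chkTreeRange_spec 7 piT parT 3 491521 8192 tr_491521 j (by omega) (by omega)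
  rcases Nat.lt_or_ge j 507905 with g1 | g1
  · exact chkTreeRange_spec 7 piT parT 3 499713 8192 tr_499713 j (by omega) (by omega)
  rcases Nat.lt_or_ge j 516097 with g2 | g2
  · exact chkTreeRange_spec 7 piT parT 3 507905 8192 tr_507905 j (by omega) (by omega)
  rcases Nat.lt_or_ge j 524289 with g3 | g3
  · exact chkTreeRange_spec 7 piT parT 3 516097 8192 tr_516097 j (by omega) (by omega)
  rcases Nat.lt_or_ge j 532481 with g4 | g4
  · exact chkTreeRange_spec 7 piT parT 3 524289 8192 tr_524289 j (by omega) (by omega)
  rcases Nat.lt_or_ge j 540673 with g5 | g5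
  · exact chkTreeRange_spec 7 piT parT 3 532481 8192 tr_532481 j (by omega) (by omega)
  rcases Nat.lt_or_ge j 548865 with g6 | g6
  · exact chkTreeRange_spec 7 piT parT 3 540673 8192 tr_540673 j (by omega) (by omega)
  rcases Nat.lt_or_ge j 557057 with g7 | g7
  · exact chkTreeRange_spec 7 piT parT 3 548865 8192 tr_548865 j (by omega) (by omega)
  rcases Nat.lt_or_ge j 565249 with g8 | g8
  · exact chkTreeRange_spec 7 piT parT 3 557057 8192 tr_557057 j (by omega) (by omega)
  rcases Nat.lt_or_ge j 573441 with g9 | g9
  · exact chkTreeRange_spec 7 piT parT 3 565249 8192 tr_565249 j (by omega) (by omega)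
  rcases Nat.lt_or_ge j 581633 with g10 | g10
  · exact chkTreeRange_spec 7 piT parT 3 573441 8192 tr_573441 j (by omega) (by omega)
  rcases Nat.lt_or_ge j 589825 with g11 | g11
  · exact chkTreeRange_spec 7 piT parT 3 581633 8192 tr_581633 j (by omega) (by omega)
  rcases Nat.lt_or_ge j 598017 with g12 | g12
  · exact chkTreeRange_spec 7 piT parT 3 589825 8192 tr_589825 j (by omega) (by omega)
  rcases Nat.lt_or_ge j 606209 with g13 | g13
  · exact chkTreeRange_spec 7 piT parT 3 598017 8192 tr_598017 j (by omega) (by omega)
  exact chkTreeRange_spec 7 piT parT 3 606209 8192 tr_606209 j (by omega) (by omega)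
end Cfsg.Agent.Lib.Helper2.HNMult.P3
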