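import Cfsg.Agent.Lib.Helper2.HNMult.P3.Cert
set_option autoImplicit false
set_option maxRecDepth 1000000
set_option Elab.async false
namespace Cfsg.Agent.Lib.Helper2.HNMult.P3
open Cfsg.Agent.Lib.Helper4.Sparse Cfsg.Agent.Lib.Helper2.SparseF
theorem ck_240 : chkURangeF D C relF 796 1237356000 491520 2048 = true := by decide +kernel
theorem ck_241 : chkURangeF D C relF 796 1237356000 493568 2048 = true := by decide +kernel
theorem ck_242 : chkURangeF D C relF 796 1237356000 495616 2048 = true := by decide +kernel
theorem ck_243 : chkURangeF D C relF 796 1237356000 497664 2048 = true := by decide +kernel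
theorem ck_244 : chkURangeF D C relF 796 1237356000 499712 2048 = true := by decide +kernel
theorem ck_245 : chkURangeF D C relF 796 1237356000 501760 2048 = true := by decide +kernel
theorem ck_246 : chkURangeF D C relF 796 1237356000 503808 2048 = true := by decide +kernel
theorem ck_247 : chkURangeF D C relF 796 1237356000 505856 2048 = true := by decide +kernel
theorem ck_248 : chkURangeF D C relF 796 1237356000 507904 2048 = true := by decide +kernel
theorem ck_249 : chkURangeF D C relF 796 1237356000 509952 2048 = true := by decide +kernel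
theorem ck_250 : chkURangeF D C relF 796 1237356000 512000 2048 = true := by decide +kernel
theorem ck_251 : chkURangeF D C relF 796 1237356000 514048 2048 = true := by decide +kernel
theorem ck_252 : chkURangeF D C relF 796 1237356000 516096 2048 = true := by decide +kernel
theorem ck_253 : chkURangeF D C relF 796 1237356000 518144 2048 = true := by decide +kernel
theorem ck_254 : chkURangeF D C relF 796 1237356000 520192 2048 = true := by decide +kernel
theorem ck_255 : chkURangeF D C relF 796 1237356000 522240 2048 = true := by decide +kernel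
theorem ck_256 : chkURangeF D C relF 796 1237356000 524288 2048 = true := by decide +kernel
theorem ck_257 : chkURangeF D C relF 796 1237356000 526336 2048 = true := by decide +kernel
theorem ck_258 : chkURangeF D C relF 796 1237356000 528384 2048 = true := by decide +kernel
theorem ck_259 : chkURangeF D C relF 796 1237356000 530432 2048 = true := by decide +kernel
theorem ck_260 : chkURangeF D C relF 796 1237356000 532480 2048 = true := by decide +kernel
theorem ck_261 : chkURangeF D C relF 796 1237356000 534528 2048 = true := by decide +kernel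
theorem ck_262 : chkURangeF D C relF 796 1237356000 536576 2048 = true := by decide +kernel
theorem ck_263 : chkURangeF D C relF 796 1237356000 538624 2048 = true := by decide +kernel
theorem chkU_10 (b : ℕ) (h1 : 491520 ≤ b) (h2 : b < 540672) : chkU D C b = true := by
  rcases Nat.lt_or_ge b 493568 with g0 | g0
  · exact chkURangeF_spec C relF_hyp 1237356000 tc_eq 491520 2048 ck_240 b (by omega) (by omega)
  rcases Nat.lt_or_ge b 495616 with g1 | g1
  · exact chkURangeF_spec C relF_hyp 1237356000 tc_eq 493568 2048 ck_241 b (by omega) (by omega)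
  rcases Nat.lt_or_ge b 497664 with g2 | g2
  · exact chkURangeF_spec C relF_hyp 1237356000 tc_eq 495616 2048 ck_242 b (by omega) (by omega)
  rcases Nat.lt_or_ge b 499712 with g3 | g3
  · exact chkURangeF_spec C relF_hyp 1237356000 tc_eq 497664 2048 ck_243 b (by omega) (by omega)
  rcases Nat.lt_or_ge b 501760 with g4 | g4
  · exact chkURangeF_spec C relF_hyp 1237356000 tc_eq 499712 2048 ck_244 b (by omega) (by omega)
  rcases Nat.lt_or_ge b 503808 with g5 | g5
  · exact chkURangeF_spec C relF_hyp 1237356000 tc_eq 501760 2048 ck_245 b (by omega) (by omega)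
  rcases Nat.lt_or_ge b 505856 with g6 | g6
  · exact chkURangeF_spec C relF_hyp 1237356000 tc_eq 503808 2048 ck_246 b (by omega) (by omega)
  rcases Nat.lt_or_ge b 507904 with g7 | g7
  · exact chkURangeF_spec C relF_hyp 1237356000 tc_eq 505856 2048 ck_247 b (by omega) (by omega)
  rcases Nat.lt_or_ge b 509952 with g8 | g8
  · exact chkURangeF_spec C relF_hyp 1237356000 tc_eq 507904 2048 ck_248 b (by omega) (by omega)
  rcases Nat.lt_or_ge b 512000 with g9 | g9
  · exact chkURangeF_spec C relF_hyp 1237356000 tc_eq 509952 2048 ck_249 b (by omega) (by omega)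
  rcases Nat.lt_or_ge b 514048 with g10 | g10
  · exact chkURangeF_spec C relF_hyp 1237356000 tc_eq 512000 2048 ck_250 b (by omega) (by omega)
  rcases Nat.lt_or_ge b 516096 with g11 | g11
  · exact chkURangeF_spec C relF_hyp 1237356000 tc_eq 514048 2048 ck_251 b (by omega) (by omega)
  rcases Nat.lt_or_ge b 518144 with g12 | g12
  · exact chkURangeF_spec C relF_hyp 1237356000 tc_eq 516096 2048 ck_252 b (by omega) (by omega)
  rcases Nat.lt_or_ge b 520192 with g13 | g13
  · exact chkURangeF_spec C relF_hyp 1237356000 tc_eq 518144 2048 ck_253 b (by omega) (by omega)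
  rcases Nat.lt_or_ge b 522240 with g14 | g14
  · exact chkURangeF_spec C relF_hyp 1237356000 tc_eq 520192 2048 ck_254 b (by omega) (by omega)
  rcases Nat.lt_or_ge b 524288 with g15 | g15
  · exact chkURangeF_spec C relF_hyp 1237356000 tc_eq 522240 2048 ck_255 b (by omega) (by omega)
  rcases Nat.lt_or_ge b 526336 with g16 | g16
  · exact chkURangeF_spec C relF_hyp 1237356000 tc_eq 524288 2048 ck_256 b (by omega) (by omega)
  rcases Nat.lt_or_ge b 528384 with g17 | g17
  · exact chkURangeF_spec C relF_hyp 1237356000 tc_eq 526336 2048 ck_257 b (by omega) (by omega)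
  rcases Nat.lt_or_ge b 530432 with g18 | g18
  · exact chkURangeF_spec C relF_hyp 1237356000 tc_eq 528384 2048 ck_258 b (by omega) (by omega)
  rcases Nat.lt_or_ge b 532480 with g19 | g19
  · exact chkURangeF_spec C relF_hyp 1237356000 tc_eq 530432 2048 ck_259 b (by omega) (by omega)
  rcases Nat.lt_or_ge b 534528 with g20 | g20
  · exact chkURangeF_spec C relF_hyp 1237356000 tc_eq 532480 2048 ck_260 b (by omega) (by omega)
  rcases Nat.lt_or_ge b 536576 with g21 | g21
  · exact chkURangeF_spec C relF_hyp 1237356000 tc_eq 534528 2048 ck_261 b (by omega) (by omega)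
  rcases Nat.lt_or_ge b 538624 with g22 | g22
  · exact chkURangeF_spec C relF_hyp 1237356000 tc_eq 536576 2048 ck_262 b (by omega) (by omega)
  exact chkURangeF_spec C relF_hyp 1237356000 tc_eq 538624 2048 ck_263 b (by omega) (by omega)
end Cfsg.Agent.Lib.Helper2.HNMult.P3
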