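import Cfsg.Agent.Lib.Helper2.HNMult.P3.Cert
set_option autoImplicit false
set_option maxRecDepth 1000000
set_option Elab.async false
namespace Cfsg.Agent.Lib.Helper2.HNMult.P3
open Cfsg.Agent.Lib.Helper4.Sparse Cfsg.Agent.Lib.Helper2.SparseF
theorem ck_2448 : chkURangeF D C relF 796 1237356000 5013504 2048 = true := by decide +kernel
theorem ck_2449 : chkURangeF D C relF 796 1237356000 5015552 2048 = true := by decide +kernel
theorem ck_2450 : chkURangeF D C relF 796 1237356000 5017600 2048 = true := by decide +kernel
theorem ck_2451 : chkURangeF D C relF 796 1237356000 5019648 2048 = true := by decide +kernel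
theorem ck_2452 : chkURangeF D C relF 796 1237356000 5021696 2048 = true := by decide +kernel
theorem ck_2453 : chkURangeF D C relF 796 1237356000 5023744 2048 = true := by decide +kernel
theorem ck_2454 : chkURangeF D C relF 796 1237356000 5025792 2048 = true := by decide +kernel
theorem ck_2455 : chkURangeF D C relF 796 1237356000 5027840 2048 = true := by decide +kernel
theorem ck_2456 : chkURangeF D C relF 796 1237356000 5029888 2048 = true := by decide +kernel
theorem ck_2457 : chkURangeF D C relF 796 1237356000 5031936 2048 = true := by decide +kernel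
theorem ck_2458 : chkURangeF D C relF 796 1237356000 5033984 2048 = true := by decide +kernel
theorem ck_2459 : chkURangeF D C relF 796 1237356000 5036032 2048 = true := by decide +kernel
theorem ck_2460 : chkURangeF D C relF 796 1237356000 5038080 2048 = true := by decide +kernel
theorem ck_2461 : chkURangeF D C relF 796 1237356000 5040128 2048 = true := by decide +kernel
theorem ck_2462 : chkURangeF D C relF 796 1237356000 5042176 2048 = true := by decide +kernel
theorem ck_2463 : chkURangeF D C relF 796 1237356000 5044224 2048 = true := by decide +kernel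
theorem ck_2464 : chkURangeF D C relF 796 1237356000 5046272 2048 = true := by decide +kernel
theorem ck_2465 : chkURangeF D C relF 796 1237356000 5048320 2048 = true := by decide +kernel
theorem ck_2466 : chkURangeF D C relF 796 1237356000 5050368 2048 = true := by decide +kernel
theorem ck_2467 : chkURangeF D C relF 796 1237356000 5052416 2048 = true := by decide +kernel
theorem ck_2468 : chkURangeF D C relF 796 1237356000 5054464 2048 = true := by decide +kernel
theorem ck_2469 : chkURangeF D C relF 796 1237356000 5056512 2048 = true := by decide +kernel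
theorem ck_2470 : chkURangeF D C relF 796 1237356000 5058560 2048 = true := by decide +kernel
theorem ck_2471 : chkURangeF D C relF 796 1237356000 5060608 2048 = true := by decide +kernel
theorem chkU_102 (b : ℕ) (h1 : 5013504 ≤ b) (h2 : b < 5062656) : chkU D C b = true := by
  rcases Nat.lt_or_ge b 5015552 with g0 | g0
  · exact chkURangeF_spec C relF_hyp 1237356000 tc_eq 5013504 2048 ck_2448 b (by omega) (by omega)
  rcases Nat.lt_or_ge b 5017600 with g1 | g1
  · exact chkURangeF_spec C relF_hyp 1237356000 tc_eq 5015552 2048 ck_2449 b (by omega) (by omega)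
  rcases Nat.lt_or_ge b 5019648 with g2 | g2
  · exact chkURangeF_spec C relF_hyp 1237356000 tc_eq 5017600 2048 ck_2450 b (by omega) (by omega)
  rcases Nat.lt_or_ge b 5021696 with g3 | g3
  · exact chkURangeF_spec C relF_hyp 1237356000 tc_eq 5019648 2048 ck_2451 b (by omega) (by omega)
  rcases Nat.lt_or_ge b 5023744 with g4 | g4
  · exact chkURangeF_spec C relF_hyp 1237356000 tc_eq 5021696 2048 ck_2452 b (by omega) (by omega)
  rcases Nat.lt_or_ge b 5025792 with g5 | g5
  · exact chkURangeF_spec C relF_hyp 1237356000 tc_eq 5023744 2048 ck_2453 b (by omega) (by omega)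
  rcases Nat.lt_or_ge b 5027840 with g6 | g6
  · exact chkURangeF_spec C relF_hyp 1237356000 tc_eq 5025792 2048 ck_2454 b (by omega) (by omega)
  rcases Nat.lt_or_ge b 5029888 with g7 | g7
  · exact chkURangeF_spec C relF_hyp 1237356000 tc_eq 5027840 2048 ck_2455 b (by omega) (by omega)
  rcases Nat.lt_or_ge b 5031936 with g8 | g8
  · exact chkURangeF_spec C relF_hyp 1237356000 tc_eq 5029888 2048 ck_2456 b (by omega) (by omega)
  rcases Nat.lt_or_ge b 5033984 with g9 | g9
  · exact chkURangeF_spec C relF_hyp 1237356000 tc_eq 5031936 2048 ck_2457 b (by omega) (by omega)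
  rcases Nat.lt_or_ge b 5036032 with g10 | g10
  · exact chkURangeF_spec C relF_hyp 1237356000 tc_eq 5033984 2048 ck_2458 b (by omega) (by omega)
  rcases Nat.lt_or_ge b 5038080 with g11 | g11
  · exact chkURangeF_spec C relF_hyp 1237356000 tc_eq 5036032 2048 ck_2459 b (by omega) (by omega)
  rcases Nat.lt_or_ge b 5040128 with g12 | g12
  · exact chkURangeF_spec C relF_hyp 1237356000 tc_eq 5038080 2048 ck_2460 b (by omega) (by omega)
  rcases Nat.lt_or_ge b 5042176 with g13 | g13
  · exact chkURangeF_spec C relF_hyp 1237356000 tc_eq 5040128 2048 ck_2461 b (by omega) (by omega)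
  rcases Nat.lt_or_ge b 5044224 with g14 | g14
  · exact chkURangeF_spec C relF_hyp 1237356000 tc_eq 5042176 2048 ck_2462 b (by omega) (by omega)
  rcases Nat.lt_or_ge b 5046272 with g15 | g15
  · exact chkURangeF_spec C relF_hyp 1237356000 tc_eq 5044224 2048 ck_2463 b (by omega) (by omega)
  rcases Nat.lt_or_ge b 5048320 with g16 | g16
  · exact chkURangeF_spec C relF_hyp 1237356000 tc_eq 5046272 2048 ck_2464 b (by omega) (by omega)
  rcases Nat.lt_or_ge b 5050368 with g17 | g17
  · exact chkURangeF_spec C relF_hyp 1237356000 tc_eq 5048320 2048 ck_2465 b (by omega) (by omega)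
  rcases Nat.lt_or_ge b 5052416 with g18 | g18
  · exact chkURangeF_spec C relF_hyp 1237356000 tc_eq 5050368 2048 ck_2466 b (by omega) (by omega)
  rcases Nat.lt_or_ge b 5054464 with g19 | g19
  · exact chkURangeF_spec C relF_hyp 1237356000 tc_eq 5052416 2048 ck_2467 b (by omega) (by omega)
  rcases Nat.lt_or_ge b 5056512 with g20 | g20
  · exact chkURangeF_spec C relF_hyp 1237356000 tc_eq 5054464 2048 ck_2468 b (by omega) (by omega)
  rcases Nat.lt_or_ge b 5058560 with g21 | g21
  · exact chkURangeF_spec C relF_hyp 1237356000 tc_eq 5056512 2048 ck_2469 b (by omega) (by omega)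
  rcases Nat.lt_or_ge b 5060608 with g22 | g22
  · exact chkURangeF_spec C relF_hyp 1237356000 tc_eq 5058560 2048 ck_2470 b (by omega) (by omega)
  exact chkURangeF_spec C relF_hyp 1237356000 tc_eq 5060608 2048 ck_2471 b (by omega) (by omega)
end Cfsg.Agent.Lib.Helper2.HNMult.P3
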