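import Cfsg.Agent.Lib.Helper2.HNMult.P3.Cert
set_option autoImplicit false
set_option maxRecDepth 1000000
set_option Elab.async false
namespace Cfsg.Agent.Lib.Helper2.HNMult.P3
open Cfsg.Agent.Lib.Helper4.Sparse Cfsg.Agent.Lib.Helper2.SparseF
theorem ck_2640 : chkURangeF D C relF 796 1237356000 5406720 2048 = true := by decide +kernel
theorem ck_2641 : chkURangeF D C relF 796 1237356000 5408768 2048 = true := by decide +kernel
theorem ck_2642 : chkURangeF D C relF 796 1237356000 5410816 2048 = true := by decide +kernel
theorem ck_2643 : chkURangeF D C relF 796 1237356000 5412864 2048 = true := by decide +kernel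
theorem ck_2644 : chkURangeF D C relF 796 1237356000 5414912 2048 = true := by decide +kernel
theorem ck_2645 : chkURangeF D C relF 796 1237356000 5416960 2048 = true := by decide +kernel
theorem ck_2646 : chkURangeF D C relF 796 1237356000 5419008 2048 = true := by decide +kernel
theorem ck_2647 : chkURangeF D C relF 796 1237356000 5421056 2048 = true := by decide +kernel
theorem ck_2648 : chkURangeF D C relF 796 1237356000 5423104 2048 = true := by decide +kernel
theorem ck_2649 : chkURangeF D C relF 796 1237356000 5425152 2048 = true := by decide +kernel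
theorem ck_2650 : chkURangeF D C relF 796 1237356000 5427200 2048 = true := by decide +kernel
theorem ck_2651 : chkURangeF D C relF 796 1237356000 5429248 2048 = true := by decide +kernel
theorem ck_2652 : chkURangeF D C relF 796 1237356000 5431296 2048 = true := by decide +kernel
theorem ck_2653 : chkURangeF D C relF 796 1237356000 5433344 2048 = true := by decide +kernel
theorem ck_2654 : chkURangeF D C relF 796 1237356000 5435392 2048 = true := by decide +kernel
theorem ck_2655 : chkURangeF D C relF 796 1237356000 5437440 2048 = true := by decide +kernel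
theorem ck_2656 : chkURangeF D C relF 796 1237356000 5439488 2048 = true := by decide +kernel
theorem ck_2657 : chkURangeF D C relF 796 1237356000 5441536 2048 = true := by decide +kernel
theorem ck_2658 : chkURangeF D C relF 796 1237356000 5443584 2048 = true := by decide +kernel
theorem ck_2659 : chkURangeF D C relF 796 1237356000 5445632 2048 = true := by decide +kernel
theorem ck_2660 : chkURangeF D C relF 796 1237356000 5447680 2048 = true := by decide +kernel
theorem ck_2661 : chkURangeF D C relF 796 1237356000 5449728 2048 = true := by decide +kernel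
theorem ck_2662 : chkURangeF D C relF 796 1237356000 5451776 2048 = true := by decide +kernel
theorem ck_2663 : chkURangeF D C relF 796 1237356000 5453824 2048 = true := by decide +kernel
theorem chkU_110 (b : ℕ) (h1 : 5406720 ≤ b) (h2 : b < 5455872) : chkU D C b = true := by
  rcases Nat.lt_or_ge b 5408768 with g0 | g0
  · exact chkURangeF_spec C relF_hyp 1237356000 tc_eq 5406720 2048 ck_2640 b (by omega) (by omega)
  rcases Nat.lt_or_ge b 5410816 with g1 | g1
  · exact chkURangeF_spec C relF_hyp 1237356000 tc_eq 5408768 2048 ck_2641 b (by omega) (by omega)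
  rcases Nat.lt_or_ge b 5412864 with g2 | g2
  · exact chkURangeF_spec C relF_hyp 1237356000 tc_eq 5410816 2048 ck_2642 b (by omega) (by omega)
  rcases Nat.lt_or_ge b 5414912 with g3 | g3
  · exact chkURangeF_spec C relF_hyp 1237356000 tc_eq 5412864 2048 ck_2643 b (by omega) (by omega)
  rcases Nat.lt_or_ge b 5416960 with g4 | g4
  · exact chkURangeF_spec C relF_hyp 1237356000 tc_eq 5414912 2048 ck_2644 b (by omega) (by omega)
  rcases Nat.lt_or_ge b 5419008 with g5 | g5
  · exact chkURangeF_spec C relF_hyp 1237356000 tc_eq 5416960 2048 ck_2645 b (by omega) (by omega)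
  rcases Nat.lt_or_ge b 5421056 with g6 | g6
  · exact chkURangeF_spec C relF_hyp 1237356000 tc_eq 5419008 2048 ck_2646 b (by omega) (by omega)
  rcases Nat.lt_or_ge b 5423104 with g7 | g7
  · exact chkURangeF_spec C relF_hyp 1237356000 tc_eq 5421056 2048 ck_2647 b (by omega) (by omega)
  rcases Nat.lt_or_ge b 5425152 with g8 | g8
  · exact chkURangeF_spec C relF_hyp 1237356000 tc_eq 5423104 2048 ck_2648 b (by omega) (by omega)
  rcases Nat.lt_or_ge b 5427200 with g9 | g9
  · exact chkURangeF_spec C relF_hyp 1237356000 tc_eq 5425152 2048 ck_2649 b (by omega) (by omega)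
  rcases Nat.lt_or_ge b 5429248 with g10 | g10
  · exact chkURangeF_spec C relF_hyp 1237356000 tc_eq 5427200 2048 ck_2650 b (by omega) (by omega)
  rcases Nat.lt_or_ge b 5431296 with g11 | g11
  · exact chkURangeF_spec C relF_hyp 1237356000 tc_eq 5429248 2048 ck_2651 b (by omega) (by omega)
  rcases Nat.lt_or_ge b 5433344 with g12 | g12
  · exact chkURangeF_spec C relF_hyp 1237356000 tc_eq 5431296 2048 ck_2652 b (by omega) (by omega)
  rcases Nat.lt_or_ge b 5435392 with g13 | g13
  · exact chkURangeF_spec C relF_hyp 1237356000 tc_eq 5433344 2048 ck_2653 b (by omega) (by omega)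
  rcases Nat.lt_or_ge b 5437440 with g14 | g14
  · exact chkURangeF_spec C relF_hyp 1237356000 tc_eq 5435392 2048 ck_2654 b (by omega) (by omega)
  rcases Nat.lt_or_ge b 5439488 with g15 | g15
  · exact chkURangeF_spec C relF_hyp 1237356000 tc_eq 5437440 2048 ck_2655 b (by omega) (by omega)
  rcases Nat.lt_or_ge b 5441536 with g16 | g16
  · exact chkURangeF_spec C relF_hyp 1237356000 tc_eq 5439488 2048 ck_2656 b (by omega) (by omega)
  rcases Nat.lt_or_ge b 5443584 with g17 | g17
  · exact chkURangeF_spec C relF_hyp 1237356000 tc_eq 5441536 2048 ck_2657 b (by omega) (by omega)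
  rcases Nat.lt_or_ge b 5445632 with g18 | g18
  · exact chkURangeF_spec C relF_hyp 1237356000 tc_eq 5443584 2048 ck_2658 b (by omega) (by omega)
  rcases Nat.lt_or_ge b 5447680 with g19 | g19
  · exact chkURangeF_spec C relF_hyp 1237356000 tc_eq 5445632 2048 ck_2659 b (by omega) (by omega)
  rcases Nat.lt_or_ge b 5449728 with g20 | g20
  · exact chkURangeF_spec C relF_hyp 1237356000 tc_eq 5447680 2048 ck_2660 b (by omega) (by omega)
  rcases Nat.lt_or_ge b 5451776 with g21 | g21
  · exact chkURangeF_spec C relF_hyp 1237356000 tc_eq 5449728 2048 ck_2661 b (by omega) (by omega)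
  rcases Nat.lt_or_ge b 5453824 with g22 | g22
  · exact chkURangeF_spec C relF_hyp 1237356000 tc_eq 5451776 2048 ck_2662 b (by omega) (by omega)
  exact chkURangeF_spec C relF_hyp 1237356000 tc_eq 5453824 2048 ck_2663 b (by omega) (by omega)
end Cfsg.Agent.Lib.Helper2.HNMult.P3
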