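import Cfsg.Agent.Lib.Helper2.HNMult.P3.Cert
set_option autoImplicit false
set_option maxRecDepth 1000000
set_option Elab.async false
namespace Cfsg.Agent.Lib.Helper2.HNMult.P3
open Cfsg.Agent.Lib.Helper4.Sparse Cfsg.Agent.Lib.Helper2.SparseF
theorem ck_2688 : chkURangeF D C relF 796 1237356000 5505024 2048 = true := by decide +kernel
theorem ck_2689 : chkURangeF D C relF 796 1237356000 5507072 2048 = true := by decide +kernel
theorem ck_2690 : chkURangeF D C relF 796 1237356000 5509120 2048 = true := by decide +kernel
theorem ck_2691 : chkURangeF D C relF 796 1237356000 5511168 2048 = true := by decide +kernel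
theorem ck_2692 : chkURangeF D C relF 796 1237356000 5513216 2048 = true := by decide +kernel
theorem ck_2693 : chkURangeF D C relF 796 1237356000 5515264 2048 = true := by decide +kernel
theorem ck_2694 : chkURangeF D C relF 796 1237356000 5517312 2048 = true := by decide +kernel
theorem ck_2695 : chkURangeF D C relF 796 1237356000 5519360 2048 = true := by decide +kernel
theorem ck_2696 : chkURangeF D C relF 796 1237356000 5521408 2048 = true := by decide +kernel
theorem ck_2697 : chkURangeF D C relF 796 1237356000 5523456 2048 = true := by decide +kernel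
theorem ck_2698 : chkURangeF D C relF 796 1237356000 5525504 2048 = true := by decide +kernel
theorem ck_2699 : chkURangeF D C relF 796 1237356000 5527552 2048 = true := by decide +kernel
theorem ck_2700 : chkURangeF D C relF 796 1237356000 5529600 2048 = true := by decide +kernel
theorem ck_2701 : chkURangeF D C relF 796 1237356000 5531648 2048 = true := by decide +kernel
theorem ck_2702 : chkURangeF D C relF 796 1237356000 5533696 2048 = true := by decide +kernel
theorem ck_2703 : chkURangeF D C relF 796 1237356000 5535744 2048 = true := by decide +kernel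
theorem ck_2704 : chkURangeF D C relF 796 1237356000 5537792 2048 = true := by decide +kernel
theorem ck_2705 : chkURangeF D C relF 796 1237356000 5539840 2048 = true := by decide +kernel
theorem ck_2706 : chkURangeF D C relF 796 1237356000 5541888 2048 = true := by decide +kernel
theorem ck_2707 : chkURangeF D C relF 796 1237356000 5543936 2048 = true := by decide +kernel
theorem ck_2708 : chkURangeF D C relF 796 1237356000 5545984 2048 = true := by decide +kernel
theorem ck_2709 : chkURangeF D C relF 796 1237356000 5548032 2048 = true := by decide +kernel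
theorem ck_2710 : chkURangeF D C relF 796 1237356000 5550080 2048 = true := by decide +kernel
theorem ck_2711 : chkURangeF D C relF 796 1237356000 5552128 2048 = true := by decide +kernel
theorem chkU_112 (b : ℕ) (h1 : 5505024 ≤ b) (h2 : b < 5554176) : chkU D C b = true := by
  rcases Nat.lt_or_ge b 5507072 with g0 | g0
  · exact chkURangeF_spec C relF_hyp 1237356000 tc_eq 5505024 2048 ck_2688 b (by omega) (by omega)
  rcases Nat.lt_or_ge b 5509120 with g1 | g1
  · exact chkURangeF_spec C relF_hyp 1237356000 tc_eq 5507072 2048 ck_2689 b (by omega) (by omega)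
  rcases Nat.lt_or_ge b 5511168 with g2 | g2
  · exact chkURangeF_spec C relF_hyp 1237356000 tc_eq 5509120 2048 ck_2690 b (by omega) (by omega)
  rcases Nat.lt_or_ge b 5513216 with g3 | g3
  · exact chkURangeF_spec C relF_hyp 1237356000 tc_eq 5511168 2048 ck_2691 b (by omega) (by omega)
  rcases Nat.lt_or_ge b 5515264 with g4 | g4
  · exact chkURangeF_spec C relF_hyp 1237356000 tc_eq 5513216 2048 ck_2692 b (by omega) (by omega)
  rcases Nat.lt_or_ge b 5517312 with g5 | g5
  · exact chkURangeF_spec C relF_hyp 1237356000 tc_eq 5515264 2048 ck_2693 b (by omega) (by omega)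
  rcases Nat.lt_or_ge b 5519360 with g6 | g6
  · exact chkURangeF_spec C relF_hyp 1237356000 tc_eq 5517312 2048 ck_2694 b (by omega) (by omega)
  rcases Nat.lt_or_ge b 5521408 with g7 | g7
  · exact chkURangeF_spec C relF_hyp 1237356000 tc_eq 5519360 2048 ck_2695 b (by omega) (by omega)
  rcases Nat.lt_or_ge b 5523456 with g8 | g8
  · exact chkURangeF_spec C relF_hyp 1237356000 tc_eq 5521408 2048 ck_2696 b (by omega) (by omega)
  rcases Nat.lt_or_ge b 5525504 with g9 | g9
  · exact chkURangeF_spec C relF_hyp 1237356000 tc_eq 5523456 2048 ck_2697 b (by omega) (by omega)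
  rcases Nat.lt_or_ge b 5527552 with g10 | g10
  · exact chkURangeF_spec C relF_hyp 1237356000 tc_eq 5525504 2048 ck_2698 b (by omega) (by omega)
  rcases Nat.lt_or_ge b 5529600 with g11 | g11
  · exact chkURangeF_spec C relF_hyp 1237356000 tc_eq 5527552 2048 ck_2699 b (by omega) (by omega)
  rcases Nat.lt_or_ge b 5531648 with g12 | g12
  · exact chkURangeF_spec C relF_hyp 1237356000 tc_eq 5529600 2048 ck_2700 b (by omega) (by omega)
  rcases Nat.lt_or_ge b 5533696 with g13 | g13
  · exact chkURangeF_spec C relF_hyp 1237356000 tc_eq 5531648 2048 ck_2701 b (by omega) (by omega)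
  rcases Nat.lt_or_ge b 5535744 with g14 | g14
  · exact chkURangeF_spec C relF_hyp 1237356000 tc_eq 5533696 2048 ck_2702 b (by omega) (by omega)
  rcases Nat.lt_or_ge b 5537792 with g15 | g15
  · exact chkURangeF_spec C relF_hyp 1237356000 tc_eq 5535744 2048 ck_2703 b (by omega) (by omega)
  rcases Nat.lt_or_ge b 5539840 with g16 | g16
  · exact chkURangeF_spec C relF_hyp 1237356000 tc_eq 5537792 2048 ck_2704 b (by omega) (by omega)
  rcases Nat.lt_or_ge b 5541888 with g17 | g17
  · exact chkURangeF_spec C relF_hyp 1237356000 tc_eq 5539840 2048 ck_2705 b (by omega) (by omega)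
  rcases Nat.lt_or_ge b 5543936 with g18 | g18
  · exact chkURangeF_spec C relF_hyp 1237356000 tc_eq 5541888 2048 ck_2706 b (by omega) (by omega)
  rcases Nat.lt_or_ge b 5545984 with g19 | g19
  · exact chkURangeF_spec C relF_hyp 1237356000 tc_eq 5543936 2048 ck_2707 b (by omega) (by omega)
  rcases Nat.lt_or_ge b 5548032 with g20 | g20
  · exact chkURangeF_spec C relF_hyp 1237356000 tc_eq 5545984 2048 ck_2708 b (by omega) (by omega)
  rcases Nat.lt_or_ge b 5550080 with g21 | g21
  · exact chkURangeF_spec C relF_hyp 1237356000 tc_eq 5548032 2048 ck_2709 b (by omega) (by omega)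
  rcases Nat.lt_or_ge b 5552128 with g22 | g22
  · exact chkURangeF_spec C relF_hyp 1237356000 tc_eq 5550080 2048 ck_2710 b (by omega) (by omega)
  exact chkURangeF_spec C relF_hyp 1237356000 tc_eq 5552128 2048 ck_2711 b (by omega) (by omega)
end Cfsg.Agent.Lib.Helper2.HNMult.P3
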