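import Cfsg.Agent.Lib.Helper2.HNMult.P3.Cert
set_option autoImplicit false
set_option maxRecDepth 1000000
set_option Elab.async false
namespace Cfsg.Agent.Lib.Helper2.HNMult.P3
open Cfsg.Agent.Lib.Helper4.Sparse Cfsg.Agent.Lib.Helper2.SparseF
theorem ck_2712 : chkURangeF D C relF 796 1237356000 5554176 2048 = true := by decide +kernel
theorem ck_2713 : chkURangeF D C relF 796 1237356000 5556224 2048 = true := by decide +kernel
theorem ck_2714 : chkURangeF D C relF 796 1237356000 5558272 2048 = true := by decide +kernel
theorem ck_2715 : chkURangeF D C relF 796 1237356000 5560320 2048 = true := by decide +kernel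
theorem ck_2716 : chkURangeF D C relF 796 1237356000 5562368 2048 = true := by decide +kernel
theorem ck_2717 : chkURangeF D C relF 796 1237356000 5564416 2048 = true := by decide +kernel
theorem ck_2718 : chkURangeF D C relF 796 1237356000 5566464 2048 = true := by decide +kernel
theorem ck_2719 : chkURangeF D C relF 796 1237356000 5568512 2048 = true := by decide +kernel
theorem ck_2720 : chkURangeF D C relF 796 1237356000 5570560 2048 = true := by decide +kernel
theorem ck_2721 : chkURangeF D C relF 796 1237356000 5572608 2048 = true := by decide +kernel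
theorem ck_2722 : chkURangeF D C relF 796 1237356000 5574656 2048 = true := by decide +kernel
theorem ck_2723 : chkURangeF D C relF 796 1237356000 5576704 2048 = true := by decide +kernel
theorem ck_2724 : chkURangeF D C relF 796 1237356000 5578752 2048 = true := by decide +kernel
theorem ck_2725 : chkURangeF D C relF 796 1237356000 5580800 2048 = true := by decide +kernel
theorem ck_2726 : chkURangeF D C relF 796 1237356000 5582848 2048 = true := by decide +kernel
theorem ck_2727 : chkURangeF D C relF 796 1237356000 5584896 2048 = true := by decide +kernel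
theorem ck_2728 : chkURangeF D C relF 796 1237356000 5586944 2048 = true := by decide +kernel
theorem ck_2729 : chkURangeF D C relF 796 1237356000 5588992 2048 = true := by decide +kernel
theorem ck_2730 : chkURangeF D C relF 796 1237356000 5591040 2048 = true := by decide +kernel
theorem ck_2731 : chkURangeF D C relF 796 1237356000 5593088 2048 = true := by decide +kernel
theorem ck_2732 : chkURangeF D C relF 796 1237356000 5595136 2048 = true := by decide +kernel
theorem ck_2733 : chkURangeF D C relF 796 1237356000 5597184 2048 = true := by decide +kernel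
theorem ck_2734 : chkURangeF D C relF 796 1237356000 5599232 2048 = true := by decide +kernel
theorem ck_2735 : chkURangeF D C relF 796 1237356000 5601280 2048 = true := by decide +kernel
theorem chkU_113 (b : ℕ) (h1 : 5554176 ≤ b) (h2 : b < 5603328) : chkU D C b = true := by
  rcases Nat.lt_or_ge b 5556224 with g0 | g0
  · exact chkURangeF_spec C relF_hyp 1237356000 tc_eq 5554176 2048 ck_2712 b (by omega) (by omega)
  rcases Nat.lt_or_ge b 5558272 with g1 | g1
  · exact chkURangeF_spec C relF_hyp 1237356000 tc_eq 5556224 2048 ck_2713 b (by omega) (by omega)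
  rcases Nat.lt_or_ge b 5560320 with g2 | g2
  · exact chkURangeF_spec C relF_hyp 1237356000 tc_eq 5558272 2048 ck_2714 b (by omega) (by omega)
  rcases Nat.lt_or_ge b 5562368 with g3 | g3
  · exact chkURangeF_spec C relF_hyp 1237356000 tc_eq 5560320 2048 ck_2715 b (by omega) (by omega)
  rcases Nat.lt_or_ge b 5564416 with g4 | g4
  · exact chkURangeF_spec C relF_hyp 1237356000 tc_eq 5562368 2048 ck_2716 b (by omega) (by omega)
  rcases Nat.lt_or_ge b 5566464 with g5 | g5
  · exact chkURangeF_spec C relF_hyp 1237356000 tc_eq 5564416 2048 ck_2717 b (by omega) (by omega)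
  rcases Nat.lt_or_ge b 5568512 with g6 | g6
  · exact chkURangeF_spec C relF_hyp 1237356000 tc_eq 5566464 2048 ck_2718 b (by omega) (by omega)
  rcases Nat.lt_or_ge b 5570560 with g7 | g7
  · exact chkURangeF_spec C relF_hyp 1237356000 tc_eq 5568512 2048 ck_2719 b (by omega) (by omega)
  rcases Nat.lt_or_ge b 5572608 with g8 | g8
  · exact chkURangeF_spec C relF_hyp 1237356000 tc_eq 5570560 2048 ck_2720 b (by omega) (by omega)
  rcases Nat.lt_or_ge b 5574656 with g9 | g9
  · exact chkURangeF_spec C relF_hyp 1237356000 tc_eq 5572608 2048 ck_2721 b (by omega) (by omega)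
  rcases Nat.lt_or_ge b 5576704 with g10 | g10
  · exact chkURangeF_spec C relF_hyp 1237356000 tc_eq 5574656 2048 ck_2722 b (by omega) (by omega)
  rcases Nat.lt_or_ge b 5578752 with g11 | g11
  · exact chkURangeF_spec C relF_hyp 1237356000 tc_eq 5576704 2048 ck_2723 b (by omega) (by omega)
  rcases Nat.lt_or_ge b 5580800 with g12 | g12
  · exact chkURangeF_spec C relF_hyp 1237356000 tc_eq 5578752 2048 ck_2724 b (by omega) (by omega)
  rcases Nat.lt_or_ge b 5582848 with g13 | g13
  · exact chkURangeF_spec C relF_hyp 1237356000 tc_eq 5580800 2048 ck_2725 b (by omega) (by omega)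
  rcases Nat.lt_or_ge b 5584896 with g14 | g14
  · exact chkURangeF_spec C relF_hyp 1237356000 tc_eq 5582848 2048 ck_2726 b (by omega) (by omega)
  rcases Nat.lt_or_ge b 5586944 with g15 | g15
  · exact chkURangeF_spec C relF_hyp 1237356000 tc_eq 5584896 2048 ck_2727 b (by omega) (by omega)
  rcases Nat.lt_or_ge b 5588992 with g16 | g16
  · exact chkURangeF_spec C relF_hyp 1237356000 tc_eq 5586944 2048 ck_2728 b (by omega) (by omega)
  rcases Nat.lt_or_ge b 5591040 with g17 | g17
  · exact chkURangeF_spec C relF_hyp 1237356000 tc_eq 5588992 2048 ck_2729 b (by omega) (by omega)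
  rcases Nat.lt_or_ge b 5593088 with g18 | g18
  · exact chkURangeF_spec C relF_hyp 1237356000 tc_eq 5591040 2048 ck_2730 b (by omega) (by omega)
  rcases Nat.lt_or_ge b 5595136 with g19 | g19
  · exact chkURangeF_spec C relF_hyp 1237356000 tc_eq 5593088 2048 ck_2731 b (by omega) (by omega)
  rcases Nat.lt_or_ge b 5597184 with g20 | g20
  · exact chkURangeF_spec C relF_hyp 1237356000 tc_eq 5595136 2048 ck_2732 b (by omega) (by omega)
  rcases Nat.lt_or_ge b 5599232 with g21 | g21
  · exact chkURangeF_spec C relF_hyp 1237356000 tc_eq 5597184 2048 ck_2733 b (by omega) (by omega)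
  rcases Nat.lt_or_ge b 5601280 with g22 | g22
  · exact chkURangeF_spec C relF_hyp 1237356000 tc_eq 5599232 2048 ck_2734 b (by omega) (by omega)
  exact chkURangeF_spec C relF_hyp 1237356000 tc_eq 5601280 2048 ck_2735 b (by omega) (by omega)
end Cfsg.Agent.Lib.Helper2.HNMult.P3
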