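import Cfsg.Agent.Lib.Helper2.HNMult.P3.Cert
set_option autoImplicit false
set_option maxRecDepth 1000000
set_option Elab.async false
namespace Cfsg.Agent.Lib.Helper2.HNMult.P3
open Cfsg.Agent.Lib.Helper4.Sparse Cfsg.Agent.Lib.Helper2.SparseF
theorem ck_2784 : chkURangeF D C relF 796 1237356000 5701632 2048 = true := by decide +kernel
theorem ck_2785 : chkURangeF D C relF 796 1237356000 5703680 2048 = true := by decide +kernel
theorem ck_2786 : chkURangeF D C relF 796 1237356000 5705728 2048 = true := by decide +kernel
theorem ck_2787 : chkURangeF D C relF 796 1237356000 5707776 2048 = true := by decide +kernel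
theorem ck_2788 : chkURangeF D C relF 796 1237356000 5709824 2048 = true := by decide +kernel
theorem ck_2789 : chkURangeF D C relF 796 1237356000 5711872 2048 = true := by decide +kernel
theorem ck_2790 : chkURangeF D C relF 796 1237356000 5713920 2048 = true := by decide +kernel
theorem ck_2791 : chkURangeF D C relF 796 1237356000 5715968 2048 = true := by decide +kernel
theorem ck_2792 : chkURangeF D C relF 796 1237356000 5718016 2048 = true := by decide +kernel
theorem ck_2793 : chkURangeF D C relF 796 1237356000 5720064 2048 = true := by decide +kernel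
theorem ck_2794 : chkURangeF D C relF 796 1237356000 5722112 2048 = true := by decide +kernel
theorem ck_2795 : chkURangeF D C relF 796 1237356000 5724160 2048 = true := by decide +kernel
theorem ck_2796 : chkURangeF D C relF 796 1237356000 5726208 2048 = true := by decide +kernel
theorem ck_2797 : chkURangeF D C relF 796 1237356000 5728256 2048 = true := by decide +kernel
theorem ck_2798 : chkURangeF D C relF 796 1237356000 5730304 2048 = true := by decide +kernel
theorem ck_2799 : chkURangeF D C relF 796 1237356000 5732352 2048 = true := by decide +kernel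
theorem ck_2800 : chkURangeF D C relF 796 1237356000 5734400 2048 = true := by decide +kernel
theorem ck_2801 : chkURangeF D C relF 796 1237356000 5736448 2048 = true := by decide +kernel
theorem ck_2802 : chkURangeF D C relF 796 1237356000 5738496 2048 = true := by decide +kernel
theorem ck_2803 : chkURangeF D C relF 796 1237356000 5740544 2048 = true := by decide +kernel
theorem ck_2804 : chkURangeF D C relF 796 1237356000 5742592 2048 = true := by decide +kernel
theorem ck_2805 : chkURangeF D C relF 796 1237356000 5744640 2048 = true := by decide +kernel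
theorem ck_2806 : chkURangeF D C relF 796 1237356000 5746688 2048 = true := by decide +kernel
theorem ck_2807 : chkURangeF D C relF 796 1237356000 5748736 2048 = true := by decide +kernel
theorem chkU_116 (b : ℕ) (h1 : 5701632 ≤ b) (h2 : b < 5750784) : chkU D C b = true := by
  rcases Nat.lt_or_ge b 5703680 with g0 | g0
  · exact chkURangeF_spec C relF_hyp 1237356000 tc_eq 5701632 2048 ck_2784 b (by omega) (by omega)
  rcases Nat.lt_or_ge b 5705728 with g1 | g1
  · exact chkURangeF_spec C relF_hyp 1237356000 tc_eq 5703680 2048 ck_2785 b (by omega) (by omega)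
  rcases Nat.lt_or_ge b 5707776 with g2 | g2
  · exact chkURangeF_spec C relF_hyp 1237356000 tc_eq 5705728 2048 ck_2786 b (by omega) (by omega)
  rcases Nat.lt_or_ge b 5709824 with g3 | g3
  · exact chkURangeF_spec C relF_hyp 1237356000 tc_eq 5707776 2048 ck_2787 b (by omega) (by omega)
  rcases Nat.lt_or_ge b 5711872 with g4 | g4
  · exact chkURangeF_spec C relF_hyp 1237356000 tc_eq 5709824 2048 ck_2788 b (by omega) (by omega)
  rcases Nat.lt_or_ge b 5713920 with g5 | g5
  · exact chkURangeF_spec C relF_hyp 1237356000 tc_eq 5711872 2048 ck_2789 b (by omega) (by omega)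
  rcases Nat.lt_or_ge b 5715968 with g6 | g6
  · exact chkURangeF_spec C relF_hyp 1237356000 tc_eq 5713920 2048 ck_2790 b (by omega) (by omega)
  rcases Nat.lt_or_ge b 5718016 with g7 | g7
  · exact chkURangeF_spec C relF_hyp 1237356000 tc_eq 5715968 2048 ck_2791 b (by omega) (by omega)
  rcases Nat.lt_or_ge b 5720064 with g8 | g8
  · exact chkURangeF_spec C relF_hyp 1237356000 tc_eq 5718016 2048 ck_2792 b (by omega) (by omega)
  rcases Nat.lt_or_ge b 5722112 with g9 | g9
  · exact chkURangeF_spec C relF_hyp 1237356000 tc_eq 5720064 2048 ck_2793 b (by omega) (by omega)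
  rcases Nat.lt_or_ge b 5724160 with g10 | g10
  · exact chkURangeF_spec C relF_hyp 1237356000 tc_eq 5722112 2048 ck_2794 b (by omega) (by omega)
  rcases Nat.lt_or_ge b 5726208 with g11 | g11
  · exact chkURangeF_spec C relF_hyp 1237356000 tc_eq 5724160 2048 ck_2795 b (by omega) (by omega)
  rcases Nat.lt_or_ge b 5728256 with g12 | g12
  · exact chkURangeF_spec C relF_hyp 1237356000 tc_eq 5726208 2048 ck_2796 b (by omega) (by omega)
  rcases Nat.lt_or_ge b 5730304 with g13 | g13
  · exact chkURangeF_spec C relF_hyp 1237356000 tc_eq 5728256 2048 ck_2797 b (by omega) (by omega)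
  rcases Nat.lt_or_ge b 5732352 with g14 | g14
  · exact chkURangeF_spec C relF_hyp 1237356000 tc_eq 5730304 2048 ck_2798 b (by omega) (by omega)
  rcases Nat.lt_or_ge b 5734400 with g15 | g15
  · exact chkURangeF_spec C relF_hyp 1237356000 tc_eq 5732352 2048 ck_2799 b (by omega) (by omega)
  rcases Nat.lt_or_ge b 5736448 with g16 | g16
  · exact chkURangeF_spec C relF_hyp 1237356000 tc_eq 5734400 2048 ck_2800 b (by omega) (by omega)
  rcases Nat.lt_or_ge b 5738496 with g17 | g17
  · exact chkURangeF_spec C relF_hyp 1237356000 tc_eq 5736448 2048 ck_2801 b (by omega) (by omega)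
  rcases Nat.lt_or_ge b 5740544 with g18 | g18
  · exact chkURangeF_spec C relF_hyp 1237356000 tc_eq 5738496 2048 ck_2802 b (by omega) (by omega)
  rcases Nat.lt_or_ge b 5742592 with g19 | g19
  · exact chkURangeF_spec C relF_hyp 1237356000 tc_eq 5740544 2048 ck_2803 b (by omega) (by omega)
  rcases Nat.lt_or_ge b 5744640 with g20 | g20
  · exact chkURangeF_spec C relF_hyp 1237356000 tc_eq 5742592 2048 ck_2804 b (by omega) (by omega)
  rcases Nat.lt_or_ge b 5746688 with g21 | g21
  · exact chkURangeF_spec C relF_hyp 1237356000 tc_eq 5744640 2048 ck_2805 b (by omega) (by omega)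
  rcases Nat.lt_or_ge b 5748736 with g22 | g22
  · exact chkURangeF_spec C relF_hyp 1237356000 tc_eq 5746688 2048 ck_2806 b (by omega) (by omega)
  exact chkURangeF_spec C relF_hyp 1237356000 tc_eq 5748736 2048 ck_2807 b (by omega) (by omega)
end Cfsg.Agent.Lib.Helper2.HNMult.P3
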