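import Cfsg.Agent.Lib.Helper2.HNMult.P3.Cert
set_option autoImplicit false
set_option maxRecDepth 1000000
set_option Elab.async false
namespace Cfsg.Agent.Lib.Helper2.HNMult.P3
open Cfsg.Agent.Lib.Helper4.Sparse Cfsg.Agent.Lib.Helper2.SparseF
theorem ck_2856 : chkURangeF D C relF 796 1237356000 5849088 2048 = true := by decide +kernel
theorem ck_2857 : chkURangeF D C relF 796 1237356000 5851136 2048 = true := by decide +kernel
theorem ck_2858 : chkURangeF D C relF 796 1237356000 5853184 2048 = true := by decide +kernel
theorem ck_2859 : chkURangeF D C relF 796 1237356000 5855232 2048 = true := by decide +kernel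
theorem ck_2860 : chkURangeF D C relF 796 1237356000 5857280 2048 = true := by decide +kernel
theorem ck_2861 : chkURangeF D C relF 796 1237356000 5859328 2048 = true := by decide +kernel
theorem ck_2862 : chkURangeF D C relF 796 1237356000 5861376 2048 = true := by decide +kernel
theorem ck_2863 : chkURangeF D C relF 796 1237356000 5863424 2048 = true := by decide +kernel
theorem ck_2864 : chkURangeF D C relF 796 1237356000 5865472 2048 = true := by decide +kernel
theorem ck_2865 : chkURangeF D C relF 796 1237356000 5867520 2048 = true := by decide +kernel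
theorem ck_2866 : chkURangeF D C relF 796 1237356000 5869568 2048 = true := by decide +kernel
theorem ck_2867 : chkURangeF D C relF 796 1237356000 5871616 2048 = true := by decide +kernel
theorem ck_2868 : chkURangeF D C relF 796 1237356000 5873664 2048 = true := by decide +kernel
theorem ck_2869 : chkURangeF D C relF 796 1237356000 5875712 2048 = true := by decide +kernel
theorem ck_2870 : chkURangeF D C relF 796 1237356000 5877760 2048 = true := by decide +kernel
theorem ck_2871 : chkURangeF D C relF 796 1237356000 5879808 2048 = true := by decide +kernel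
theorem ck_2872 : chkURangeF D C relF 796 1237356000 5881856 2048 = true := by decide +kernel
theorem ck_2873 : chkURangeF D C relF 796 1237356000 5883904 2048 = true := by decide +kernel
theorem ck_2874 : chkURangeF D C relF 796 1237356000 5885952 2048 = true := by decide +kernel
theorem ck_2875 : chkURangeF D C relF 796 1237356000 5888000 2048 = true := by decide +kernel
theorem ck_2876 : chkURangeF D C relF 796 1237356000 5890048 2048 = true := by decide +kernel
theorem ck_2877 : chkURangeF D C relF 796 1237356000 5892096 2048 = true := by decide +kernel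
theorem ck_2878 : chkURangeF D C relF 796 1237356000 5894144 2048 = true := by decide +kernel
theorem ck_2879 : chkURangeF D C relF 796 1237356000 5896192 2048 = true := by decide +kernel
theorem chkU_119 (b : ℕ) (h1 : 5849088 ≤ b) (h2 : b < 5898240) : chkU D C b = true := by
  rcases Nat.lt_or_ge b 5851136 with g0 | g0
  · exact chkURangeF_spec C relF_hyp 1237356000 tc_eq 5849088 2048 ck_2856 b (by omega) (by omega)
  rcases Nat.lt_or_ge b 5853184 with g1 | g1
  · exact chkURangeF_spec C relF_hyp 1237356000 tc_eq 5851136 2048 ck_2857 b (by omega) (by omega)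
  rcases Nat.lt_or_ge b 5855232 with g2 | g2
  · exact chkURangeF_spec C relF_hyp 1237356000 tc_eq 5853184 2048 ck_2858 b (by omega) (by omega)
  rcases Nat.lt_or_ge b 5857280 with g3 | g3
  · exact chkURangeF_spec C relF_hyp 1237356000 tc_eq 5855232 2048 ck_2859 b (by omega) (by omega)
  rcases Nat.lt_or_ge b 5859328 with g4 | g4
  · exact chkURangeF_spec C relF_hyp 1237356000 tc_eq 5857280 2048 ck_2860 b (by omega) (by omega)
  rcases Nat.lt_or_ge b 5861376 with g5 | g5
  · exact chkURangeF_spec C relF_hyp 1237356000 tc_eq 5859328 2048 ck_2861 b (by omega) (by omega)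
  rcases Nat.lt_or_ge b 5863424 with g6 | g6
  · exact chkURangeF_spec C relF_hyp 1237356000 tc_eq 5861376 2048 ck_2862 b (by omega) (by omega)
  rcases Nat.lt_or_ge b 5865472 with g7 | g7
  · exact chkURangeF_spec C relF_hyp 1237356000 tc_eq 5863424 2048 ck_2863 b (by omega) (by omega)
  rcases Nat.lt_or_ge b 5867520 with g8 | g8
  · exact chkURangeF_spec C relF_hyp 1237356000 tc_eq 5865472 2048 ck_2864 b (by omega) (by omega)
  rcases Nat.lt_or_ge b 5869568 with g9 | g9
  · exact chkURangeF_spec C relF_hyp 1237356000 tc_eq 5867520 2048 ck_2865 b (by omega) (by omega)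
  rcases Nat.lt_or_ge b 5871616 with g10 | g10
  · exact chkURangeF_spec C relF_hyp 1237356000 tc_eq 5869568 2048 ck_2866 b (by omega) (by omega)
  rcases Nat.lt_or_ge b 5873664 with g11 | g11
  · exact chkURangeF_spec C relF_hyp 1237356000 tc_eq 5871616 2048 ck_2867 b (by omega) (by omega)
  rcases Nat.lt_or_ge b 5875712 with g12 | g12
  · exact chkURangeF_spec C relF_hyp 1237356000 tc_eq 5873664 2048 ck_2868 b (by omega) (by omega)
  rcases Nat.lt_or_ge b 5877760 with g13 | g13
  · exact chkURangeF_spec C relF_hyp 1237356000 tc_eq 5875712 2048 ck_2869 b (by omega) (by omega)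
  rcases Nat.lt_or_ge b 5879808 with g14 | g14
  · exact chkURangeF_spec C relF_hyp 1237356000 tc_eq 5877760 2048 ck_2870 b (by omega) (by omega)
  rcases Nat.lt_or_ge b 5881856 with g15 | g15
  · exact chkURangeF_spec C relF_hyp 1237356000 tc_eq 5879808 2048 ck_2871 b (by omega) (by omega)
  rcases Nat.lt_or_ge b 5883904 with g16 | g16
  · exact chkURangeF_spec C relF_hyp 1237356000 tc_eq 5881856 2048 ck_2872 b (by omega) (by omega)
  rcases Nat.lt_or_ge b 5885952 with g17 | g17
  · exact chkURangeF_spec C relF_hyp 1237356000 tc_eq 5883904 2048 ck_2873 b (by omega) (by omega)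
  rcases Nat.lt_or_ge b 5888000 with g18 | g18
  · exact chkURangeF_spec C relF_hyp 1237356000 tc_eq 5885952 2048 ck_2874 b (by omega) (by omega)
  rcases Nat.lt_or_ge b 5890048 with g19 | g19
  · exact chkURangeF_spec C relF_hyp 1237356000 tc_eq 5888000 2048 ck_2875 b (by omega) (by omega)
  rcases Nat.lt_or_ge b 5892096 with g20 | g20
  · exact chkURangeF_spec C relF_hyp 1237356000 tc_eq 5890048 2048 ck_2876 b (by omega) (by omega)
  rcases Nat.lt_or_ge b 5894144 with g21 | g21
  · exact chkURangeF_spec C relF_hyp 1237356000 tc_eq 5892096 2048 ck_2877 b (by omega) (by omega)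
  rcases Nat.lt_or_ge b 5896192 with g22 | g22
  · exact chkURangeF_spec C relF_hyp 1237356000 tc_eq 5894144 2048 ck_2878 b (by omega) (by omega)
  exact chkURangeF_spec C relF_hyp 1237356000 tc_eq 5896192 2048 ck_2879 b (by omega) (by omega)
end Cfsg.Agent.Lib.Helper2.HNMult.P3
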