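import Cfsg.Agent.Lib.Helper2.HNMult.P3.Cert
set_option autoImplicit false
set_option maxRecDepth 1000000
set_option Elab.async false
namespace Cfsg.Agent.Lib.Helper2.HNMult.P3
open Cfsg.Agent.Lib.Helper4.Sparse Cfsg.Agent.Lib.Helper2.SparseF
theorem ck_288 : chkURangeF D C relF 796 1237356000 589824 2048 = true := by decide +kernel
theorem ck_289 : chkURangeF D C relF 796 1237356000 591872 2048 = true := by decide +kernel
theorem ck_290 : chkURangeF D C relF 796 1237356000 593920 2048 = true := by decide +kernel
theorem ck_291 : chkURangeF D C relF 796 1237356000 595968 2048 = true := by decide +kernel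
theorem ck_292 : chkURangeF D C relF 796 1237356000 598016 2048 = true := by decide +kernel
theorem ck_293 : chkURangeF D C relF 796 1237356000 600064 2048 = true := by decide +kernel
theorem ck_294 : chkURangeF D C relF 796 1237356000 602112 2048 = true := by decide +kernel
theorem ck_295 : chkURangeF D C relF 796 1237356000 604160 2048 = true := by decide +kernel
theorem ck_296 : chkURangeF D C relF 796 1237356000 606208 2048 = true := by decide +kernel
theorem ck_297 : chkURangeF D C relF 796 1237356000 608256 2048 = true := by decide +kernel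
theorem ck_298 : chkURangeF D C relF 796 1237356000 610304 2048 = true := by decide +kernel
theorem ck_299 : chkURangeF D C relF 796 1237356000 612352 2048 = true := by decide +kernel
theorem ck_300 : chkURangeF D C relF 796 1237356000 614400 2048 = true := by decide +kernel
theorem ck_301 : chkURangeF D C relF 796 1237356000 616448 2048 = true := by decide +kernel
theorem ck_302 : chkURangeF D C relF 796 1237356000 618496 2048 = true := by decide +kernel
theorem ck_303 : chkURangeF D C relF 796 1237356000 620544 2048 = true := by decide +kernel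
theorem ck_304 : chkURangeF D C relF 796 1237356000 622592 2048 = true := by decide +kernel
theorem ck_305 : chkURangeF D C relF 796 1237356000 624640 2048 = true := by decide +kernel
theorem ck_306 : chkURangeF D C relF 796 1237356000 626688 2048 = true := by decide +kernel
theorem ck_307 : chkURangeF D C relF 796 1237356000 628736 2048 = true := by decide +kernel
theorem ck_308 : chkURangeF D C relF 796 1237356000 630784 2048 = true := by decide +kernel
theorem ck_309 : chkURangeF D C relF 796 1237356000 632832 2048 = true := by decide +kernel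
theorem ck_310 : chkURangeF D C relF 796 1237356000 634880 2048 = true := by decide +kernel
theorem ck_311 : chkURangeF D C relF 796 1237356000 636928 2048 = true := by decide +kernel
theorem chkU_12 (b : ℕ) (h1 : 589824 ≤ b) (h2 : b < 638976) : chkU D C b = true := by
  rcases Nat.lt_or_ge b 591872 with g0 | g0
  · exact chkURangeF_spec C relF_hyp 1237356000 tc_eq 589824 2048 ck_288 b (by omega) (by omega)
  rcases Nat.lt_or_ge b 593920 with g1 | g1
  · exact chkURangeF_spec C relF_hyp 1237356000 tc_eq 591872 2048 ck_289 b (by omega) (by omega)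
  rcases Nat.lt_or_ge b 595968 with g2 | g2
  · exact chkURangeF_spec C relF_hyp 1237356000 tc_eq 593920 2048 ck_290 b (by omega) (by omega)
  rcases Nat.lt_or_ge b 598016 with g3 | g3
  · exact chkURangeF_spec C relF_hyp 1237356000 tc_eq 595968 2048 ck_291 b (by omega) (by omega)
  rcases Nat.lt_or_ge b 600064 with g4 | g4
  · exact chkURangeF_spec C relF_hyp 1237356000 tc_eq 598016 2048 ck_292 b (by omega) (by omega)
  rcases Nat.lt_or_ge b 602112 with g5 | g5
  · exact chkURangeF_spec C relF_hyp 1237356000 tc_eq 600064 2048 ck_293 b (by omega) (by omega)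
  rcases Nat.lt_or_ge b 604160 with g6 | g6
  · exact chkURangeF_spec C relF_hyp 1237356000 tc_eq 602112 2048 ck_294 b (by omega) (by omega)
  rcases Nat.lt_or_ge b 606208 with g7 | g7
  · exact chkURangeF_spec C relF_hyp 1237356000 tc_eq 604160 2048 ck_295 b (by omega) (by omega)
  rcases Nat.lt_or_ge b 608256 with g8 | g8
  · exact chkURangeF_spec C relF_hyp 1237356000 tc_eq 606208 2048 ck_296 b (by omega) (by omega)
  rcases Nat.lt_or_ge b 610304 with g9 | g9
  · exact chkURangeF_spec C relF_hyp 1237356000 tc_eq 608256 2048 ck_297 b (by omega) (by omega)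
  rcases Nat.lt_or_ge b 612352 with g10 | g10
  · exact chkURangeF_spec C relF_hyp 1237356000 tc_eq 610304 2048 ck_298 b (by omega) (by omega)
  rcases Nat.lt_or_ge b 614400 with g11 | g11
  · exact chkURangeF_spec C relF_hyp 1237356000 tc_eq 612352 2048 ck_299 b (by omega) (by omega)
  rcases Nat.lt_or_ge b 616448 with g12 | g12
  · exact chkURangeF_spec C relF_hyp 1237356000 tc_eq 614400 2048 ck_300 b (by omega) (by omega)
  rcases Nat.lt_or_ge b 618496 with g13 | g13
  · exact chkURangeF_spec C relF_hyp 1237356000 tc_eq 616448 2048 ck_301 b (by omega) (by omega)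
  rcases Nat.lt_or_ge b 620544 with g14 | g14
  · exact chkURangeF_spec C relF_hyp 1237356000 tc_eq 618496 2048 ck_302 b (by omega) (by omega)
  rcases Nat.lt_or_ge b 622592 with g15 | g15
  · exact chkURangeF_spec C relF_hyp 1237356000 tc_eq 620544 2048 ck_303 b (by omega) (by omega)
  rcases Nat.lt_or_ge b 624640 with g16 | g16
  · exact chkURangeF_spec C relF_hyp 1237356000 tc_eq 622592 2048 ck_304 b (by omega) (by omega)
  rcases Nat.lt_or_ge b 626688 with g17 | g17
  · exact chkURangeF_spec C relF_hyp 1237356000 tc_eq 624640 2048 ck_305 b (by omega) (by omega)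
  rcases Nat.lt_or_ge b 628736 with g18 | g18
  · exact chkURangeF_spec C relF_hyp 1237356000 tc_eq 626688 2048 ck_306 b (by omega) (by omega)
  rcases Nat.lt_or_ge b 630784 with g19 | g19
  · exact chkURangeF_spec C relF_hyp 1237356000 tc_eq 628736 2048 ck_307 b (by omega) (by omega)
  rcases Nat.lt_or_ge b 632832 with g20 | g20
  · exact chkURangeF_spec C relF_hyp 1237356000 tc_eq 630784 2048 ck_308 b (by omega) (by omega)
  rcases Nat.lt_or_ge b 634880 with g21 | g21
  · exact chkURangeF_spec C relF_hyp 1237356000 tc_eq 632832 2048 ck_309 b (by omega) (by omega)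
  rcases Nat.lt_or_ge b 636928 with g22 | g22
  · exact chkURangeF_spec C relF_hyp 1237356000 tc_eq 634880 2048 ck_310 b (by omega) (by omega)
  exact chkURangeF_spec C relF_hyp 1237356000 tc_eq 636928 2048 ck_311 b (by omega) (by omega)
end Cfsg.Agent.Lib.Helper2.HNMult.P3
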