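import Cfsg.Agent.Lib.Helper2.HNMult.P3.Cert
set_option autoImplicit false
set_option maxRecDepth 1000000
set_option Elab.async false
namespace Cfsg.Agent.Lib.Helper2.HNMult.P3
open Cfsg.Agent.Lib.Helper4.Sparse Cfsg.Agent.Lib.Helper2.SparseF
theorem ck_2904 : chkURangeF D C relF 796 1237356000 5947392 2048 = true := by decide +kernel
theorem ck_2905 : chkURangeF D C relF 796 1237356000 5949440 2048 = true := by decide +kernel
theorem ck_2906 : chkURangeF D C relF 796 1237356000 5951488 2048 = true := by decide +kernel
theorem ck_2907 : chkURangeF D C relF 796 1237356000 5953536 2048 = true := by decide +kernel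
theorem ck_2908 : chkURangeF D C relF 796 1237356000 5955584 2048 = true := by decide +kernel
theorem ck_2909 : chkURangeF D C relF 796 1237356000 5957632 2048 = true := by decide +kernel
theorem ck_2910 : chkURangeF D C relF 796 1237356000 5959680 2048 = true := by decide +kernel
theorem ck_2911 : chkURangeF D C relF 796 1237356000 5961728 2048 = true := by decide +kernel
theorem ck_2912 : chkURangeF D C relF 796 1237356000 5963776 2048 = true := by decide +kernel
theorem ck_2913 : chkURangeF D C relF 796 1237356000 5965824 2048 = true := by decide +kernel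
theorem ck_2914 : chkURangeF D C relF 796 1237356000 5967872 2048 = true := by decide +kernel
theorem ck_2915 : chkURangeF D C relF 796 1237356000 5969920 2048 = true := by decide +kernel
theorem ck_2916 : chkURangeF D C relF 796 1237356000 5971968 2048 = true := by decide +kernel
theorem ck_2917 : chkURangeF D C relF 796 1237356000 5974016 2048 = true := by decide +kernel
theorem ck_2918 : chkURangeF D C relF 796 1237356000 5976064 2048 = true := by decide +kernel
theorem ck_2919 : chkURangeF D C relF 796 1237356000 5978112 2048 = true := by decide +kernel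
theorem ck_2920 : chkURangeF D C relF 796 1237356000 5980160 2048 = true := by decide +kernel
theorem ck_2921 : chkURangeF D C relF 796 1237356000 5982208 2048 = true := by decide +kernel
theorem ck_2922 : chkURangeF D C relF 796 1237356000 5984256 2048 = true := by decide +kernel
theorem ck_2923 : chkURangeF D C relF 796 1237356000 5986304 2048 = true := by decide +kernel
theorem ck_2924 : chkURangeF D C relF 796 1237356000 5988352 2048 = true := by decide +kernel
theorem ck_2925 : chkURangeF D C relF 796 1237356000 5990400 2048 = true := by decide +kernel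
theorem ck_2926 : chkURangeF D C relF 796 1237356000 5992448 2048 = true := by decide +kernel
theorem ck_2927 : chkURangeF D C relF 796 1237356000 5994496 2048 = true := by decide +kernel
theorem chkU_121 (b : ℕ) (h1 : 5947392 ≤ b) (h2 : b < 5996544) : chkU D C b = true := by
  rcases Nat.lt_or_ge b 5949440 with g0 | g0
  · exact chkURangeF_spec C relF_hyp 1237356000 tc_eq 5947392 2048 ck_2904 b (by omega) (by omega)
  rcases Nat.lt_or_ge b 5951488 with g1 | g1
  · exact chkURangeF_spec C relF_hyp 1237356000 tc_eq 5949440 2048 ck_2905 b (by omega) (by omega)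
  rcases Nat.lt_or_ge b 5953536 with g2 | g2
  · exact chkURangeF_spec C relF_hyp 1237356000 tc_eq 5951488 2048 ck_2906 b (by omega) (by omega)
  rcases Nat.lt_or_ge b 5955584 with g3 | g3
  · exact chkURangeF_spec C relF_hyp 1237356000 tc_eq 5953536 2048 ck_2907 b (by omega) (by omega)
  rcases Nat.lt_or_ge b 5957632 with g4 | g4
  · exact chkURangeF_spec C relF_hyp 1237356000 tc_eq 5955584 2048 ck_2908 b (by omega) (by omega)
  rcases Nat.lt_or_ge b 5959680 with g5 | g5
  · exact chkURangeF_spec C relF_hyp 1237356000 tc_eq 5957632 2048 ck_2909 b (by omega) (by omega)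
  rcases Nat.lt_or_ge b 5961728 with g6 | g6
  · exact chkURangeF_spec C relF_hyp 1237356000 tc_eq 5959680 2048 ck_2910 b (by omega) (by omega)
  rcases Nat.lt_or_ge b 5963776 with g7 | g7
  · exact chkURangeF_spec C relF_hyp 1237356000 tc_eq 5961728 2048 ck_2911 b (by omega) (by omega)
  rcases Nat.lt_or_ge b 5965824 with g8 | g8
  · exact chkURangeF_spec C relF_hyp 1237356000 tc_eq 5963776 2048 ck_2912 b (by omega) (by omega)
  rcases Nat.lt_or_ge b 5967872 with g9 | g9
  · exact chkURangeF_spec C relF_hyp 1237356000 tc_eq 5965824 2048 ck_2913 b (by omega) (by omega)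
  rcases Nat.lt_or_ge b 5969920 with g10 | g10
  · exact chkURangeF_spec C relF_hyp 1237356000 tc_eq 5967872 2048 ck_2914 b (by omega) (by omega)
  rcases Nat.lt_or_ge b 5971968 with g11 | g11
  · exact chkURangeF_spec C relF_hyp 1237356000 tc_eq 5969920 2048 ck_2915 b (by omega) (by omega)
  rcases Nat.lt_or_ge b 5974016 with g12 | g12
  · exact chkURangeF_spec C relF_hyp 1237356000 tc_eq 5971968 2048 ck_2916 b (by omega) (by omega)
  rcases Nat.lt_or_ge b 5976064 with g13 | g13
  · exact chkURangeF_spec C relF_hyp 1237356000 tc_eq 5974016 2048 ck_2917 b (by omega) (by omega)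
  rcases Nat.lt_or_ge b 5978112 with g14 | g14
  · exact chkURangeF_spec C relF_hyp 1237356000 tc_eq 5976064 2048 ck_2918 b (by omega) (by omega)
  rcases Nat.lt_or_ge b 5980160 with g15 | g15
  · exact chkURangeF_spec C relF_hyp 1237356000 tc_eq 5978112 2048 ck_2919 b (by omega) (by omega)
  rcases Nat.lt_or_ge b 5982208 with g16 | g16
  · exact chkURangeF_spec C relF_hyp 1237356000 tc_eq 5980160 2048 ck_2920 b (by omega) (by omega)
  rcases Nat.lt_or_ge b 5984256 with g17 | g17
  · exact chkURangeF_spec C relF_hyp 1237356000 tc_eq 5982208 2048 ck_2921 b (by omega) (by omega)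
  rcases Nat.lt_or_ge b 5986304 with g18 | g18
  · exact chkURangeF_spec C relF_hyp 1237356000 tc_eq 5984256 2048 ck_2922 b (by omega) (by omega)
  rcases Nat.lt_or_ge b 5988352 with g19 | g19
  · exact chkURangeF_spec C relF_hyp 1237356000 tc_eq 5986304 2048 ck_2923 b (by omega) (by omega)
  rcases Nat.lt_or_ge b 5990400 with g20 | g20
  · exact chkURangeF_spec C relF_hyp 1237356000 tc_eq 5988352 2048 ck_2924 b (by omega) (by omega)
  rcases Nat.lt_or_ge b 5992448 with g21 | g21
  · exact chkURangeF_spec C relF_hyp 1237356000 tc_eq 5990400 2048 ck_2925 b (by omega) (by omega)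
  rcases Nat.lt_or_ge b 5994496 with g22 | g22
  · exact chkURangeF_spec C relF_hyp 1237356000 tc_eq 5992448 2048 ck_2926 b (by omega) (by omega)
  exact chkURangeF_spec C relF_hyp 1237356000 tc_eq 5994496 2048 ck_2927 b (by omega) (by omega)
end Cfsg.Agent.Lib.Helper2.HNMult.P3
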