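import Cfsg.Agent.Lib.Helper2.HNMult.P3.Cert
set_option autoImplicit false
set_option maxRecDepth 1000000
set_option Elab.async false
namespace Cfsg.Agent.Lib.Helper2.HNMult.P3
open Cfsg.Agent.Lib.Helper4.Sparse Cfsg.Agent.Lib.Helper2.SparseF
theorem ck_3000 : chkURangeF D C relF 796 1237356000 6144000 2048 = true := by decide +kernel
theorem ck_3001 : chkURangeF D C relF 796 1237356000 6146048 2048 = true := by decide +kernel
theorem ck_3002 : chkURangeF D C relF 796 1237356000 6148096 2048 = true := by decide +kernel
theorem ck_3003 : chkURangeF D C relF 796 1237356000 6150144 2048 = true := by decide +kernel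
theorem ck_3004 : chkURangeF D C relF 796 1237356000 6152192 2048 = true := by decide +kernel
theorem ck_3005 : chkURangeF D C relF 796 1237356000 6154240 2048 = true := by decide +kernel
theorem ck_3006 : chkURangeF D C relF 796 1237356000 6156288 2048 = true := by decide +kernel
theorem ck_3007 : chkURangeF D C relF 796 1237356000 6158336 2048 = true := by decide +kernel
theorem ck_3008 : chkURangeF D C relF 796 1237356000 6160384 2048 = true := by decide +kernel
theorem ck_3009 : chkURangeF D C relF 796 1237356000 6162432 2048 = true := by decide +kernel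
theorem ck_3010 : chkURangeF D C relF 796 1237356000 6164480 2048 = true := by decide +kernel
theorem ck_3011 : chkURangeF D C relF 796 1237356000 6166528 2048 = true := by decide +kernel
theorem ck_3012 : chkURangeF D C relF 796 1237356000 6168576 2048 = true := by decide +kernel
theorem ck_3013 : chkURangeF D C relF 796 1237356000 6170624 2048 = true := by decide +kernel
theorem ck_3014 : chkURangeF D C relF 796 1237356000 6172672 2048 = true := by decide +kernel
theorem ck_3015 : chkURangeF D C relF 796 1237356000 6174720 2048 = true := by decide +kernel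
theorem ck_3016 : chkURangeF D C relF 796 1237356000 6176768 2048 = true := by decide +kernel
theorem ck_3017 : chkURangeF D C relF 796 1237356000 6178816 2048 = true := by decide +kernel
theorem ck_3018 : chkURangeF D C relF 796 1237356000 6180864 2048 = true := by decide +kernel
theorem ck_3019 : chkURangeF D C relF 796 1237356000 6182912 2048 = true := by decide +kernel
theorem ck_3020 : chkURangeF D C relF 796 1237356000 6184960 2048 = true := by decide +kernel
theorem ck_3021 : chkURangeF D C relF 796 1237356000 6187008 2048 = true := by decide +kernel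
theorem ck_3022 : chkURangeF D C relF 796 1237356000 6189056 2048 = true := by decide +kernel
theorem ck_3023 : chkURangeF D C relF 796 1237356000 6191104 2048 = true := by decide +kernel
theorem chkU_125 (b : ℕ) (h1 : 6144000 ≤ b) (h2 : b < 6193152) : chkU D C b = true := by
  rcases Nat.lt_or_ge b 6146048 with g0 | g0
  · exact chkURangeF_spec C relF_hyp 1237356000 tc_eq 6144000 2048 ck_3000 b (by omega) (by omega)
  rcases Nat.lt_or_ge b 6148096 with g1 | g1
  · exact chkURangeF_spec C relF_hyp 1237356000 tc_eq 6146048 2048 ck_3001 b (by omega) (by omega)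
  rcases Nat.lt_or_ge b 6150144 with g2 | g2
  · exact chkURangeF_spec C relF_hyp 1237356000 tc_eq 6148096 2048 ck_3002 b (by omega) (by omega)
  rcases Nat.lt_or_ge b 6152192 with g3 | g3
  · exact chkURangeF_spec C relF_hyp 1237356000 tc_eq 6150144 2048 ck_3003 b (by omega) (by omega)
  rcases Nat.lt_or_ge b 6154240 with g4 | g4
  · exact chkURangeF_spec C relF_hyp 1237356000 tc_eq 6152192 2048 ck_3004 b (by omega) (by omega)
  rcases Nat.lt_or_ge b 6156288 with g5 | g5
  · exact chkURangeF_spec C relF_hyp 1237356000 tc_eq 6154240 2048 ck_3005 b (by omega) (by omega)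
  rcases Nat.lt_or_ge b 6158336 with g6 | g6
  · exact chkURangeF_spec C relF_hyp 1237356000 tc_eq 6156288 2048 ck_3006 b (by omega) (by omega)
  rcases Nat.lt_or_ge b 6160384 with g7 | g7
  · exact chkURangeF_spec C relF_hyp 1237356000 tc_eq 6158336 2048 ck_3007 b (by omega) (by omega)
  rcases Nat.lt_or_ge b 6162432 with g8 | g8
  · exact chkURangeF_spec C relF_hyp 1237356000 tc_eq 6160384 2048 ck_3008 b (by omega) (by omega)
  rcases Nat.lt_or_ge b 6164480 with g9 | g9
  · exact chkURangeF_spec C relF_hyp 1237356000 tc_eq 6162432 2048 ck_3009 b (by omega) (by omega)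
  rcases Nat.lt_or_ge b 6166528 with g10 | g10
  · exact chkURangeF_spec C relF_hyp 1237356000 tc_eq 6164480 2048 ck_3010 b (by omega) (by omega)
  rcases Nat.lt_or_ge b 6168576 with g11 | g11
  · exact chkURangeF_spec C relF_hyp 1237356000 tc_eq 6166528 2048 ck_3011 b (by omega) (by omega)
  rcases Nat.lt_or_ge b 6170624 with g12 | g12
  · exact chkURangeF_spec C relF_hyp 1237356000 tc_eq 6168576 2048 ck_3012 b (by omega) (by omega)
  rcases Nat.lt_or_ge b 6172672 with g13 | g13
  · exact chkURangeF_spec C relF_hyp 1237356000 tc_eq 6170624 2048 ck_3013 b (by omega) (by omega)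
  rcases Nat.lt_or_ge b 6174720 with g14 | g14
  · exact chkURangeF_spec C relF_hyp 1237356000 tc_eq 6172672 2048 ck_3014 b (by omega) (by omega)
  rcases Nat.lt_or_ge b 6176768 with g15 | g15
  · exact chkURangeF_spec C relF_hyp 1237356000 tc_eq 6174720 2048 ck_3015 b (by omega) (by omega)
  rcases Nat.lt_or_ge b 6178816 with g16 | g16
  · exact chkURangeF_spec C relF_hyp 1237356000 tc_eq 6176768 2048 ck_3016 b (by omega) (by omega)
  rcases Nat.lt_or_ge b 6180864 with g17 | g17
  · exact chkURangeF_spec C relF_hyp 1237356000 tc_eq 6178816 2048 ck_3017 b (by omega) (by omega)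
  rcases Nat.lt_or_ge b 6182912 with g18 | g18
  · exact chkURangeF_spec C relF_hyp 1237356000 tc_eq 6180864 2048 ck_3018 b (by omega) (by omega)
  rcases Nat.lt_or_ge b 6184960 with g19 | g19
  · exact chkURangeF_spec C relF_hyp 1237356000 tc_eq 6182912 2048 ck_3019 b (by omega) (by omega)
  rcases Nat.lt_or_ge b 6187008 with g20 | g20
  · exact chkURangeF_spec C relF_hyp 1237356000 tc_eq 6184960 2048 ck_3020 b (by omega) (by omega)
  rcases Nat.lt_or_ge b 6189056 with g21 | g21
  · exact chkURangeF_spec C relF_hyp 1237356000 tc_eq 6187008 2048 ck_3021 b (by omega) (by omega)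
  rcases Nat.lt_or_ge b 6191104 with g22 | g22
  · exact chkURangeF_spec C relF_hyp 1237356000 tc_eq 6189056 2048 ck_3022 b (by omega) (by omega)
  exact chkURangeF_spec C relF_hyp 1237356000 tc_eq 6191104 2048 ck_3023 b (by omega) (by omega)
end Cfsg.Agent.Lib.Helper2.HNMult.P3
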