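import Cfsg.Agent.Lib.Helper2.HNMult.P3.Cert
set_option autoImplicit false
set_option maxRecDepth 1000000
set_option Elab.async false
namespace Cfsg.Agent.Lib.Helper2.HNMult.P3
open Cfsg.Agent.Lib.Helper4.Sparse Cfsg.Agent.Lib.Helper2.SparseF
theorem ck_3096 : chkURangeF D C relF 796 1237356000 6340608 2048 = true := by decide +kernel
theorem ck_3097 : chkURangeF D C relF 796 1237356000 6342656 2048 = true := by decide +kernel
theorem ck_3098 : chkURangeF D C relF 796 1237356000 6344704 2048 = true := by decide +kernel
theorem ck_3099 : chkURangeF D C relF 796 1237356000 6346752 2048 = true := by decide +kernel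
theorem ck_3100 : chkURangeF D C relF 796 1237356000 6348800 2048 = true := by decide +kernel
theorem ck_3101 : chkURangeF D C relF 796 1237356000 6350848 2048 = true := by decide +kernel
theorem ck_3102 : chkURangeF D C relF 796 1237356000 6352896 2048 = true := by decide +kernel
theorem ck_3103 : chkURangeF D C relF 796 1237356000 6354944 2048 = true := by decide +kernel
theorem ck_3104 : chkURangeF D C relF 796 1237356000 6356992 2048 = true := by decide +kernel
theorem ck_3105 : chkURangeF D C relF 796 1237356000 6359040 2048 = true := by decide +kernel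
theorem ck_3106 : chkURangeF D C relF 796 1237356000 6361088 2048 = true := by decide +kernel
theorem ck_3107 : chkURangeF D C relF 796 1237356000 6363136 2048 = true := by decide +kernel
theorem ck_3108 : chkURangeF D C relF 796 1237356000 6365184 2048 = true := by decide +kernel
theorem ck_3109 : chkURangeF D C relF 796 1237356000 6367232 2048 = true := by decide +kernel
theorem ck_3110 : chkURangeF D C relF 796 1237356000 6369280 2048 = true := by decide +kernel
theorem ck_3111 : chkURangeF D C relF 796 1237356000 6371328 2048 = true := by decide +kernel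
theorem ck_3112 : chkURangeF D C relF 796 1237356000 6373376 2048 = true := by decide +kernel
theorem ck_3113 : chkURangeF D C relF 796 1237356000 6375424 2048 = true := by decide +kernel
theorem ck_3114 : chkURangeF D C relF 796 1237356000 6377472 2048 = true := by decide +kernel
theorem ck_3115 : chkURangeF D C relF 796 1237356000 6379520 2048 = true := by decide +kernel
theorem ck_3116 : chkURangeF D C relF 796 1237356000 6381568 2048 = true := by decide +kernel
theorem ck_3117 : chkURangeF D C relF 796 1237356000 6383616 2048 = true := by decide +kernel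
theorem ck_3118 : chkURangeF D C relF 796 1237356000 6385664 2048 = true := by decide +kernel
theorem ck_3119 : chkURangeF D C relF 796 1237356000 6387712 2048 = true := by decide +kernel
theorem chkU_129 (b : ℕ) (h1 : 6340608 ≤ b) (h2 : b < 6389760) : chkU D C b = true := by
  rcases Nat.lt_or_ge b 6342656 with g0 | g0
  · exact chkURangeF_spec C relF_hyp 1237356000 tc_eq 6340608 2048 ck_3096 b (by omega) (by omega)
  rcases Nat.lt_or_ge b 6344704 with g1 | g1
  · exact chkURangeF_spec C relF_hyp 1237356000 tc_eq 6342656 2048 ck_3097 b (by omega) (by omega)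
  rcases Nat.lt_or_ge b 6346752 with g2 | g2
  · exact chkURangeF_spec C relF_hyp 1237356000 tc_eq 6344704 2048 ck_3098 b (by omega) (by omega)
  rcases Nat.lt_or_ge b 6348800 with g3 | g3
  · exact chkURangeF_spec C relF_hyp 1237356000 tc_eq 6346752 2048 ck_3099 b (by omega) (by omega)
  rcases Nat.lt_or_ge b 6350848 with g4 | g4
  · exact chkURangeF_spec C relF_hyp 1237356000 tc_eq 6348800 2048 ck_3100 b (by omega) (by omega)
  rcases Nat.lt_or_ge b 6352896 with g5 | g5
  · exact chkURangeF_spec C relF_hyp 1237356000 tc_eq 6350848 2048 ck_3101 b (by omega) (by omega)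
  rcases Nat.lt_or_ge b 6354944 with g6 | g6
  · exact chkURangeF_spec C relF_hyp 1237356000 tc_eq 6352896 2048 ck_3102 b (by omega) (by omega)
  rcases Nat.lt_or_ge b 6356992 with g7 | g7
  · exact chkURangeF_spec C relF_hyp 1237356000 tc_eq 6354944 2048 ck_3103 b (by omega) (by omega)
  rcases Nat.lt_or_ge b 6359040 with g8 | g8
  · exact chkURangeF_spec C relF_hyp 1237356000 tc_eq 6356992 2048 ck_3104 b (by omega) (by omega)
  rcases Nat.lt_or_ge b 6361088 with g9 | g9
  · exact chkURangeF_spec C relF_hyp 1237356000 tc_eq 6359040 2048 ck_3105 b (by omega) (by omega)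
  rcases Nat.lt_or_ge b 6363136 with g10 | g10
  · exact chkURangeF_spec C relF_hyp 1237356000 tc_eq 6361088 2048 ck_3106 b (by omega) (by omega)
  rcases Nat.lt_or_ge b 6365184 with g11 | g11
  · exact chkURangeF_spec C relF_hyp 1237356000 tc_eq 6363136 2048 ck_3107 b (by omega) (by omega)
  rcases Nat.lt_or_ge b 6367232 with g12 | g12
  · exact chkURangeF_spec C relF_hyp 1237356000 tc_eq 6365184 2048 ck_3108 b (by omega) (by omega)
  rcases Nat.lt_or_ge b 6369280 with g13 | g13
  · exact chkURangeF_spec C relF_hyp 1237356000 tc_eq 6367232 2048 ck_3109 b (by omega) (by omega)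
  rcases Nat.lt_or_ge b 6371328 with g14 | g14
  · exact chkURangeF_spec C relF_hyp 1237356000 tc_eq 6369280 2048 ck_3110 b (by omega) (by omega)
  rcases Nat.lt_or_ge b 6373376 with g15 | g15
  · exact chkURangeF_spec C relF_hyp 1237356000 tc_eq 6371328 2048 ck_3111 b (by omega) (by omega)
  rcases Nat.lt_or_ge b 6375424 with g16 | g16
  · exact chkURangeF_spec C relF_hyp 1237356000 tc_eq 6373376 2048 ck_3112 b (by omega) (by omega)
  rcases Nat.lt_or_ge b 6377472 with g17 | g17
  · exact chkURangeF_spec C relF_hyp 1237356000 tc_eq 6375424 2048 ck_3113 b (by omega) (by omega)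
  rcases Nat.lt_or_ge b 6379520 with g18 | g18
  · exact chkURangeF_spec C relF_hyp 1237356000 tc_eq 6377472 2048 ck_3114 b (by omega) (by omega)
  rcases Nat.lt_or_ge b 6381568 with g19 | g19
  · exact chkURangeF_spec C relF_hyp 1237356000 tc_eq 6379520 2048 ck_3115 b (by omega) (by omega)
  rcases Nat.lt_or_ge b 6383616 with g20 | g20
  · exact chkURangeF_spec C relF_hyp 1237356000 tc_eq 6381568 2048 ck_3116 b (by omega) (by omega)
  rcases Nat.lt_or_ge b 6385664 with g21 | g21
  · exact chkURangeF_spec C relF_hyp 1237356000 tc_eq 6383616 2048 ck_3117 b (by omega) (by omega)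
  rcases Nat.lt_or_ge b 6387712 with g22 | g22
  · exact chkURangeF_spec C relF_hyp 1237356000 tc_eq 6385664 2048 ck_3118 b (by omega) (by omega)
  exact chkURangeF_spec C relF_hyp 1237356000 tc_eq 6387712 2048 ck_3119 b (by omega) (by omega)
end Cfsg.Agent.Lib.Helper2.HNMult.P3
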