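import Cfsg.Agent.Lib.Helper2.HNMult.P3.Cert
set_option autoImplicit false
set_option maxRecDepth 1000000
set_option Elab.async false
namespace Cfsg.Agent.Lib.Helper2.HNMult.P3
open Cfsg.Agent.Lib.Helper4.Sparse Cfsg.Agent.Lib.Helper2.SparseF
theorem ck_312 : chkURangeF D C relF 796 1237356000 638976 2048 = true := by decide +kernel
theorem ck_313 : chkURangeF D C relF 796 1237356000 641024 2048 = true := by decide +kernel
theorem ck_314 : chkURangeF D C relF 796 1237356000 643072 2048 = true := by decide +kernel
theorem ck_315 : chkURangeF D C relF 796 1237356000 645120 2048 = true := by decide +kernel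
theorem ck_316 : chkURangeF D C relF 796 1237356000 647168 2048 = true := by decide +kernel
theorem ck_317 : chkURangeF D C relF 796 1237356000 649216 2048 = true := by decide +kernel
theorem ck_318 : chkURangeF D C relF 796 1237356000 651264 2048 = true := by decide +kernel
theorem ck_319 : chkURangeF D C relF 796 1237356000 653312 2048 = true := by decide +kernel
theorem ck_320 : chkURangeF D C relF 796 1237356000 655360 2048 = true := by decide +kernel
theorem ck_321 : chkURangeF D C relF 796 1237356000 657408 2048 = true := by decide +kernel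
theorem ck_322 : chkURangeF D C relF 796 1237356000 659456 2048 = true := by decide +kernel
theorem ck_323 : chkURangeF D C relF 796 1237356000 661504 2048 = true := by decide +kernel
theorem ck_324 : chkURangeF D C relF 796 1237356000 663552 2048 = true := by decide +kernel
theorem ck_325 : chkURangeF D C relF 796 1237356000 665600 2048 = true := by decide +kernel
theorem ck_326 : chkURangeF D C relF 796 1237356000 667648 2048 = true := by decide +kernel
theorem ck_327 : chkURangeF D C relF 796 1237356000 669696 2048 = true := by decide +kernel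
theorem ck_328 : chkURangeF D C relF 796 1237356000 671744 2048 = true := by decide +kernel
theorem ck_329 : chkURangeF D C relF 796 1237356000 673792 2048 = true := by decide +kernel
theorem ck_330 : chkURangeF D C relF 796 1237356000 675840 2048 = true := by decide +kernel
theorem ck_331 : chkURangeF D C relF 796 1237356000 677888 2048 = true := by decide +kernel
theorem ck_332 : chkURangeF D C relF 796 1237356000 679936 2048 = true := by decide +kernel
theorem ck_333 : chkURangeF D C relF 796 1237356000 681984 2048 = true := by decide +kernel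
theorem ck_334 : chkURangeF D C relF 796 1237356000 684032 2048 = true := by decide +kernel
theorem ck_335 : chkURangeF D C relF 796 1237356000 686080 2048 = true := by decide +kernel
theorem chkU_13 (b : ℕ) (h1 : 638976 ≤ b) (h2 : b < 688128) : chkU D C b = true := by
  rcases Nat.lt_or_ge b 641024 with g0 | g0
  · exact chkURangeF_spec C relF_hyp 1237356000 tc_eq 638976 2048 ck_312 b (by omega) (by omega)
  rcases Nat.lt_or_ge b 643072 with g1 | g1
  · exact chkURangeF_spec C relF_hyp 1237356000 tc_eq 641024 2048 ck_313 b (by omega) (by omega)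
  rcases Nat.lt_or_ge b 645120 with g2 | g2
  · exact chkURangeF_spec C relF_hyp 1237356000 tc_eq 643072 2048 ck_314 b (by omega) (by omega)
  rcases Nat.lt_or_ge b 647168 with g3 | g3
  · exact chkURangeF_spec C relF_hyp 1237356000 tc_eq 645120 2048 ck_315 b (by omega) (by omega)
  rcases Nat.lt_or_ge b 649216 with g4 | g4
  · exact chkURangeF_spec C relF_hyp 1237356000 tc_eq 647168 2048 ck_316 b (by omega) (by omega)
  rcases Nat.lt_or_ge b 651264 with g5 | g5
  · exact chkURangeF_spec C relF_hyp 1237356000 tc_eq 649216 2048 ck_317 b (by omega) (by omega)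
  rcases Nat.lt_or_ge b 653312 with g6 | g6
  · exact chkURangeF_spec C relF_hyp 1237356000 tc_eq 651264 2048 ck_318 b (by omega) (by omega)
  rcases Nat.lt_or_ge b 655360 with g7 | g7
  · exact chkURangeF_spec C relF_hyp 1237356000 tc_eq 653312 2048 ck_319 b (by omega) (by omega)
  rcases Nat.lt_or_ge b 657408 with g8 | g8
  · exact chkURangeF_spec C relF_hyp 1237356000 tc_eq 655360 2048 ck_320 b (by omega) (by omega)
  rcases Nat.lt_or_ge b 659456 with g9 | g9
  · exact chkURangeF_spec C relF_hyp 1237356000 tc_eq 657408 2048 ck_321 b (by omega) (by omega)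
  rcases Nat.lt_or_ge b 661504 with g10 | g10
  · exact chkURangeF_spec C relF_hyp 1237356000 tc_eq 659456 2048 ck_322 b (by omega) (by omega)
  rcases Nat.lt_or_ge b 663552 with g11 | g11
  · exact chkURangeF_spec C relF_hyp 1237356000 tc_eq 661504 2048 ck_323 b (by omega) (by omega)
  rcases Nat.lt_or_ge b 665600 with g12 | g12
  · exact chkURangeF_spec C relF_hyp 1237356000 tc_eq 663552 2048 ck_324 b (by omega) (by omega)
  rcases Nat.lt_or_ge b 667648 with g13 | g13
  · exact chkURangeF_spec C relF_hyp 1237356000 tc_eq 665600 2048 ck_325 b (by omega) (by omega)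
  rcases Nat.lt_or_ge b 669696 with g14 | g14
  · exact chkURangeF_spec C relF_hyp 1237356000 tc_eq 667648 2048 ck_326 b (by omega) (by omega)
  rcases Nat.lt_or_ge b 671744 with g15 | g15
  · exact chkURangeF_spec C relF_hyp 1237356000 tc_eq 669696 2048 ck_327 b (by omega) (by omega)
  rcases Nat.lt_or_ge b 673792 with g16 | g16
  · exact chkURangeF_spec C relF_hyp 1237356000 tc_eq 671744 2048 ck_328 b (by omega) (by omega)
  rcases Nat.lt_or_ge b 675840 with g17 | g17
  · exact chkURangeF_spec C relF_hyp 1237356000 tc_eq 673792 2048 ck_329 b (by omega) (by omega)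
  rcases Nat.lt_or_ge b 677888 with g18 | g18
  · exact chkURangeF_spec C relF_hyp 1237356000 tc_eq 675840 2048 ck_330 b (by omega) (by omega)
  rcases Nat.lt_or_ge b 679936 with g19 | g19
  · exact chkURangeF_spec C relF_hyp 1237356000 tc_eq 677888 2048 ck_331 b (by omega) (by omega)
  rcases Nat.lt_or_ge b 681984 with g20 | g20
  · exact chkURangeF_spec C relF_hyp 1237356000 tc_eq 679936 2048 ck_332 b (by omega) (by omega)
  rcases Nat.lt_or_ge b 684032 with g21 | g21
  · exact chkURangeF_spec C relF_hyp 1237356000 tc_eq 681984 2048 ck_333 b (by omega) (by omega)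
  rcases Nat.lt_or_ge b 686080 with g22 | g22
  · exact chkURangeF_spec C relF_hyp 1237356000 tc_eq 684032 2048 ck_334 b (by omega) (by omega)
  exact chkURangeF_spec C relF_hyp 1237356000 tc_eq 686080 2048 ck_335 b (by omega) (by omega)
end Cfsg.Agent.Lib.Helper2.HNMult.P3
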