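import Cfsg.Agent.Lib.Helper2.HNMult.P3.Cert
set_option autoImplicit false
set_option maxRecDepth 1000000
set_option Elab.async false
namespace Cfsg.Agent.Lib.Helper2.HNMult.P3
open Cfsg.Agent.Lib.Helper4.Sparse Cfsg.Agent.Lib.Helper2.SparseF
theorem ck_3216 : chkURangeF D C relF 796 1237356000 6586368 2048 = true := by decide +kernel
theorem ck_3217 : chkURangeF D C relF 796 1237356000 6588416 2048 = true := by decide +kernel
theorem ck_3218 : chkURangeF D C relF 796 1237356000 6590464 2048 = true := by decide +kernel
theorem ck_3219 : chkURangeF D C relF 796 1237356000 6592512 2048 = true := by decide +kernel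
theorem ck_3220 : chkURangeF D C relF 796 1237356000 6594560 2048 = true := by decide +kernel
theorem ck_3221 : chkURangeF D C relF 796 1237356000 6596608 2048 = true := by decide +kernel
theorem ck_3222 : chkURangeF D C relF 796 1237356000 6598656 2048 = true := by decide +kernel
theorem ck_3223 : chkURangeF D C relF 796 1237356000 6600704 2048 = true := by decide +kernel
theorem ck_3224 : chkURangeF D C relF 796 1237356000 6602752 2048 = true := by decide +kernel
theorem ck_3225 : chkURangeF D C relF 796 1237356000 6604800 2048 = true := by decide +kernel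
theorem ck_3226 : chkURangeF D C relF 796 1237356000 6606848 2048 = true := by decide +kernel
theorem ck_3227 : chkURangeF D C relF 796 1237356000 6608896 2048 = true := by decide +kernel
theorem ck_3228 : chkURangeF D C relF 796 1237356000 6610944 2048 = true := by decide +kernel
theorem ck_3229 : chkURangeF D C relF 796 1237356000 6612992 2048 = true := by decide +kernel
theorem ck_3230 : chkURangeF D C relF 796 1237356000 6615040 2048 = true := by decide +kernel
theorem ck_3231 : chkURangeF D C relF 796 1237356000 6617088 2048 = true := by decide +kernel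
theorem ck_3232 : chkURangeF D C relF 796 1237356000 6619136 2048 = true := by decide +kernel
theorem ck_3233 : chkURangeF D C relF 796 1237356000 6621184 2048 = true := by decide +kernel
theorem ck_3234 : chkURangeF D C relF 796 1237356000 6623232 2048 = true := by decide +kernel
theorem ck_3235 : chkURangeF D C relF 796 1237356000 6625280 2048 = true := by decide +kernel
theorem ck_3236 : chkURangeF D C relF 796 1237356000 6627328 2048 = true := by decide +kernel
theorem ck_3237 : chkURangeF D C relF 796 1237356000 6629376 2048 = true := by decide +kernel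
theorem ck_3238 : chkURangeF D C relF 796 1237356000 6631424 2048 = true := by decide +kernel
theorem ck_3239 : chkURangeF D C relF 796 1237356000 6633472 2048 = true := by decide +kernel
theorem chkU_134 (b : ℕ) (h1 : 6586368 ≤ b) (h2 : b < 6635520) : chkU D C b = true := by
  rcases Nat.lt_or_ge b 6588416 with g0 | g0
  · exact chkURangeF_spec C relF_hyp 1237356000 tc_eq 6586368 2048 ck_3216 b (by omega) (by omega)
  rcases Nat.lt_or_ge b 6590464 with g1 | g1
  · exact chkURangeF_spec C relF_hyp 1237356000 tc_eq 6588416 2048 ck_3217 b (by omega) (by omega)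
  rcases Nat.lt_or_ge b 6592512 with g2 | g2
  · exact chkURangeF_spec C relF_hyp 1237356000 tc_eq 6590464 2048 ck_3218 b (by omega) (by omega)
  rcases Nat.lt_or_ge b 6594560 with g3 | g3
  · exact chkURangeF_spec C relF_hyp 1237356000 tc_eq 6592512 2048 ck_3219 b (by omega) (by omega)
  rcases Nat.lt_or_ge b 6596608 with g4 | g4
  · exact chkURangeF_spec C relF_hyp 1237356000 tc_eq 6594560 2048 ck_3220 b (by omega) (by omega)
  rcases Nat.lt_or_ge b 6598656 with g5 | g5
  · exact chkURangeF_spec C relF_hyp 1237356000 tc_eq 6596608 2048 ck_3221 b (by omega) (by omega)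
  rcases Nat.lt_or_ge b 6600704 with g6 | g6
  · exact chkURangeF_spec C relF_hyp 1237356000 tc_eq 6598656 2048 ck_3222 b (by omega) (by omega)
  rcases Nat.lt_or_ge b 6602752 with g7 | g7
  · exact chkURangeF_spec C relF_hyp 1237356000 tc_eq 6600704 2048 ck_3223 b (by omega) (by omega)
  rcases Nat.lt_or_ge b 6604800 with g8 | g8
  · exact chkURangeF_spec C relF_hyp 1237356000 tc_eq 6602752 2048 ck_3224 b (by omega) (by omega)
  rcases Nat.lt_or_ge b 6606848 with g9 | g9
  · exact chkURangeF_spec C relF_hyp 1237356000 tc_eq 6604800 2048 ck_3225 b (by omega) (by omega)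
  rcases Nat.lt_or_ge b 6608896 with g10 | g10
  · exact chkURangeF_spec C relF_hyp 1237356000 tc_eq 6606848 2048 ck_3226 b (by omega) (by omega)
  rcases Nat.lt_or_ge b 6610944 with g11 | g11
  · exact chkURangeF_spec C relF_hyp 1237356000 tc_eq 6608896 2048 ck_3227 b (by omega) (by omega)
  rcases Nat.lt_or_ge b 6612992 with g12 | g12
  · exact chkURangeF_spec C relF_hyp 1237356000 tc_eq 6610944 2048 ck_3228 b (by omega) (by omega)
  rcases Nat.lt_or_ge b 6615040 with g13 | g13
  · exact chkURangeF_spec C relF_hyp 1237356000 tc_eq 6612992 2048 ck_3229 b (by omega) (by omega)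
  rcases Nat.lt_or_ge b 6617088 with g14 | g14
  · exact chkURangeF_spec C relF_hyp 1237356000 tc_eq 6615040 2048 ck_3230 b (by omega) (by omega)
  rcases Nat.lt_or_ge b 6619136 with g15 | g15
  · exact chkURangeF_spec C relF_hyp 1237356000 tc_eq 6617088 2048 ck_3231 b (by omega) (by omega)
  rcases Nat.lt_or_ge b 6621184 with g16 | g16
  · exact chkURangeF_spec C relF_hyp 1237356000 tc_eq 6619136 2048 ck_3232 b (by omega) (by omega)
  rcases Nat.lt_or_ge b 6623232 with g17 | g17
  · exact chkURangeF_spec C relF_hyp 1237356000 tc_eq 6621184 2048 ck_3233 b (by omega) (by omega)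
  rcases Nat.lt_or_ge b 6625280 with g18 | g18
  · exact chkURangeF_spec C relF_hyp 1237356000 tc_eq 6623232 2048 ck_3234 b (by omega) (by omega)
  rcases Nat.lt_or_ge b 6627328 with g19 | g19
  · exact chkURangeF_spec C relF_hyp 1237356000 tc_eq 6625280 2048 ck_3235 b (by omega) (by omega)
  rcases Nat.lt_or_ge b 6629376 with g20 | g20
  · exact chkURangeF_spec C relF_hyp 1237356000 tc_eq 6627328 2048 ck_3236 b (by omega) (by omega)
  rcases Nat.lt_or_ge b 6631424 with g21 | g21
  · exact chkURangeF_spec C relF_hyp 1237356000 tc_eq 6629376 2048 ck_3237 b (by omega) (by omega)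
  rcases Nat.lt_or_ge b 6633472 with g22 | g22
  · exact chkURangeF_spec C relF_hyp 1237356000 tc_eq 6631424 2048 ck_3238 b (by omega) (by omega)
  exact chkURangeF_spec C relF_hyp 1237356000 tc_eq 6633472 2048 ck_3239 b (by omega) (by omega)
end Cfsg.Agent.Lib.Helper2.HNMult.P3
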