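import Cfsg.Agent.Lib.Helper2.HNMult.P3.Cert
set_option autoImplicit false
set_option maxRecDepth 1000000
set_option Elab.async false
namespace Cfsg.Agent.Lib.Helper2.HNMult.P3
open Cfsg.Agent.Lib.Helper4.Sparse Cfsg.Agent.Lib.Helper2.SparseF
theorem ck_3240 : chkURangeF D C relF 796 1237356000 6635520 2048 = true := by decide +kernel
theorem ck_3241 : chkURangeF D C relF 796 1237356000 6637568 2048 = true := by decide +kernel
theorem ck_3242 : chkURangeF D C relF 796 1237356000 6639616 2048 = true := by decide +kernel
theorem ck_3243 : chkURangeF D C relF 796 1237356000 6641664 2048 = true := by decide +kernel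
theorem ck_3244 : chkURangeF D C relF 796 1237356000 6643712 2048 = true := by decide +kernel
theorem ck_3245 : chkURangeF D C relF 796 1237356000 6645760 2048 = true := by decide +kernel
theorem ck_3246 : chkURangeF D C relF 796 1237356000 6647808 2048 = true := by decide +kernel
theorem ck_3247 : chkURangeF D C relF 796 1237356000 6649856 2048 = true := by decide +kernel
theorem ck_3248 : chkURangeF D C relF 796 1237356000 6651904 2048 = true := by decide +kernel
theorem ck_3249 : chkURangeF D C relF 796 1237356000 6653952 2048 = true := by decide +kernel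
theorem ck_3250 : chkURangeF D C relF 796 1237356000 6656000 2048 = true := by decide +kernel
theorem ck_3251 : chkURangeF D C relF 796 1237356000 6658048 2048 = true := by decide +kernel
theorem ck_3252 : chkURangeF D C relF 796 1237356000 6660096 2048 = true := by decide +kernel
theorem ck_3253 : chkURangeF D C relF 796 1237356000 6662144 2048 = true := by decide +kernel
theorem ck_3254 : chkURangeF D C relF 796 1237356000 6664192 2048 = true := by decide +kernel
theorem ck_3255 : chkURangeF D C relF 796 1237356000 6666240 2048 = true := by decide +kernel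
theorem ck_3256 : chkURangeF D C relF 796 1237356000 6668288 2048 = true := by decide +kernel
theorem ck_3257 : chkURangeF D C relF 796 1237356000 6670336 2048 = true := by decide +kernel
theorem ck_3258 : chkURangeF D C relF 796 1237356000 6672384 2048 = true := by decide +kernel
theorem ck_3259 : chkURangeF D C relF 796 1237356000 6674432 2048 = true := by decide +kernel
theorem ck_3260 : chkURangeF D C relF 796 1237356000 6676480 2048 = true := by decide +kernel
theorem ck_3261 : chkURangeF D C relF 796 1237356000 6678528 2048 = true := by decide +kernel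
theorem ck_3262 : chkURangeF D C relF 796 1237356000 6680576 2048 = true := by decide +kernel
theorem ck_3263 : chkURangeF D C relF 796 1237356000 6682624 2048 = true := by decide +kernel
theorem chkU_135 (b : ℕ) (h1 : 6635520 ≤ b) (h2 : b < 6684672) : chkU D C b = true := by
  rcases Nat.lt_or_ge b 6637568 with g0 | g0
  · exact chkURangeF_spec C relF_hyp 1237356000 tc_eq 6635520 2048 ck_3240 b (by omega) (by omega)
  rcases Nat.lt_or_ge b 6639616 with g1 | g1
  · exact chkURangeF_spec C relF_hyp 1237356000 tc_eq 6637568 2048 ck_3241 b (by omega) (by omega)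
  rcases Nat.lt_or_ge b 6641664 with g2 | g2
  · exact chkURangeF_spec C relF_hyp 1237356000 tc_eq 6639616 2048 ck_3242 b (by omega) (by omega)
  rcases Nat.lt_or_ge b 6643712 with g3 | g3
  · exact chkURangeF_spec C relF_hyp 1237356000 tc_eq 6641664 2048 ck_3243 b (by omega) (by omega)
  rcases Nat.lt_or_ge b 6645760 with g4 | g4
  · exact chkURangeF_spec C relF_hyp 1237356000 tc_eq 6643712 2048 ck_3244 b (by omega) (by omega)
  rcases Nat.lt_or_ge b 6647808 with g5 | g5
  · exact chkURangeF_spec C relF_hyp 1237356000 tc_eq 6645760 2048 ck_3245 b (by omega) (by omega)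
  rcases Nat.lt_or_ge b 6649856 with g6 | g6
  · exact chkURangeF_spec C relF_hyp 1237356000 tc_eq 6647808 2048 ck_3246 b (by omega) (by omega)
  rcases Nat.lt_or_ge b 6651904 with g7 | g7
  · exact chkURangeF_spec C relF_hyp 1237356000 tc_eq 6649856 2048 ck_3247 b (by omega) (by omega)
  rcases Nat.lt_or_ge b 6653952 with g8 | g8
  · exact chkURangeF_spec C relF_hyp 1237356000 tc_eq 6651904 2048 ck_3248 b (by omega) (by omega)
  rcases Nat.lt_or_ge b 6656000 with g9 | g9
  · exact chkURangeF_spec C relF_hyp 1237356000 tc_eq 6653952 2048 ck_3249 b (by omega) (by omega)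
  rcases Nat.lt_or_ge b 6658048 with g10 | g10
  · exact chkURangeF_spec C relF_hyp 1237356000 tc_eq 6656000 2048 ck_3250 b (by omega) (by omega)
  rcases Nat.lt_or_ge b 6660096 with g11 | g11
  · exact chkURangeF_spec C relF_hyp 1237356000 tc_eq 6658048 2048 ck_3251 b (by omega) (by omega)
  rcases Nat.lt_or_ge b 6662144 with g12 | g12
  · exact chkURangeF_spec C relF_hyp 1237356000 tc_eq 6660096 2048 ck_3252 b (by omega) (by omega)
  rcases Nat.lt_or_ge b 6664192 with g13 | g13
  · exact chkURangeF_spec C relF_hyp 1237356000 tc_eq 6662144 2048 ck_3253 b (by omega) (by omega)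
  rcases Nat.lt_or_ge b 6666240 with g14 | g14
  · exact chkURangeF_spec C relF_hyp 1237356000 tc_eq 6664192 2048 ck_3254 b (by omega) (by omega)
  rcases Nat.lt_or_ge b 6668288 with g15 | g15
  · exact chkURangeF_spec C relF_hyp 1237356000 tc_eq 6666240 2048 ck_3255 b (by omega) (by omega)
  rcases Nat.lt_or_ge b 6670336 with g16 | g16
  · exact chkURangeF_spec C relF_hyp 1237356000 tc_eq 6668288 2048 ck_3256 b (by omega) (by omega)
  rcases Nat.lt_or_ge b 6672384 with g17 | g17
  · exact chkURangeF_spec C relF_hyp 1237356000 tc_eq 6670336 2048 ck_3257 b (by omega) (by omega)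
  rcases Nat.lt_or_ge b 6674432 with g18 | g18
  · exact chkURangeF_spec C relF_hyp 1237356000 tc_eq 6672384 2048 ck_3258 b (by omega) (by omega)
  rcases Nat.lt_or_ge b 6676480 with g19 | g19
  · exact chkURangeF_spec C relF_hyp 1237356000 tc_eq 6674432 2048 ck_3259 b (by omega) (by omega)
  rcases Nat.lt_or_ge b 6678528 with g20 | g20
  · exact chkURangeF_spec C relF_hyp 1237356000 tc_eq 6676480 2048 ck_3260 b (by omega) (by omega)
  rcases Nat.lt_or_ge b 6680576 with g21 | g21
  · exact chkURangeF_spec C relF_hyp 1237356000 tc_eq 6678528 2048 ck_3261 b (by omega) (by omega)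
  rcases Nat.lt_or_ge b 6682624 with g22 | g22
  · exact chkURangeF_spec C relF_hyp 1237356000 tc_eq 6680576 2048 ck_3262 b (by omega) (by omega)
  exact chkURangeF_spec C relF_hyp 1237356000 tc_eq 6682624 2048 ck_3263 b (by omega) (by omega)
end Cfsg.Agent.Lib.Helper2.HNMult.P3
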