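import Cfsg.Agent.Lib.Helper2.HNMult.P3.Cert
set_option autoImplicit false
set_option maxRecDepth 1000000
set_option Elab.async false
namespace Cfsg.Agent.Lib.Helper2.HNMult.P3
open Cfsg.Agent.Lib.Helper4.Sparse Cfsg.Agent.Lib.Helper2.SparseF
theorem ck_3288 : chkURangeF D C relF 796 1237356000 6733824 2048 = true := by decide +kernel
theorem ck_3289 : chkURangeF D C relF 796 1237356000 6735872 2048 = true := by decide +kernel
theorem ck_3290 : chkURangeF D C relF 796 1237356000 6737920 2048 = true := by decide +kernel
theorem ck_3291 : chkURangeF D C relF 796 1237356000 6739968 2048 = true := by decide +kernel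
theorem ck_3292 : chkURangeF D C relF 796 1237356000 6742016 2048 = true := by decide +kernel
theorem ck_3293 : chkURangeF D C relF 796 1237356000 6744064 2048 = true := by decide +kernel
theorem ck_3294 : chkURangeF D C relF 796 1237356000 6746112 2048 = true := by decide +kernel
theorem ck_3295 : chkURangeF D C relF 796 1237356000 6748160 2048 = true := by decide +kernel
theorem ck_3296 : chkURangeF D C relF 796 1237356000 6750208 2048 = true := by decide +kernel
theorem ck_3297 : chkURangeF D C relF 796 1237356000 6752256 2048 = true := by decide +kernel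
theorem ck_3298 : chkURangeF D C relF 796 1237356000 6754304 2048 = true := by decide +kernel
theorem ck_3299 : chkURangeF D C relF 796 1237356000 6756352 2048 = true := by decide +kernel
theorem ck_3300 : chkURangeF D C relF 796 1237356000 6758400 2048 = true := by decide +kernel
theorem ck_3301 : chkURangeF D C relF 796 1237356000 6760448 2048 = true := by decide +kernel
theorem ck_3302 : chkURangeF D C relF 796 1237356000 6762496 2048 = true := by decide +kernel
theorem ck_3303 : chkURangeF D C relF 796 1237356000 6764544 2048 = true := by decide +kernel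
theorem ck_3304 : chkURangeF D C relF 796 1237356000 6766592 2048 = true := by decide +kernel
theorem ck_3305 : chkURangeF D C relF 796 1237356000 6768640 2048 = true := by decide +kernel
theorem ck_3306 : chkURangeF D C relF 796 1237356000 6770688 2048 = true := by decide +kernel
theorem ck_3307 : chkURangeF D C relF 796 1237356000 6772736 2048 = true := by decide +kernel
theorem ck_3308 : chkURangeF D C relF 796 1237356000 6774784 2048 = true := by decide +kernel
theorem ck_3309 : chkURangeF D C relF 796 1237356000 6776832 2048 = true := by decide +kernel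
theorem ck_3310 : chkURangeF D C relF 796 1237356000 6778880 2048 = true := by decide +kernel
theorem ck_3311 : chkURangeF D C relF 796 1237356000 6780928 2048 = true := by decide +kernel
theorem chkU_137 (b : ℕ) (h1 : 6733824 ≤ b) (h2 : b < 6782976) : chkU D C b = true := by
  rcases Nat.lt_or_ge b 6735872 with g0 | g0
  · exact chkURangeF_spec C relF_hyp 1237356000 tc_eq 6733824 2048 ck_3288 b (by omega) (by omega)
  rcases Nat.lt_or_ge b 6737920 with g1 | g1
  · exact chkURangeF_spec C relF_hyp 1237356000 tc_eq 6735872 2048 ck_3289 b (by omega) (by omega)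
  rcases Nat.lt_or_ge b 6739968 with g2 | g2
  · exact chkURangeF_spec C relF_hyp 1237356000 tc_eq 6737920 2048 ck_3290 b (by omega) (by omega)
  rcases Nat.lt_or_ge b 6742016 with g3 | g3
  · exact chkURangeF_spec C relF_hyp 1237356000 tc_eq 6739968 2048 ck_3291 b (by omega) (by omega)
  rcases Nat.lt_or_ge b 6744064 with g4 | g4
  · exact chkURangeF_spec C relF_hyp 1237356000 tc_eq 6742016 2048 ck_3292 b (by omega) (by omega)
  rcases Nat.lt_or_ge b 6746112 with g5 | g5
  · exact chkURangeF_spec C relF_hyp 1237356000 tc_eq 6744064 2048 ck_3293 b (by omega) (by omega)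
  rcases Nat.lt_or_ge b 6748160 with g6 | g6
  · exact chkURangeF_spec C relF_hyp 1237356000 tc_eq 6746112 2048 ck_3294 b (by omega) (by omega)
  rcases Nat.lt_or_ge b 6750208 with g7 | g7
  · exact chkURangeF_spec C relF_hyp 1237356000 tc_eq 6748160 2048 ck_3295 b (by omega) (by omega)
  rcases Nat.lt_or_ge b 6752256 with g8 | g8
  · exact chkURangeF_spec C relF_hyp 1237356000 tc_eq 6750208 2048 ck_3296 b (by omega) (by omega)
  rcases Nat.lt_or_ge b 6754304 with g9 | g9
  · exact chkURangeF_spec C relF_hyp 1237356000 tc_eq 6752256 2048 ck_3297 b (by omega) (by omega)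
  rcases Nat.lt_or_ge b 6756352 with g10 | g10
  · exact chkURangeF_spec C relF_hyp 1237356000 tc_eq 6754304 2048 ck_3298 b (by omega) (by omega)
  rcases Nat.lt_or_ge b 6758400 with g11 | g11
  · exact chkURangeF_spec C relF_hyp 1237356000 tc_eq 6756352 2048 ck_3299 b (by omega) (by omega)
  rcases Nat.lt_or_ge b 6760448 with g12 | g12
  · exact chkURangeF_spec C relF_hyp 1237356000 tc_eq 6758400 2048 ck_3300 b (by omega) (by omega)
  rcases Nat.lt_or_ge b 6762496 with g13 | g13
  · exact chkURangeF_spec C relF_hyp 1237356000 tc_eq 6760448 2048 ck_3301 b (by omega) (by omega)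
  rcases Nat.lt_or_ge b 6764544 with g14 | g14
  · exact chkURangeF_spec C relF_hyp 1237356000 tc_eq 6762496 2048 ck_3302 b (by omega) (by omega)
  rcases Nat.lt_or_ge b 6766592 with g15 | g15
  · exact chkURangeF_spec C relF_hyp 1237356000 tc_eq 6764544 2048 ck_3303 b (by omega) (by omega)
  rcases Nat.lt_or_ge b 6768640 with g16 | g16
  · exact chkURangeF_spec C relF_hyp 1237356000 tc_eq 6766592 2048 ck_3304 b (by omega) (by omega)
  rcases Nat.lt_or_ge b 6770688 with g17 | g17
  · exact chkURangeF_spec C relF_hyp 1237356000 tc_eq 6768640 2048 ck_3305 b (by omega) (by omega)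
  rcases Nat.lt_or_ge b 6772736 with g18 | g18
  · exact chkURangeF_spec C relF_hyp 1237356000 tc_eq 6770688 2048 ck_3306 b (by omega) (by omega)
  rcases Nat.lt_or_ge b 6774784 with g19 | g19
  · exact chkURangeF_spec C relF_hyp 1237356000 tc_eq 6772736 2048 ck_3307 b (by omega) (by omega)
  rcases Nat.lt_or_ge b 6776832 with g20 | g20
  · exact chkURangeF_spec C relF_hyp 1237356000 tc_eq 6774784 2048 ck_3308 b (by omega) (by omega)
  rcases Nat.lt_or_ge b 6778880 with g21 | g21
  · exact chkURangeF_spec C relF_hyp 1237356000 tc_eq 6776832 2048 ck_3309 b (by omega) (by omega)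
  rcases Nat.lt_or_ge b 6780928 with g22 | g22
  · exact chkURangeF_spec C relF_hyp 1237356000 tc_eq 6778880 2048 ck_3310 b (by omega) (by omega)
  exact chkURangeF_spec C relF_hyp 1237356000 tc_eq 6780928 2048 ck_3311 b (by omega) (by omega)
end Cfsg.Agent.Lib.Helper2.HNMult.P3
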