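import Cfsg.Agent.Lib.Helper2.HNMult.P3.Cert
set_option autoImplicit false
set_option maxRecDepth 1000000
set_option Elab.async false
namespace Cfsg.Agent.Lib.Helper2.HNMult.P3
open Cfsg.Agent.Lib.Helper4.Sparse Cfsg.Agent.Lib.Helper2.SparseF
theorem ck_3312 : chkURangeF D C relF 796 1237356000 6782976 2048 = true := by decide +kernel
theorem ck_3313 : chkURangeF D C relF 796 1237356000 6785024 2048 = true := by decide +kernel
theorem ck_3314 : chkURangeF D C relF 796 1237356000 6787072 2048 = true := by decide +kernel
theorem ck_3315 : chkURangeF D C relF 796 1237356000 6789120 2048 = true := by decide +kernel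
theorem ck_3316 : chkURangeF D C relF 796 1237356000 6791168 2048 = true := by decide +kernel
theorem ck_3317 : chkURangeF D C relF 796 1237356000 6793216 2048 = true := by decide +kernel
theorem ck_3318 : chkURangeF D C relF 796 1237356000 6795264 2048 = true := by decide +kernel
theorem ck_3319 : chkURangeF D C relF 796 1237356000 6797312 2048 = true := by decide +kernel
theorem ck_3320 : chkURangeF D C relF 796 1237356000 6799360 2048 = true := by decide +kernel
theorem ck_3321 : chkURangeF D C relF 796 1237356000 6801408 2048 = true := by decide +kernel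
theorem ck_3322 : chkURangeF D C relF 796 1237356000 6803456 2048 = true := by decide +kernel
theorem ck_3323 : chkURangeF D C relF 796 1237356000 6805504 2048 = true := by decide +kernel
theorem ck_3324 : chkURangeF D C relF 796 1237356000 6807552 2048 = true := by decide +kernel
theorem ck_3325 : chkURangeF D C relF 796 1237356000 6809600 2048 = true := by decide +kernel
theorem ck_3326 : chkURangeF D C relF 796 1237356000 6811648 2048 = true := by decide +kernel
theorem ck_3327 : chkURangeF D C relF 796 1237356000 6813696 2048 = true := by decide +kernel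
theorem ck_3328 : chkURangeF D C relF 796 1237356000 6815744 2048 = true := by decide +kernel
theorem ck_3329 : chkURangeF D C relF 796 1237356000 6817792 2048 = true := by decide +kernel
theorem ck_3330 : chkURangeF D C relF 796 1237356000 6819840 2048 = true := by decide +kernel
theorem ck_3331 : chkURangeF D C relF 796 1237356000 6821888 2048 = true := by decide +kernel
theorem ck_3332 : chkURangeF D C relF 796 1237356000 6823936 2048 = true := by decide +kernel
theorem ck_3333 : chkURangeF D C relF 796 1237356000 6825984 2048 = true := by decide +kernel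
theorem ck_3334 : chkURangeF D C relF 796 1237356000 6828032 2048 = true := by decide +kernel
theorem ck_3335 : chkURangeF D C relF 796 1237356000 6830080 2048 = true := by decide +kernel
theorem chkU_138 (b : ℕ) (h1 : 6782976 ≤ b) (h2 : b < 6832128) : chkU D C b = true := by
  rcases Nat.lt_or_ge b 6785024 with g0 | g0
  · exact chkURangeF_spec C relF_hyp 1237356000 tc_eq 6782976 2048 ck_3312 b (by omega) (by omega)
  rcases Nat.lt_or_ge b 6787072 with g1 | g1
  · exact chkURangeF_spec C relF_hyp 1237356000 tc_eq 6785024 2048 ck_3313 b (by omega) (by omega)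
  rcases Nat.lt_or_ge b 6789120 with g2 | g2
  · exact chkURangeF_spec C relF_hyp 1237356000 tc_eq 6787072 2048 ck_3314 b (by omega) (by omega)
  rcases Nat.lt_or_ge b 6791168 with g3 | g3
  · exact chkURangeF_spec C relF_hyp 1237356000 tc_eq 6789120 2048 ck_3315 b (by omega) (by omega)
  rcases Nat.lt_or_ge b 6793216 with g4 | g4
  · exact chkURangeF_spec C relF_hyp 1237356000 tc_eq 6791168 2048 ck_3316 b (by omega) (by omega)
  rcases Nat.lt_or_ge b 6795264 with g5 | g5
  · exact chkURangeF_spec C relF_hyp 1237356000 tc_eq 6793216 2048 ck_3317 b (by omega) (by omega)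
  rcases Nat.lt_or_ge b 6797312 with g6 | g6
  · exact chkURangeF_spec C relF_hyp 1237356000 tc_eq 6795264 2048 ck_3318 b (by omega) (by omega)
  rcases Nat.lt_or_ge b 6799360 with g7 | g7
  · exact chkURangeF_spec C relF_hyp 1237356000 tc_eq 6797312 2048 ck_3319 b (by omega) (by omega)
  rcases Nat.lt_or_ge b 6801408 with g8 | g8
  · exact chkURangeF_spec C relF_hyp 1237356000 tc_eq 6799360 2048 ck_3320 b (by omega) (by omega)
  rcases Nat.lt_or_ge b 6803456 with g9 | g9
  · exact chkURangeF_spec C relF_hyp 1237356000 tc_eq 6801408 2048 ck_3321 b (by omega) (by omega)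
  rcases Nat.lt_or_ge b 6805504 with g10 | g10
  · exact chkURangeF_spec C relF_hyp 1237356000 tc_eq 6803456 2048 ck_3322 b (by omega) (by omega)
  rcases Nat.lt_or_ge b 6807552 with g11 | g11
  · exact chkURangeF_spec C relF_hyp 1237356000 tc_eq 6805504 2048 ck_3323 b (by omega) (by omega)
  rcases Nat.lt_or_ge b 6809600 with g12 | g12
  · exact chkURangeF_spec C relF_hyp 1237356000 tc_eq 6807552 2048 ck_3324 b (by omega) (by omega)
  rcases Nat.lt_or_ge b 6811648 with g13 | g13
  · exact chkURangeF_spec C relF_hyp 1237356000 tc_eq 6809600 2048 ck_3325 b (by omega) (by omega)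
  rcases Nat.lt_or_ge b 6813696 with g14 | g14
  · exact chkURangeF_spec C relF_hyp 1237356000 tc_eq 6811648 2048 ck_3326 b (by omega) (by omega)
  rcases Nat.lt_or_ge b 6815744 with g15 | g15
  · exact chkURangeF_spec C relF_hyp 1237356000 tc_eq 6813696 2048 ck_3327 b (by omega) (by omega)
  rcases Nat.lt_or_ge b 6817792 with g16 | g16
  · exact chkURangeF_spec C relF_hyp 1237356000 tc_eq 6815744 2048 ck_3328 b (by omega) (by omega)
  rcases Nat.lt_or_ge b 6819840 with g17 | g17
  · exact chkURangeF_spec C relF_hyp 1237356000 tc_eq 6817792 2048 ck_3329 b (by omega) (by omega)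
  rcases Nat.lt_or_ge b 6821888 with g18 | g18
  · exact chkURangeF_spec C relF_hyp 1237356000 tc_eq 6819840 2048 ck_3330 b (by omega) (by omega)
  rcases Nat.lt_or_ge b 6823936 with g19 | g19
  · exact chkURangeF_spec C relF_hyp 1237356000 tc_eq 6821888 2048 ck_3331 b (by omega) (by omega)
  rcases Nat.lt_or_ge b 6825984 with g20 | g20
  · exact chkURangeF_spec C relF_hyp 1237356000 tc_eq 6823936 2048 ck_3332 b (by omega) (by omega)
  rcases Nat.lt_or_ge b 6828032 with g21 | g21
  · exact chkURangeF_spec C relF_hyp 1237356000 tc_eq 6825984 2048 ck_3333 b (by omega) (by omega)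
  rcases Nat.lt_or_ge b 6830080 with g22 | g22
  · exact chkURangeF_spec C relF_hyp 1237356000 tc_eq 6828032 2048 ck_3334 b (by omega) (by omega)
  exact chkURangeF_spec C relF_hyp 1237356000 tc_eq 6830080 2048 ck_3335 b (by omega) (by omega)
end Cfsg.Agent.Lib.Helper2.HNMult.P3
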