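import Cfsg.Agent.Lib.Helper2.HNMult.P3.Cert
set_option autoImplicit false
set_option maxRecDepth 1000000
set_option Elab.async false
namespace Cfsg.Agent.Lib.Helper2.HNMult.P3
open Cfsg.Agent.Lib.Helper4.Sparse Cfsg.Agent.Lib.Helper2.SparseF
theorem ck_336 : chkURangeF D C relF 796 1237356000 688128 2048 = true := by decide +kernel
theorem ck_337 : chkURangeF D C relF 796 1237356000 690176 2048 = true := by decide +kernel
theorem ck_338 : chkURangeF D C relF 796 1237356000 692224 2048 = true := by decide +kernel
theorem ck_339 : chkURangeF D C relF 796 1237356000 694272 2048 = true := by decide +kernel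
theorem ck_340 : chkURangeF D C relF 796 1237356000 696320 2048 = true := by decide +kernel
theorem ck_341 : chkURangeF D C relF 796 1237356000 698368 2048 = true := by decide +kernel
theorem ck_342 : chkURangeF D C relF 796 1237356000 700416 2048 = true := by decide +kernel
theorem ck_343 : chkURangeF D C relF 796 1237356000 702464 2048 = true := by decide +kernel
theorem ck_344 : chkURangeF D C relF 796 1237356000 704512 2048 = true := by decide +kernel
theorem ck_345 : chkURangeF D C relF 796 1237356000 706560 2048 = true := by decide +kernel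
theorem ck_346 : chkURangeF D C relF 796 1237356000 708608 2048 = true := by decide +kernel
theorem ck_347 : chkURangeF D C relF 796 1237356000 710656 2048 = true := by decide +kernel
theorem ck_348 : chkURangeF D C relF 796 1237356000 712704 2048 = true := by decide +kernel
theorem ck_349 : chkURangeF D C relF 796 1237356000 714752 2048 = true := by decide +kernel
theorem ck_350 : chkURangeF D C relF 796 1237356000 716800 2048 = true := by decide +kernel
theorem ck_351 : chkURangeF D C relF 796 1237356000 718848 2048 = true := by decide +kernel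
theorem ck_352 : chkURangeF D C relF 796 1237356000 720896 2048 = true := by decide +kernel
theorem ck_353 : chkURangeF D C relF 796 1237356000 722944 2048 = true := by decide +kernel
theorem ck_354 : chkURangeF D C relF 796 1237356000 724992 2048 = true := by decide +kernel
theorem ck_355 : chkURangeF D C relF 796 1237356000 727040 2048 = true := by decide +kernel
theorem ck_356 : chkURangeF D C relF 796 1237356000 729088 2048 = true := by decide +kernel
theorem ck_357 : chkURangeF D C relF 796 1237356000 731136 2048 = true := by decide +kernel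
theorem ck_358 : chkURangeF D C relF 796 1237356000 733184 2048 = true := by decide +kernel
theorem ck_359 : chkURangeF D C relF 796 1237356000 735232 2048 = true := by decide +kernel
theorem chkU_14 (b : ℕ) (h1 : 688128 ≤ b) (h2 : b < 737280) : chkU D C b = true := by
  rcases Nat.lt_or_ge b 690176 with g0 | g0
  · exact chkURangeF_spec C relF_hyp 1237356000 tc_eq 688128 2048 ck_336 b (by omega) (by omega)
  rcases Nat.lt_or_ge b 692224 with g1 | g1
  · exact chkURangeF_spec C relF_hyp 1237356000 tc_eq 690176 2048 ck_337 b (by omega) (by omega)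
  rcases Nat.lt_or_ge b 694272 with g2 | g2
  · exact chkURangeF_spec C relF_hyp 1237356000 tc_eq 692224 2048 ck_338 b (by omega) (by omega)
  rcases Nat.lt_or_ge b 696320 with g3 | g3
  · exact chkURangeF_spec C relF_hyp 1237356000 tc_eq 694272 2048 ck_339 b (by omega) (by omega)
  rcases Nat.lt_or_ge b 698368 with g4 | g4
  · exact chkURangeF_spec C relF_hyp 1237356000 tc_eq 696320 2048 ck_340 b (by omega) (by omega)
  rcases Nat.lt_or_ge b 700416 with g5 | g5
  · exact chkURangeF_spec C relF_hyp 1237356000 tc_eq 698368 2048 ck_341 b (by omega) (by omega)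
  rcases Nat.lt_or_ge b 702464 with g6 | g6
  · exact chkURangeF_spec C relF_hyp 1237356000 tc_eq 700416 2048 ck_342 b (by omega) (by omega)
  rcases Nat.lt_or_ge b 704512 with g7 | g7
  · exact chkURangeF_spec C relF_hyp 1237356000 tc_eq 702464 2048 ck_343 b (by omega) (by omega)
  rcases Nat.lt_or_ge b 706560 with g8 | g8
  · exact chkURangeF_spec C relF_hyp 1237356000 tc_eq 704512 2048 ck_344 b (by omega) (by omega)
  rcases Nat.lt_or_ge b 708608 with g9 | g9
  · exact chkURangeF_spec C relF_hyp 1237356000 tc_eq 706560 2048 ck_345 b (by omega) (by omega)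
  rcases Nat.lt_or_ge b 710656 with g10 | g10
  · exact chkURangeF_spec C relF_hyp 1237356000 tc_eq 708608 2048 ck_346 b (by omega) (by omega)
  rcases Nat.lt_or_ge b 712704 with g11 | g11
  · exact chkURangeF_spec C relF_hyp 1237356000 tc_eq 710656 2048 ck_347 b (by omega) (by omega)
  rcases Nat.lt_or_ge b 714752 with g12 | g12
  · exact chkURangeF_spec C relF_hyp 1237356000 tc_eq 712704 2048 ck_348 b (by omega) (by omega)
  rcases Nat.lt_or_ge b 716800 with g13 | g13
  · exact chkURangeF_spec C relF_hyp 1237356000 tc_eq 714752 2048 ck_349 b (by omega) (by omega)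
  rcases Nat.lt_or_ge b 718848 with g14 | g14
  · exact chkURangeF_spec C relF_hyp 1237356000 tc_eq 716800 2048 ck_350 b (by omega) (by omega)
  rcases Nat.lt_or_ge b 720896 with g15 | g15
  · exact chkURangeF_spec C relF_hyp 1237356000 tc_eq 718848 2048 ck_351 b (by omega) (by omega)
  rcases Nat.lt_or_ge b 722944 with g16 | g16
  · exact chkURangeF_spec C relF_hyp 1237356000 tc_eq 720896 2048 ck_352 b (by omega) (by omega)
  rcases Nat.lt_or_ge b 724992 with g17 | g17
  · exact chkURangeF_spec C relF_hyp 1237356000 tc_eq 722944 2048 ck_353 b (by omega) (by omega)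
  rcases Nat.lt_or_ge b 727040 with g18 | g18
  · exact chkURangeF_spec C relF_hyp 1237356000 tc_eq 724992 2048 ck_354 b (by omega) (by omega)
  rcases Nat.lt_or_ge b 729088 with g19 | g19
  · exact chkURangeF_spec C relF_hyp 1237356000 tc_eq 727040 2048 ck_355 b (by omega) (by omega)
  rcases Nat.lt_or_ge b 731136 with g20 | g20
  · exact chkURangeF_spec C relF_hyp 1237356000 tc_eq 729088 2048 ck_356 b (by omega) (by omega)
  rcases Nat.lt_or_ge b 733184 with g21 | g21
  · exact chkURangeF_spec C relF_hyp 1237356000 tc_eq 731136 2048 ck_357 b (by omega) (by omega)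
  rcases Nat.lt_or_ge b 735232 with g22 | g22
  · exact chkURangeF_spec C relF_hyp 1237356000 tc_eq 733184 2048 ck_358 b (by omega) (by omega)
  exact chkURangeF_spec C relF_hyp 1237356000 tc_eq 735232 2048 ck_359 b (by omega) (by omega)
end Cfsg.Agent.Lib.Helper2.HNMult.P3
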