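import Cfsg.Agent.Lib.Helper2.HNMult.P3.Cert
set_option autoImplicit false
set_option maxRecDepth 1000000
set_option Elab.async false
namespace Cfsg.Agent.Lib.Helper2.HNMult.P3
open Cfsg.Agent.Lib.Helper4.Sparse Cfsg.Agent.Lib.Helper2.SparseF
theorem ck_3456 : chkURangeF D C relF 796 1237356000 7077888 2048 = true := by decide +kernel
theorem ck_3457 : chkURangeF D C relF 796 1237356000 7079936 2048 = true := by decide +kernel
theorem ck_3458 : chkURangeF D C relF 796 1237356000 7081984 2048 = true := by decide +kernel
theorem ck_3459 : chkURangeF D C relF 796 1237356000 7084032 2048 = true := by decide +kernel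
theorem ck_3460 : chkURangeF D C relF 796 1237356000 7086080 2048 = true := by decide +kernel
theorem ck_3461 : chkURangeF D C relF 796 1237356000 7088128 2048 = true := by decide +kernel
theorem ck_3462 : chkURangeF D C relF 796 1237356000 7090176 2048 = true := by decide +kernel
theorem ck_3463 : chkURangeF D C relF 796 1237356000 7092224 2048 = true := by decide +kernel
theorem ck_3464 : chkURangeF D C relF 796 1237356000 7094272 2048 = true := by decide +kernel
theorem ck_3465 : chkURangeF D C relF 796 1237356000 7096320 2048 = true := by decide +kernel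
theorem ck_3466 : chkURangeF D C relF 796 1237356000 7098368 2048 = true := by decide +kernel
theorem ck_3467 : chkURangeF D C relF 796 1237356000 7100416 2048 = true := by decide +kernel
theorem ck_3468 : chkURangeF D C relF 796 1237356000 7102464 2048 = true := by decide +kernel
theorem ck_3469 : chkURangeF D C relF 796 1237356000 7104512 2048 = true := by decide +kernel
theorem ck_3470 : chkURangeF D C relF 796 1237356000 7106560 2048 = true := by decide +kernel
theorem ck_3471 : chkURangeF D C relF 796 1237356000 7108608 2048 = true := by decide +kernel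
theorem ck_3472 : chkURangeF D C relF 796 1237356000 7110656 2048 = true := by decide +kernel
theorem ck_3473 : chkURangeF D C relF 796 1237356000 7112704 2048 = true := by decide +kernel
theorem ck_3474 : chkURangeF D C relF 796 1237356000 7114752 2048 = true := by decide +kernel
theorem ck_3475 : chkURangeF D C relF 796 1237356000 7116800 2048 = true := by decide +kernel
theorem ck_3476 : chkURangeF D C relF 796 1237356000 7118848 2048 = true := by decide +kernel
theorem ck_3477 : chkURangeF D C relF 796 1237356000 7120896 2048 = true := by decide +kernel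
theorem ck_3478 : chkURangeF D C relF 796 1237356000 7122944 2048 = true := by decide +kernel
theorem ck_3479 : chkURangeF D C relF 796 1237356000 7124992 2048 = true := by decide +kernel
theorem chkU_144 (b : ℕ) (h1 : 7077888 ≤ b) (h2 : b < 7127040) : chkU D C b = true := by
  rcases Nat.lt_or_ge b 7079936 with g0 | g0
  · exact chkURangeF_spec C relF_hyp 1237356000 tc_eq 7077888 2048 ck_3456 b (by omega) (by omega)
  rcases Nat.lt_or_ge b 7081984 with g1 | g1
  · exact chkURangeF_spec C relF_hyp 1237356000 tc_eq 7079936 2048 ck_3457 b (by omega) (by omega)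
  rcases Nat.lt_or_ge b 7084032 with g2 | g2
  · exact chkURangeF_spec C relF_hyp 1237356000 tc_eq 7081984 2048 ck_3458 b (by omega) (by omega)
  rcases Nat.lt_or_ge b 7086080 with g3 | g3
  · exact chkURangeF_spec C relF_hyp 1237356000 tc_eq 7084032 2048 ck_3459 b (by omega) (by omega)
  rcases Nat.lt_or_ge b 7088128 with g4 | g4
  · exact chkURangeF_spec C relF_hyp 1237356000 tc_eq 7086080 2048 ck_3460 b (by omega) (by omega)
  rcases Nat.lt_or_ge b 7090176 with g5 | g5
  · exact chkURangeF_spec C relF_hyp 1237356000 tc_eq 7088128 2048 ck_3461 b (by omega) (by omega)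
  rcases Nat.lt_or_ge b 7092224 with g6 | g6
  · exact chkURangeF_spec C relF_hyp 1237356000 tc_eq 7090176 2048 ck_3462 b (by omega) (by omega)
  rcases Nat.lt_or_ge b 7094272 with g7 | g7
  · exact chkURangeF_spec C relF_hyp 1237356000 tc_eq 7092224 2048 ck_3463 b (by omega) (by omega)
  rcases Nat.lt_or_ge b 7096320 with g8 | g8
  · exact chkURangeF_spec C relF_hyp 1237356000 tc_eq 7094272 2048 ck_3464 b (by omega) (by omega)
  rcases Nat.lt_or_ge b 7098368 with g9 | g9
  · exact chkURangeF_spec C relF_hyp 1237356000 tc_eq 7096320 2048 ck_3465 b (by omega) (by omega)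
  rcases Nat.lt_or_ge b 7100416 with g10 | g10
  · exact chkURangeF_spec C relF_hyp 1237356000 tc_eq 7098368 2048 ck_3466 b (by omega) (by omega)
  rcases Nat.lt_or_ge b 7102464 with g11 | g11
  · exact chkURangeF_spec C relF_hyp 1237356000 tc_eq 7100416 2048 ck_3467 b (by omega) (by omega)
  rcases Nat.lt_or_ge b 7104512 with g12 | g12
  · exact chkURangeF_spec C relF_hyp 1237356000 tc_eq 7102464 2048 ck_3468 b (by omega) (by omega)
  rcases Nat.lt_or_ge b 7106560 with g13 | g13
  · exact chkURangeF_spec C relF_hyp 1237356000 tc_eq 7104512 2048 ck_3469 b (by omega) (by omega)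
  rcases Nat.lt_or_ge b 7108608 with g14 | g14
  · exact chkURangeF_spec C relF_hyp 1237356000 tc_eq 7106560 2048 ck_3470 b (by omega) (by omega)
  rcases Nat.lt_or_ge b 7110656 with g15 | g15
  · exact chkURangeF_spec C relF_hyp 1237356000 tc_eq 7108608 2048 ck_3471 b (by omega) (by omega)
  rcases Nat.lt_or_ge b 7112704 with g16 | g16
  · exact chkURangeF_spec C relF_hyp 1237356000 tc_eq 7110656 2048 ck_3472 b (by omega) (by omega)
  rcases Nat.lt_or_ge b 7114752 with g17 | g17
  · exact chkURangeF_spec C relF_hyp 1237356000 tc_eq 7112704 2048 ck_3473 b (by omega) (by omega)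
  rcases Nat.lt_or_ge b 7116800 with g18 | g18
  · exact chkURangeF_spec C relF_hyp 1237356000 tc_eq 7114752 2048 ck_3474 b (by omega) (by omega)
  rcases Nat.lt_or_ge b 7118848 with g19 | g19
  · exact chkURangeF_spec C relF_hyp 1237356000 tc_eq 7116800 2048 ck_3475 b (by omega) (by omega)
  rcases Nat.lt_or_ge b 7120896 with g20 | g20
  · exact chkURangeF_spec C relF_hyp 1237356000 tc_eq 7118848 2048 ck_3476 b (by omega) (by omega)
  rcases Nat.lt_or_ge b 7122944 with g21 | g21
  · exact chkURangeF_spec C relF_hyp 1237356000 tc_eq 7120896 2048 ck_3477 b (by omega) (by omega)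
  rcases Nat.lt_or_ge b 7124992 with g22 | g22
  · exact chkURangeF_spec C relF_hyp 1237356000 tc_eq 7122944 2048 ck_3478 b (by omega) (by omega)
  exact chkURangeF_spec C relF_hyp 1237356000 tc_eq 7124992 2048 ck_3479 b (by omega) (by omega)
end Cfsg.Agent.Lib.Helper2.HNMult.P3
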