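import Cfsg.Agent.Lib.Helper2.HNMult.P3.Cert
set_option autoImplicit false
set_option maxRecDepth 1000000
set_option Elab.async false
namespace Cfsg.Agent.Lib.Helper2.HNMult.P3
open Cfsg.Agent.Lib.Helper4.Sparse Cfsg.Agent.Lib.Helper2.SparseF
theorem ck_3504 : chkURangeF D C relF 796 1237356000 7176192 2048 = true := by decide +kernel
theorem ck_3505 : chkURangeF D C relF 796 1237356000 7178240 2048 = true := by decide +kernel
theorem ck_3506 : chkURangeF D C relF 796 1237356000 7180288 2048 = true := by decide +kernel
theorem ck_3507 : chkURangeF D C relF 796 1237356000 7182336 2048 = true := by decide +kernel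
theorem ck_3508 : chkURangeF D C relF 796 1237356000 7184384 2048 = true := by decide +kernel
theorem ck_3509 : chkURangeF D C relF 796 1237356000 7186432 2048 = true := by decide +kernel
theorem ck_3510 : chkURangeF D C relF 796 1237356000 7188480 2048 = true := by decide +kernel
theorem ck_3511 : chkURangeF D C relF 796 1237356000 7190528 2048 = true := by decide +kernel
theorem ck_3512 : chkURangeF D C relF 796 1237356000 7192576 2048 = true := by decide +kernel
theorem ck_3513 : chkURangeF D C relF 796 1237356000 7194624 2048 = true := by decide +kernel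
theorem ck_3514 : chkURangeF D C relF 796 1237356000 7196672 2048 = true := by decide +kernel
theorem ck_3515 : chkURangeF D C relF 796 1237356000 7198720 2048 = true := by decide +kernel
theorem ck_3516 : chkURangeF D C relF 796 1237356000 7200768 2048 = true := by decide +kernel
theorem ck_3517 : chkURangeF D C relF 796 1237356000 7202816 2048 = true := by decide +kernel
theorem ck_3518 : chkURangeF D C relF 796 1237356000 7204864 2048 = true := by decide +kernel
theorem ck_3519 : chkURangeF D C relF 796 1237356000 7206912 2048 = true := by decide +kernel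
theorem ck_3520 : chkURangeF D C relF 796 1237356000 7208960 2048 = true := by decide +kernel
theorem ck_3521 : chkURangeF D C relF 796 1237356000 7211008 2048 = true := by decide +kernel
theorem ck_3522 : chkURangeF D C relF 796 1237356000 7213056 2048 = true := by decide +kernel
theorem ck_3523 : chkURangeF D C relF 796 1237356000 7215104 2048 = true := by decide +kernel
theorem ck_3524 : chkURangeF D C relF 796 1237356000 7217152 2048 = true := by decide +kernel
theorem ck_3525 : chkURangeF D C relF 796 1237356000 7219200 2048 = true := by decide +kernel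
theorem ck_3526 : chkURangeF D C relF 796 1237356000 7221248 2048 = true := by decide +kernel
theorem ck_3527 : chkURangeF D C relF 796 1237356000 7223296 2048 = true := by decide +kernel
theorem chkU_146 (b : ℕ) (h1 : 7176192 ≤ b) (h2 : b < 7225344) : chkU D C b = true := by
  rcases Nat.lt_or_ge b 7178240 with g0 | g0
  · exact chkURangeF_spec C relF_hyp 1237356000 tc_eq 7176192 2048 ck_3504 b (by omega) (by omega)
  rcases Nat.lt_or_ge b 7180288 with g1 | g1
  · exact chkURangeF_spec C relF_hyp 1237356000 tc_eq 7178240 2048 ck_3505 b (by omega) (by omega)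
  rcases Nat.lt_or_ge b 7182336 with g2 | g2
  · exact chkURangeF_spec C relF_hyp 1237356000 tc_eq 7180288 2048 ck_3506 b (by omega) (by omega)
  rcases Nat.lt_or_ge b 7184384 with g3 | g3
  · exact chkURangeF_spec C relF_hyp 1237356000 tc_eq 7182336 2048 ck_3507 b (by omega) (by omega)
  rcases Nat.lt_or_ge b 7186432 with g4 | g4
  · exact chkURangeF_spec C relF_hyp 1237356000 tc_eq 7184384 2048 ck_3508 b (by omega) (by omega)
  rcases Nat.lt_or_ge b 7188480 with g5 | g5
  · exact chkURangeF_spec C relF_hyp 1237356000 tc_eq 7186432 2048 ck_3509 b (by omega) (by omega)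
  rcases Nat.lt_or_ge b 7190528 with g6 | g6
  · exact chkURangeF_spec C relF_hyp 1237356000 tc_eq 7188480 2048 ck_3510 b (by omega) (by omega)
  rcases Nat.lt_or_ge b 7192576 with g7 | g7
  · exact chkURangeF_spec C relF_hyp 1237356000 tc_eq 7190528 2048 ck_3511 b (by omega) (by omega)
  rcases Nat.lt_or_ge b 7194624 with g8 | g8
  · exact chkURangeF_spec C relF_hyp 1237356000 tc_eq 7192576 2048 ck_3512 b (by omega) (by omega)
  rcases Nat.lt_or_ge b 7196672 with g9 | g9
  · exact chkURangeF_spec C relF_hyp 1237356000 tc_eq 7194624 2048 ck_3513 b (by omega) (by omega)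
  rcases Nat.lt_or_ge b 7198720 with g10 | g10
  · exact chkURangeF_spec C relF_hyp 1237356000 tc_eq 7196672 2048 ck_3514 b (by omega) (by omega)
  rcases Nat.lt_or_ge b 7200768 with g11 | g11
  · exact chkURangeF_spec C relF_hyp 1237356000 tc_eq 7198720 2048 ck_3515 b (by omega) (by omega)
  rcases Nat.lt_or_ge b 7202816 with g12 | g12
  · exact chkURangeF_spec C relF_hyp 1237356000 tc_eq 7200768 2048 ck_3516 b (by omega) (by omega)
  rcases Nat.lt_or_ge b 7204864 with g13 | g13
  · exact chkURangeF_spec C relF_hyp 1237356000 tc_eq 7202816 2048 ck_3517 b (by omega) (by omega)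
  rcases Nat.lt_or_ge b 7206912 with g14 | g14
  · exact chkURangeF_spec C relF_hyp 1237356000 tc_eq 7204864 2048 ck_3518 b (by omega) (by omega)
  rcases Nat.lt_or_ge b 7208960 with g15 | g15
  · exact chkURangeF_spec C relF_hyp 1237356000 tc_eq 7206912 2048 ck_3519 b (by omega) (by omega)
  rcases Nat.lt_or_ge b 7211008 with g16 | g16
  · exact chkURangeF_spec C relF_hyp 1237356000 tc_eq 7208960 2048 ck_3520 b (by omega) (by omega)
  rcases Nat.lt_or_ge b 7213056 with g17 | g17
  · exact chkURangeF_spec C relF_hyp 1237356000 tc_eq 7211008 2048 ck_3521 b (by omega) (by omega)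
  rcases Nat.lt_or_ge b 7215104 with g18 | g18
  · exact chkURangeF_spec C relF_hyp 1237356000 tc_eq 7213056 2048 ck_3522 b (by omega) (by omega)
  rcases Nat.lt_or_ge b 7217152 with g19 | g19
  · exact chkURangeF_spec C relF_hyp 1237356000 tc_eq 7215104 2048 ck_3523 b (by omega) (by omega)
  rcases Nat.lt_or_ge b 7219200 with g20 | g20
  · exact chkURangeF_spec C relF_hyp 1237356000 tc_eq 7217152 2048 ck_3524 b (by omega) (by omega)
  rcases Nat.lt_or_ge b 7221248 with g21 | g21
  · exact chkURangeF_spec C relF_hyp 1237356000 tc_eq 7219200 2048 ck_3525 b (by omega) (by omega)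
  rcases Nat.lt_or_ge b 7223296 with g22 | g22
  · exact chkURangeF_spec C relF_hyp 1237356000 tc_eq 7221248 2048 ck_3526 b (by omega) (by omega)
  exact chkURangeF_spec C relF_hyp 1237356000 tc_eq 7223296 2048 ck_3527 b (by omega) (by omega)
end Cfsg.Agent.Lib.Helper2.HNMult.P3
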