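import Cfsg.Agent.Lib.Helper2.HNMult.P3.Cert
set_option autoImplicit false
set_option maxRecDepth 1000000
set_option Elab.async false
namespace Cfsg.Agent.Lib.Helper2.HNMult.P3
open Cfsg.Agent.Lib.Helper4.Sparse Cfsg.Agent.Lib.Helper2.SparseF
theorem ck_3528 : chkURangeF D C relF 796 1237356000 7225344 2048 = true := by decide +kernel
theorem ck_3529 : chkURangeF D C relF 796 1237356000 7227392 2048 = true := by decide +kernel
theorem ck_3530 : chkURangeF D C relF 796 1237356000 7229440 2048 = true := by decide +kernel
theorem ck_3531 : chkURangeF D C relF 796 1237356000 7231488 2048 = true := by decide +kernel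
theorem ck_3532 : chkURangeF D C relF 796 1237356000 7233536 2048 = true := by decide +kernel
theorem ck_3533 : chkURangeF D C relF 796 1237356000 7235584 2048 = true := by decide +kernel
theorem ck_3534 : chkURangeF D C relF 796 1237356000 7237632 2048 = true := by decide +kernel
theorem ck_3535 : chkURangeF D C relF 796 1237356000 7239680 2048 = true := by decide +kernel
theorem ck_3536 : chkURangeF D C relF 796 1237356000 7241728 2048 = true := by decide +kernel
theorem ck_3537 : chkURangeF D C relF 796 1237356000 7243776 2048 = true := by decide +kernel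
theorem ck_3538 : chkURangeF D C relF 796 1237356000 7245824 2048 = true := by decide +kernel
theorem ck_3539 : chkURangeF D C relF 796 1237356000 7247872 2048 = true := by decide +kernel
theorem ck_3540 : chkURangeF D C relF 796 1237356000 7249920 2048 = true := by decide +kernel
theorem ck_3541 : chkURangeF D C relF 796 1237356000 7251968 2048 = true := by decide +kernel
theorem ck_3542 : chkURangeF D C relF 796 1237356000 7254016 2048 = true := by decide +kernel
theorem ck_3543 : chkURangeF D C relF 796 1237356000 7256064 2048 = true := by decide +kernel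
theorem ck_3544 : chkURangeF D C relF 796 1237356000 7258112 2048 = true := by decide +kernel
theorem ck_3545 : chkURangeF D C relF 796 1237356000 7260160 2048 = true := by decide +kernel
theorem ck_3546 : chkURangeF D C relF 796 1237356000 7262208 2048 = true := by decide +kernel
theorem ck_3547 : chkURangeF D C relF 796 1237356000 7264256 2048 = true := by decide +kernel
theorem ck_3548 : chkURangeF D C relF 796 1237356000 7266304 2048 = true := by decide +kernel
theorem ck_3549 : chkURangeF D C relF 796 1237356000 7268352 2048 = true := by decide +kernel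
theorem ck_3550 : chkURangeF D C relF 796 1237356000 7270400 2048 = true := by decide +kernel
theorem ck_3551 : chkURangeF D C relF 796 1237356000 7272448 2048 = true := by decide +kernel
theorem chkU_147 (b : ℕ) (h1 : 7225344 ≤ b) (h2 : b < 7274496) : chkU D C b = true := by
  rcases Nat.lt_or_ge b 7227392 with g0 | g0
  · exact chkURangeF_spec C relF_hyp 1237356000 tc_eq 7225344 2048 ck_3528 b (by omega) (by omega)
  rcases Nat.lt_or_ge b 7229440 with g1 | g1
  · exact chkURangeF_spec C relF_hyp 1237356000 tc_eq 7227392 2048 ck_3529 b (by omega) (by omega)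
  rcases Nat.lt_or_ge b 7231488 with g2 | g2
  · exact chkURangeF_spec C relF_hyp 1237356000 tc_eq 7229440 2048 ck_3530 b (by omega) (by omega)
  rcases Nat.lt_or_ge b 7233536 with g3 | g3
  · exact chkURangeF_spec C relF_hyp 1237356000 tc_eq 7231488 2048 ck_3531 b (by omega) (by omega)
  rcases Nat.lt_or_ge b 7235584 with g4 | g4
  · exact chkURangeF_spec C relF_hyp 1237356000 tc_eq 7233536 2048 ck_3532 b (by omega) (by omega)
  rcases Nat.lt_or_ge b 7237632 with g5 | g5
  · exact chkURangeF_spec C relF_hyp 1237356000 tc_eq 7235584 2048 ck_3533 b (by omega) (by omega)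
  rcases Nat.lt_or_ge b 7239680 with g6 | g6
  · exact chkURangeF_spec C relF_hyp 1237356000 tc_eq 7237632 2048 ck_3534 b (by omega) (by omega)
  rcases Nat.lt_or_ge b 7241728 with g7 | g7
  · exact chkURangeF_spec C relF_hyp 1237356000 tc_eq 7239680 2048 ck_3535 b (by omega) (by omega)
  rcases Nat.lt_or_ge b 7243776 with g8 | g8
  · exact chkURangeF_spec C relF_hyp 1237356000 tc_eq 7241728 2048 ck_3536 b (by omega) (by omega)
  rcases Nat.lt_or_ge b 7245824 with g9 | g9
  · exact chkURangeF_spec C relF_hyp 1237356000 tc_eq 7243776 2048 ck_3537 b (by omega) (by omega)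
  rcases Nat.lt_or_ge b 7247872 with g10 | g10
  · exact chkURangeF_spec C relF_hyp 1237356000 tc_eq 7245824 2048 ck_3538 b (by omega) (by omega)
  rcases Nat.lt_or_ge b 7249920 with g11 | g11
  · exact chkURangeF_spec C relF_hyp 1237356000 tc_eq 7247872 2048 ck_3539 b (by omega) (by omega)
  rcases Nat.lt_or_ge b 7251968 with g12 | g12
  · exact chkURangeF_spec C relF_hyp 1237356000 tc_eq 7249920 2048 ck_3540 b (by omega) (by omega)
  rcases Nat.lt_or_ge b 7254016 with g13 | g13
  · exact chkURangeF_spec C relF_hyp 1237356000 tc_eq 7251968 2048 ck_3541 b (by omega) (by omega)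
  rcases Nat.lt_or_ge b 7256064 with g14 | g14
  · exact chkURangeF_spec C relF_hyp 1237356000 tc_eq 7254016 2048 ck_3542 b (by omega) (by omega)
  rcases Nat.lt_or_ge b 7258112 with g15 | g15
  · exact chkURangeF_spec C relF_hyp 1237356000 tc_eq 7256064 2048 ck_3543 b (by omega) (by omega)
  rcases Nat.lt_or_ge b 7260160 with g16 | g16
  · exact chkURangeF_spec C relF_hyp 1237356000 tc_eq 7258112 2048 ck_3544 b (by omega) (by omega)
  rcases Nat.lt_or_ge b 7262208 with g17 | g17
  · exact chkURangeF_spec C relF_hyp 1237356000 tc_eq 7260160 2048 ck_3545 b (by omega) (by omega)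
  rcases Nat.lt_or_ge b 7264256 with g18 | g18
  · exact chkURangeF_spec C relF_hyp 1237356000 tc_eq 7262208 2048 ck_3546 b (by omega) (by omega)
  rcases Nat.lt_or_ge b 7266304 with g19 | g19
  · exact chkURangeF_spec C relF_hyp 1237356000 tc_eq 7264256 2048 ck_3547 b (by omega) (by omega)
  rcases Nat.lt_or_ge b 7268352 with g20 | g20
  · exact chkURangeF_spec C relF_hyp 1237356000 tc_eq 7266304 2048 ck_3548 b (by omega) (by omega)
  rcases Nat.lt_or_ge b 7270400 with g21 | g21
  · exact chkURangeF_spec C relF_hyp 1237356000 tc_eq 7268352 2048 ck_3549 b (by omega) (by omega)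
  rcases Nat.lt_or_ge b 7272448 with g22 | g22
  · exact chkURangeF_spec C relF_hyp 1237356000 tc_eq 7270400 2048 ck_3550 b (by omega) (by omega)
  exact chkURangeF_spec C relF_hyp 1237356000 tc_eq 7272448 2048 ck_3551 b (by omega) (by omega)
end Cfsg.Agent.Lib.Helper2.HNMult.P3
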