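import Cfsg.Agent.Lib.Helper2.HNMult.P3.Cert
set_option autoImplicit false
set_option maxRecDepth 1000000
set_option Elab.async false
namespace Cfsg.Agent.Lib.Helper2.HNMult.P3
open Cfsg.Agent.Lib.Helper4.Sparse Cfsg.Agent.Lib.Helper2.SparseF
theorem ck_3624 : chkURangeF D C relF 796 1237356000 7421952 2048 = true := by decide +kernel
theorem ck_3625 : chkURangeF D C relF 796 1237356000 7424000 2048 = true := by decide +kernel
theorem ck_3626 : chkURangeF D C relF 796 1237356000 7426048 2048 = true := by decide +kernel
theorem ck_3627 : chkURangeF D C relF 796 1237356000 7428096 2048 = true := by decide +kernel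
theorem ck_3628 : chkURangeF D C relF 796 1237356000 7430144 2048 = true := by decide +kernel
theorem ck_3629 : chkURangeF D C relF 796 1237356000 7432192 2048 = true := by decide +kernel
theorem ck_3630 : chkURangeF D C relF 796 1237356000 7434240 2048 = true := by decide +kernel
theorem ck_3631 : chkURangeF D C relF 796 1237356000 7436288 2048 = true := by decide +kernel
theorem ck_3632 : chkURangeF D C relF 796 1237356000 7438336 2048 = true := by decide +kernel
theorem ck_3633 : chkURangeF D C relF 796 1237356000 7440384 2048 = true := by decide +kernel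
theorem ck_3634 : chkURangeF D C relF 796 1237356000 7442432 2048 = true := by decide +kernel
theorem ck_3635 : chkURangeF D C relF 796 1237356000 7444480 2048 = true := by decide +kernel
theorem ck_3636 : chkURangeF D C relF 796 1237356000 7446528 2048 = true := by decide +kernel
theorem ck_3637 : chkURangeF D C relF 796 1237356000 7448576 2048 = true := by decide +kernel
theorem ck_3638 : chkURangeF D C relF 796 1237356000 7450624 2048 = true := by decide +kernel
theorem ck_3639 : chkURangeF D C relF 796 1237356000 7452672 2048 = true := by decide +kernel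
theorem ck_3640 : chkURangeF D C relF 796 1237356000 7454720 2048 = true := by decide +kernel
theorem ck_3641 : chkURangeF D C relF 796 1237356000 7456768 2048 = true := by decide +kernel
theorem ck_3642 : chkURangeF D C relF 796 1237356000 7458816 2048 = true := by decide +kernel
theorem ck_3643 : chkURangeF D C relF 796 1237356000 7460864 2048 = true := by decide +kernel
theorem ck_3644 : chkURangeF D C relF 796 1237356000 7462912 2048 = true := by decide +kernel
theorem ck_3645 : chkURangeF D C relF 796 1237356000 7464960 2048 = true := by decide +kernel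
theorem ck_3646 : chkURangeF D C relF 796 1237356000 7467008 2048 = true := by decide +kernel
theorem ck_3647 : chkURangeF D C relF 796 1237356000 7469056 2048 = true := by decide +kernel
theorem chkU_151 (b : ℕ) (h1 : 7421952 ≤ b) (h2 : b < 7471104) : chkU D C b = true := by
  rcases Nat.lt_or_ge b 7424000 with g0 | g0
  · exact chkURangeF_spec C relF_hyp 1237356000 tc_eq 7421952 2048 ck_3624 b (by omega) (by omega)
  rcases Nat.lt_or_ge b 7426048 with g1 | g1
  · exact chkURangeF_spec C relF_hyp 1237356000 tc_eq 7424000 2048 ck_3625 b (by omega) (by omega)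
  rcases Nat.lt_or_ge b 7428096 with g2 | g2
  · exact chkURangeF_spec C relF_hyp 1237356000 tc_eq 7426048 2048 ck_3626 b (by omega) (by omega)
  rcases Nat.lt_or_ge b 7430144 with g3 | g3
  · exact chkURangeF_spec C relF_hyp 1237356000 tc_eq 7428096 2048 ck_3627 b (by omega) (by omega)
  rcases Nat.lt_or_ge b 7432192 with g4 | g4
  · exact chkURangeF_spec C relF_hyp 1237356000 tc_eq 7430144 2048 ck_3628 b (by omega) (by omega)
  rcases Nat.lt_or_ge b 7434240 with g5 | g5
  · exact chkURangeF_spec C relF_hyp 1237356000 tc_eq 7432192 2048 ck_3629 b (by omega) (by omega)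
  rcases Nat.lt_or_ge b 7436288 with g6 | g6
  · exact chkURangeF_spec C relF_hyp 1237356000 tc_eq 7434240 2048 ck_3630 b (by omega) (by omega)
  rcases Nat.lt_or_ge b 7438336 with g7 | g7
  · exact chkURangeF_spec C relF_hyp 1237356000 tc_eq 7436288 2048 ck_3631 b (by omega) (by omega)
  rcases Nat.lt_or_ge b 7440384 with g8 | g8
  · exact chkURangeF_spec C relF_hyp 1237356000 tc_eq 7438336 2048 ck_3632 b (by omega) (by omega)
  rcases Nat.lt_or_ge b 7442432 with g9 | g9
  · exact chkURangeF_spec C relF_hyp 1237356000 tc_eq 7440384 2048 ck_3633 b (by omega) (by omega)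
  rcases Nat.lt_or_ge b 7444480 with g10 | g10
  · exact chkURangeF_spec C relF_hyp 1237356000 tc_eq 7442432 2048 ck_3634 b (by omega) (by omega)
  rcases Nat.lt_or_ge b 7446528 with g11 | g11
  · exact chkURangeF_spec C relF_hyp 1237356000 tc_eq 7444480 2048 ck_3635 b (by omega) (by omega)
  rcases Nat.lt_or_ge b 7448576 with g12 | g12
  · exact chkURangeF_spec C relF_hyp 1237356000 tc_eq 7446528 2048 ck_3636 b (by omega) (by omega)
  rcases Nat.lt_or_ge b 7450624 with g13 | g13
  · exact chkURangeF_spec C relF_hyp 1237356000 tc_eq 7448576 2048 ck_3637 b (by omega) (by omega)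
  rcases Nat.lt_or_ge b 7452672 with g14 | g14
  · exact chkURangeF_spec C relF_hyp 1237356000 tc_eq 7450624 2048 ck_3638 b (by omega) (by omega)
  rcases Nat.lt_or_ge b 7454720 with g15 | g15
  · exact chkURangeF_spec C relF_hyp 1237356000 tc_eq 7452672 2048 ck_3639 b (by omega) (by omega)
  rcases Nat.lt_or_ge b 7456768 with g16 | g16
  · exact chkURangeF_spec C relF_hyp 1237356000 tc_eq 7454720 2048 ck_3640 b (by omega) (by omega)
  rcases Nat.lt_or_ge b 7458816 with g17 | g17
  · exact chkURangeF_spec C relF_hyp 1237356000 tc_eq 7456768 2048 ck_3641 b (by omega) (by omega)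
  rcases Nat.lt_or_ge b 7460864 with g18 | g18
  · exact chkURangeF_spec C relF_hyp 1237356000 tc_eq 7458816 2048 ck_3642 b (by omega) (by omega)
  rcases Nat.lt_or_ge b 7462912 with g19 | g19
  · exact chkURangeF_spec C relF_hyp 1237356000 tc_eq 7460864 2048 ck_3643 b (by omega) (by omega)
  rcases Nat.lt_or_ge b 7464960 with g20 | g20
  · exact chkURangeF_spec C relF_hyp 1237356000 tc_eq 7462912 2048 ck_3644 b (by omega) (by omega)
  rcases Nat.lt_or_ge b 7467008 with g21 | g21
  · exact chkURangeF_spec C relF_hyp 1237356000 tc_eq 7464960 2048 ck_3645 b (by omega) (by omega)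
  rcases Nat.lt_or_ge b 7469056 with g22 | g22
  · exact chkURangeF_spec C relF_hyp 1237356000 tc_eq 7467008 2048 ck_3646 b (by omega) (by omega)
  exact chkURangeF_spec C relF_hyp 1237356000 tc_eq 7469056 2048 ck_3647 b (by omega) (by omega)
end Cfsg.Agent.Lib.Helper2.HNMult.P3
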