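import Cfsg.Agent.Lib.Helper2.HNMult.P3.Cert
set_option autoImplicit false
set_option maxRecDepth 1000000
set_option Elab.async false
namespace Cfsg.Agent.Lib.Helper2.HNMult.P3
open Cfsg.Agent.Lib.Helper4.Sparse Cfsg.Agent.Lib.Helper2.SparseF
theorem ck_3744 : chkURangeF D C relF 796 1237356000 7667712 2048 = true := by decide +kernel
theorem ck_3745 : chkURangeF D C relF 796 1237356000 7669760 2048 = true := by decide +kernel
theorem ck_3746 : chkURangeF D C relF 796 1237356000 7671808 2048 = true := by decide +kernel
theorem ck_3747 : chkURangeF D C relF 796 1237356000 7673856 2048 = true := by decide +kernel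
theorem ck_3748 : chkURangeF D C relF 796 1237356000 7675904 2048 = true := by decide +kernel
theorem ck_3749 : chkURangeF D C relF 796 1237356000 7677952 2048 = true := by decide +kernel
theorem ck_3750 : chkURangeF D C relF 796 1237356000 7680000 2048 = true := by decide +kernel
theorem ck_3751 : chkURangeF D C relF 796 1237356000 7682048 2048 = true := by decide +kernel
theorem ck_3752 : chkURangeF D C relF 796 1237356000 7684096 2048 = true := by decide +kernel
theorem ck_3753 : chkURangeF D C relF 796 1237356000 7686144 2048 = true := by decide +kernel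
theorem ck_3754 : chkURangeF D C relF 796 1237356000 7688192 2048 = true := by decide +kernel
theorem ck_3755 : chkURangeF D C relF 796 1237356000 7690240 2048 = true := by decide +kernel
theorem ck_3756 : chkURangeF D C relF 796 1237356000 7692288 2048 = true := by decide +kernel
theorem ck_3757 : chkURangeF D C relF 796 1237356000 7694336 2048 = true := by decide +kernel
theorem ck_3758 : chkURangeF D C relF 796 1237356000 7696384 2048 = true := by decide +kernel
theorem ck_3759 : chkURangeF D C relF 796 1237356000 7698432 2048 = true := by decide +kernel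
theorem ck_3760 : chkURangeF D C relF 796 1237356000 7700480 2048 = true := by decide +kernel
theorem ck_3761 : chkURangeF D C relF 796 1237356000 7702528 2048 = true := by decide +kernel
theorem ck_3762 : chkURangeF D C relF 796 1237356000 7704576 2048 = true := by decide +kernel
theorem ck_3763 : chkURangeF D C relF 796 1237356000 7706624 2048 = true := by decide +kernel
theorem ck_3764 : chkURangeF D C relF 796 1237356000 7708672 2048 = true := by decide +kernel
theorem ck_3765 : chkURangeF D C relF 796 1237356000 7710720 2048 = true := by decide +kernel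
theorem ck_3766 : chkURangeF D C relF 796 1237356000 7712768 2048 = true := by decide +kernel
theorem ck_3767 : chkURangeF D C relF 796 1237356000 7714816 2048 = true := by decide +kernel
theorem chkU_156 (b : ℕ) (h1 : 7667712 ≤ b) (h2 : b < 7716864) : chkU D C b = true := by
  rcases Nat.lt_or_ge b 7669760 with g0 | g0
  · exact chkURangeF_spec C relF_hyp 1237356000 tc_eq 7667712 2048 ck_3744 b (by omega) (by omega)
  rcases Nat.lt_or_ge b 7671808 with g1 | g1
  · exact chkURangeF_spec C relF_hyp 1237356000 tc_eq 7669760 2048 ck_3745 b (by omega) (by omega)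
  rcases Nat.lt_or_ge b 7673856 with g2 | g2
  · exact chkURangeF_spec C relF_hyp 1237356000 tc_eq 7671808 2048 ck_3746 b (by omega) (by omega)
  rcases Nat.lt_or_ge b 7675904 with g3 | g3
  · exact chkURangeF_spec C relF_hyp 1237356000 tc_eq 7673856 2048 ck_3747 b (by omega) (by omega)
  rcases Nat.lt_or_ge b 7677952 with g4 | g4
  · exact chkURangeF_spec C relF_hyp 1237356000 tc_eq 7675904 2048 ck_3748 b (by omega) (by omega)
  rcases Nat.lt_or_ge b 7680000 with g5 | g5
  · exact chkURangeF_spec C relF_hyp 1237356000 tc_eq 7677952 2048 ck_3749 b (by omega) (by omega)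
  rcases Nat.lt_or_ge b 7682048 with g6 | g6
  · exact chkURangeF_spec C relF_hyp 1237356000 tc_eq 7680000 2048 ck_3750 b (by omega) (by omega)
  rcases Nat.lt_or_ge b 7684096 with g7 | g7
  · exact chkURangeF_spec C relF_hyp 1237356000 tc_eq 7682048 2048 ck_3751 b (by omega) (by omega)
  rcases Nat.lt_or_ge b 7686144 with g8 | g8
  · exact chkURangeF_spec C relF_hyp 1237356000 tc_eq 7684096 2048 ck_3752 b (by omega) (by omega)
  rcases Nat.lt_or_ge b 7688192 with g9 | g9
  · exact chkURangeF_spec C relF_hyp 1237356000 tc_eq 7686144 2048 ck_3753 b (by omega) (by omega)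
  rcases Nat.lt_or_ge b 7690240 with g10 | g10
  · exact chkURangeF_spec C relF_hyp 1237356000 tc_eq 7688192 2048 ck_3754 b (by omega) (by omega)
  rcases Nat.lt_or_ge b 7692288 with g11 | g11
  · exact chkURangeF_spec C relF_hyp 1237356000 tc_eq 7690240 2048 ck_3755 b (by omega) (by omega)
  rcases Nat.lt_or_ge b 7694336 with g12 | g12
  · exact chkURangeF_spec C relF_hyp 1237356000 tc_eq 7692288 2048 ck_3756 b (by omega) (by omega)
  rcases Nat.lt_or_ge b 7696384 with g13 | g13
  · exact chkURangeF_spec C relF_hyp 1237356000 tc_eq 7694336 2048 ck_3757 b (by omega) (by omega)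
  rcases Nat.lt_or_ge b 7698432 with g14 | g14
  · exact chkURangeF_spec C relF_hyp 1237356000 tc_eq 7696384 2048 ck_3758 b (by omega) (by omega)
  rcases Nat.lt_or_ge b 7700480 with g15 | g15
  · exact chkURangeF_spec C relF_hyp 1237356000 tc_eq 7698432 2048 ck_3759 b (by omega) (by omega)
  rcases Nat.lt_or_ge b 7702528 with g16 | g16
  · exact chkURangeF_spec C relF_hyp 1237356000 tc_eq 7700480 2048 ck_3760 b (by omega) (by omega)
  rcases Nat.lt_or_ge b 7704576 with g17 | g17
  · exact chkURangeF_spec C relF_hyp 1237356000 tc_eq 7702528 2048 ck_3761 b (by omega) (by omega)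
  rcases Nat.lt_or_ge b 7706624 with g18 | g18
  · exact chkURangeF_spec C relF_hyp 1237356000 tc_eq 7704576 2048 ck_3762 b (by omega) (by omega)
  rcases Nat.lt_or_ge b 7708672 with g19 | g19
  · exact chkURangeF_spec C relF_hyp 1237356000 tc_eq 7706624 2048 ck_3763 b (by omega) (by omega)
  rcases Nat.lt_or_ge b 7710720 with g20 | g20
  · exact chkURangeF_spec C relF_hyp 1237356000 tc_eq 7708672 2048 ck_3764 b (by omega) (by omega)
  rcases Nat.lt_or_ge b 7712768 with g21 | g21
  · exact chkURangeF_spec C relF_hyp 1237356000 tc_eq 7710720 2048 ck_3765 b (by omega) (by omega)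
  rcases Nat.lt_or_ge b 7714816 with g22 | g22
  · exact chkURangeF_spec C relF_hyp 1237356000 tc_eq 7712768 2048 ck_3766 b (by omega) (by omega)
  exact chkURangeF_spec C relF_hyp 1237356000 tc_eq 7714816 2048 ck_3767 b (by omega) (by omega)
end Cfsg.Agent.Lib.Helper2.HNMult.P3
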