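import Cfsg.Agent.Lib.Helper2.HNMult.P3.Cert
set_option autoImplicit false
set_option maxRecDepth 1000000
set_option Elab.async false
namespace Cfsg.Agent.Lib.Helper2.HNMult.P3
open Cfsg.Agent.Lib.Helper4.Sparse Cfsg.Agent.Lib.Helper2.SparseF
theorem ck_3768 : chkURangeF D C relF 796 1237356000 7716864 2048 = true := by decide +kernel
theorem ck_3769 : chkURangeF D C relF 796 1237356000 7718912 2048 = true := by decide +kernel
theorem ck_3770 : chkURangeF D C relF 796 1237356000 7720960 2048 = true := by decide +kernel
theorem ck_3771 : chkURangeF D C relF 796 1237356000 7723008 2048 = true := by decide +kernel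
theorem ck_3772 : chkURangeF D C relF 796 1237356000 7725056 2048 = true := by decide +kernel
theorem ck_3773 : chkURangeF D C relF 796 1237356000 7727104 2048 = true := by decide +kernel
theorem ck_3774 : chkURangeF D C relF 796 1237356000 7729152 2048 = true := by decide +kernel
theorem ck_3775 : chkURangeF D C relF 796 1237356000 7731200 2048 = true := by decide +kernel
theorem ck_3776 : chkURangeF D C relF 796 1237356000 7733248 2048 = true := by decide +kernel
theorem ck_3777 : chkURangeF D C relF 796 1237356000 7735296 2048 = true := by decide +kernel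
theorem ck_3778 : chkURangeF D C relF 796 1237356000 7737344 2048 = true := by decide +kernel
theorem ck_3779 : chkURangeF D C relF 796 1237356000 7739392 2048 = true := by decide +kernel
theorem ck_3780 : chkURangeF D C relF 796 1237356000 7741440 2048 = true := by decide +kernel
theorem ck_3781 : chkURangeF D C relF 796 1237356000 7743488 2048 = true := by decide +kernel
theorem ck_3782 : chkURangeF D C relF 796 1237356000 7745536 2048 = true := by decide +kernel
theorem ck_3783 : chkURangeF D C relF 796 1237356000 7747584 2048 = true := by decide +kernel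
theorem ck_3784 : chkURangeF D C relF 796 1237356000 7749632 2048 = true := by decide +kernel
theorem ck_3785 : chkURangeF D C relF 796 1237356000 7751680 2048 = true := by decide +kernel
theorem ck_3786 : chkURangeF D C relF 796 1237356000 7753728 2048 = true := by decide +kernel
theorem ck_3787 : chkURangeF D C relF 796 1237356000 7755776 2048 = true := by decide +kernel
theorem ck_3788 : chkURangeF D C relF 796 1237356000 7757824 2048 = true := by decide +kernel
theorem ck_3789 : chkURangeF D C relF 796 1237356000 7759872 2048 = true := by decide +kernel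
theorem ck_3790 : chkURangeF D C relF 796 1237356000 7761920 2048 = true := by decide +kernel
theorem ck_3791 : chkURangeF D C relF 796 1237356000 7763968 2048 = true := by decide +kernel
theorem chkU_157 (b : ℕ) (h1 : 7716864 ≤ b) (h2 : b < 7766016) : chkU D C b = true := by
  rcases Nat.lt_or_ge b 7718912 with g0 | g0
  · exact chkURangeF_spec C relF_hyp 1237356000 tc_eq 7716864 2048 ck_3768 b (by omega) (by omega)
  rcases Nat.lt_or_ge b 7720960 with g1 | g1
  · exact chkURangeF_spec C relF_hyp 1237356000 tc_eq 7718912 2048 ck_3769 b (by omega) (by omega)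
  rcases Nat.lt_or_ge b 7723008 with g2 | g2
  · exact chkURangeF_spec C relF_hyp 1237356000 tc_eq 7720960 2048 ck_3770 b (by omega) (by omega)
  rcases Nat.lt_or_ge b 7725056 with g3 | g3
  · exact chkURangeF_spec C relF_hyp 1237356000 tc_eq 7723008 2048 ck_3771 b (by omega) (by omega)
  rcases Nat.lt_or_ge b 7727104 with g4 | g4
  · exact chkURangeF_spec C relF_hyp 1237356000 tc_eq 7725056 2048 ck_3772 b (by omega) (by omega)
  rcases Nat.lt_or_ge b 7729152 with g5 | g5
  · exact chkURangeF_spec C relF_hyp 1237356000 tc_eq 7727104 2048 ck_3773 b (by omega) (by omega)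
  rcases Nat.lt_or_ge b 7731200 with g6 | g6
  · exact chkURangeF_spec C relF_hyp 1237356000 tc_eq 7729152 2048 ck_3774 b (by omega) (by omega)
  rcases Nat.lt_or_ge b 7733248 with g7 | g7
  · exact chkURangeF_spec C relF_hyp 1237356000 tc_eq 7731200 2048 ck_3775 b (by omega) (by omega)
  rcases Nat.lt_or_ge b 7735296 with g8 | g8
  · exact chkURangeF_spec C relF_hyp 1237356000 tc_eq 7733248 2048 ck_3776 b (by omega) (by omega)
  rcases Nat.lt_or_ge b 7737344 with g9 | g9
  · exact chkURangeF_spec C relF_hyp 1237356000 tc_eq 7735296 2048 ck_3777 b (by omega) (by omega)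
  rcases Nat.lt_or_ge b 7739392 with g10 | g10
  · exact chkURangeF_spec C relF_hyp 1237356000 tc_eq 7737344 2048 ck_3778 b (by omega) (by omega)
  rcases Nat.lt_or_ge b 7741440 with g11 | g11
  · exact chkURangeF_spec C relF_hyp 1237356000 tc_eq 7739392 2048 ck_3779 b (by omega) (by omega)
  rcases Nat.lt_or_ge b 7743488 with g12 | g12
  · exact chkURangeF_spec C relF_hyp 1237356000 tc_eq 7741440 2048 ck_3780 b (by omega) (by omega)
  rcases Nat.lt_or_ge b 7745536 with g13 | g13
  · exact chkURangeF_spec C relF_hyp 1237356000 tc_eq 7743488 2048 ck_3781 b (by omega) (by omega)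
  rcases Nat.lt_or_ge b 7747584 with g14 | g14
  · exact chkURangeF_spec C relF_hyp 1237356000 tc_eq 7745536 2048 ck_3782 b (by omega) (by omega)
  rcases Nat.lt_or_ge b 7749632 with g15 | g15
  · exact chkURangeF_spec C relF_hyp 1237356000 tc_eq 7747584 2048 ck_3783 b (by omega) (by omega)
  rcases Nat.lt_or_ge b 7751680 with g16 | g16
  · exact chkURangeF_spec C relF_hyp 1237356000 tc_eq 7749632 2048 ck_3784 b (by omega) (by omega)
  rcases Nat.lt_or_ge b 7753728 with g17 | g17
  · exact chkURangeF_spec C relF_hyp 1237356000 tc_eq 7751680 2048 ck_3785 b (by omega) (by omega)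
  rcases Nat.lt_or_ge b 7755776 with g18 | g18
  · exact chkURangeF_spec C relF_hyp 1237356000 tc_eq 7753728 2048 ck_3786 b (by omega) (by omega)
  rcases Nat.lt_or_ge b 7757824 with g19 | g19
  · exact chkURangeF_spec C relF_hyp 1237356000 tc_eq 7755776 2048 ck_3787 b (by omega) (by omega)
  rcases Nat.lt_or_ge b 7759872 with g20 | g20
  · exact chkURangeF_spec C relF_hyp 1237356000 tc_eq 7757824 2048 ck_3788 b (by omega) (by omega)
  rcases Nat.lt_or_ge b 7761920 with g21 | g21
  · exact chkURangeF_spec C relF_hyp 1237356000 tc_eq 7759872 2048 ck_3789 b (by omega) (by omega)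
  rcases Nat.lt_or_ge b 7763968 with g22 | g22
  · exact chkURangeF_spec C relF_hyp 1237356000 tc_eq 7761920 2048 ck_3790 b (by omega) (by omega)
  exact chkURangeF_spec C relF_hyp 1237356000 tc_eq 7763968 2048 ck_3791 b (by omega) (by omega)
end Cfsg.Agent.Lib.Helper2.HNMult.P3
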