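import Cfsg.Agent.Lib.Helper2.HNMult.P3.Cert
set_option autoImplicit false
set_option maxRecDepth 1000000
set_option Elab.async false
namespace Cfsg.Agent.Lib.Helper2.HNMult.P3
open Cfsg.Agent.Lib.Helper4.Sparse Cfsg.Agent.Lib.Helper2.SparseF
theorem ck_4032 : chkURangeF D C relF 796 1237356000 8257536 2048 = true := by decide +kernel
theorem ck_4033 : chkURangeF D C relF 796 1237356000 8259584 2048 = true := by decide +kernel
theorem ck_4034 : chkURangeF D C relF 796 1237356000 8261632 2048 = true := by decide +kernel
theorem ck_4035 : chkURangeF D C relF 796 1237356000 8263680 2048 = true := by decide +kernel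
theorem ck_4036 : chkURangeF D C relF 796 1237356000 8265728 2048 = true := by decide +kernel
theorem ck_4037 : chkURangeF D C relF 796 1237356000 8267776 2048 = true := by decide +kernel
theorem ck_4038 : chkURangeF D C relF 796 1237356000 8269824 2048 = true := by decide +kernel
theorem ck_4039 : chkURangeF D C relF 796 1237356000 8271872 2048 = true := by decide +kernel
theorem ck_4040 : chkURangeF D C relF 796 1237356000 8273920 2048 = true := by decide +kernel
theorem ck_4041 : chkURangeF D C relF 796 1237356000 8275968 2048 = true := by decide +kernel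
theorem ck_4042 : chkURangeF D C relF 796 1237356000 8278016 2048 = true := by decide +kernel
theorem ck_4043 : chkURangeF D C relF 796 1237356000 8280064 2048 = true := by decide +kernel
theorem ck_4044 : chkURangeF D C relF 796 1237356000 8282112 2048 = true := by decide +kernel
theorem ck_4045 : chkURangeF D C relF 796 1237356000 8284160 2048 = true := by decide +kernel
theorem ck_4046 : chkURangeF D C relF 796 1237356000 8286208 2048 = true := by decide +kernel
theorem ck_4047 : chkURangeF D C relF 796 1237356000 8288256 2048 = true := by decide +kernel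
theorem ck_4048 : chkURangeF D C relF 796 1237356000 8290304 2048 = true := by decide +kernel
theorem ck_4049 : chkURangeF D C relF 796 1237356000 8292352 2048 = true := by decide +kernel
theorem ck_4050 : chkURangeF D C relF 796 1237356000 8294400 2048 = true := by decide +kernel
theorem ck_4051 : chkURangeF D C relF 796 1237356000 8296448 2048 = true := by decide +kernel
theorem ck_4052 : chkURangeF D C relF 796 1237356000 8298496 2048 = true := by decide +kernel
theorem ck_4053 : chkURangeF D C relF 796 1237356000 8300544 2048 = true := by decide +kernel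
theorem ck_4054 : chkURangeF D C relF 796 1237356000 8302592 2048 = true := by decide +kernel
theorem ck_4055 : chkURangeF D C relF 796 1237356000 8304640 2048 = true := by decide +kernel
theorem chkU_168 (b : ℕ) (h1 : 8257536 ≤ b) (h2 : b < 8306688) : chkU D C b = true := by
  rcases Nat.lt_or_ge b 8259584 with g0 | g0
  · exact chkURangeF_spec C relF_hyp 1237356000 tc_eq 8257536 2048 ck_4032 b (by omega) (by omega)
  rcases Nat.lt_or_ge b 8261632 with g1 | g1
  · exact chkURangeF_spec C relF_hyp 1237356000 tc_eq 8259584 2048 ck_4033 b (by omega) (by omega)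
  rcases Nat.lt_or_ge b 8263680 with g2 | g2
  · exact chkURangeF_spec C relF_hyp 1237356000 tc_eq 8261632 2048 ck_4034 b (by omega) (by omega)
  rcases Nat.lt_or_ge b 8265728 with g3 | g3
  · exact chkURangeF_spec C relF_hyp 1237356000 tc_eq 8263680 2048 ck_4035 b (by omega) (by omega)
  rcases Nat.lt_or_ge b 8267776 with g4 | g4
  · exact chkURangeF_spec C relF_hyp 1237356000 tc_eq 8265728 2048 ck_4036 b (by omega) (by omega)
  rcases Nat.lt_or_ge b 8269824 with g5 | g5
  · exact chkURangeF_spec C relF_hyp 1237356000 tc_eq 8267776 2048 ck_4037 b (by omega) (by omega)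
  rcases Nat.lt_or_ge b 8271872 with g6 | g6
  · exact chkURangeF_spec C relF_hyp 1237356000 tc_eq 8269824 2048 ck_4038 b (by omega) (by omega)
  rcases Nat.lt_or_ge b 8273920 with g7 | g7
  · exact chkURangeF_spec C relF_hyp 1237356000 tc_eq 8271872 2048 ck_4039 b (by omega) (by omega)
  rcases Nat.lt_or_ge b 8275968 with g8 | g8
  · exact chkURangeF_spec C relF_hyp 1237356000 tc_eq 8273920 2048 ck_4040 b (by omega) (by omega)
  rcases Nat.lt_or_ge b 8278016 with g9 | g9
  · exact chkURangeF_spec C relF_hyp 1237356000 tc_eq 8275968 2048 ck_4041 b (by omega) (by omega)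
  rcases Nat.lt_or_ge b 8280064 with g10 | g10
  · exact chkURangeF_spec C relF_hyp 1237356000 tc_eq 8278016 2048 ck_4042 b (by omega) (by omega)
  rcases Nat.lt_or_ge b 8282112 with g11 | g11
  · exact chkURangeF_spec C relF_hyp 1237356000 tc_eq 8280064 2048 ck_4043 b (by omega) (by omega)
  rcases Nat.lt_or_ge b 8284160 with g12 | g12
  · exact chkURangeF_spec C relF_hyp 1237356000 tc_eq 8282112 2048 ck_4044 b (by omega) (by omega)
  rcases Nat.lt_or_ge b 8286208 with g13 | g13
  · exact chkURangeF_spec C relF_hyp 1237356000 tc_eq 8284160 2048 ck_4045 b (by omega) (by omega)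
  rcases Nat.lt_or_ge b 8288256 with g14 | g14
  · exact chkURangeF_spec C relF_hyp 1237356000 tc_eq 8286208 2048 ck_4046 b (by omega) (by omega)
  rcases Nat.lt_or_ge b 8290304 with g15 | g15
  · exact chkURangeF_spec C relF_hyp 1237356000 tc_eq 8288256 2048 ck_4047 b (by omega) (by omega)
  rcases Nat.lt_or_ge b 8292352 with g16 | g16
  · exact chkURangeF_spec C relF_hyp 1237356000 tc_eq 8290304 2048 ck_4048 b (by omega) (by omega)
  rcases Nat.lt_or_ge b 8294400 with g17 | g17
  · exact chkURangeF_spec C relF_hyp 1237356000 tc_eq 8292352 2048 ck_4049 b (by omega) (by omega)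
  rcases Nat.lt_or_ge b 8296448 with g18 | g18
  · exact chkURangeF_spec C relF_hyp 1237356000 tc_eq 8294400 2048 ck_4050 b (by omega) (by omega)
  rcases Nat.lt_or_ge b 8298496 with g19 | g19
  · exact chkURangeF_spec C relF_hyp 1237356000 tc_eq 8296448 2048 ck_4051 b (by omega) (by omega)
  rcases Nat.lt_or_ge b 8300544 with g20 | g20
  · exact chkURangeF_spec C relF_hyp 1237356000 tc_eq 8298496 2048 ck_4052 b (by omega) (by omega)
  rcases Nat.lt_or_ge b 8302592 with g21 | g21
  · exact chkURangeF_spec C relF_hyp 1237356000 tc_eq 8300544 2048 ck_4053 b (by omega) (by omega)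
  rcases Nat.lt_or_ge b 8304640 with g22 | g22
  · exact chkURangeF_spec C relF_hyp 1237356000 tc_eq 8302592 2048 ck_4054 b (by omega) (by omega)
  exact chkURangeF_spec C relF_hyp 1237356000 tc_eq 8304640 2048 ck_4055 b (by omega) (by omega)
end Cfsg.Agent.Lib.Helper2.HNMult.P3
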