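import Cfsg.Agent.Lib.Helper2.HNMult.P3.Cert
set_option autoImplicit false
set_option maxRecDepth 1000000
set_option Elab.async false
namespace Cfsg.Agent.Lib.Helper2.HNMult.P3
open Cfsg.Agent.Lib.Helper4.Sparse Cfsg.Agent.Lib.Helper2.SparseF
theorem ck_408 : chkURangeF D C relF 796 1237356000 835584 2048 = true := by decide +kernel
theorem ck_409 : chkURangeF D C relF 796 1237356000 837632 2048 = true := by decide +kernel
theorem ck_410 : chkURangeF D C relF 796 1237356000 839680 2048 = true := by decide +kernel
theorem ck_411 : chkURangeF D C relF 796 1237356000 841728 2048 = true := by decide +kernel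
theorem ck_412 : chkURangeF D C relF 796 1237356000 843776 2048 = true := by decide +kernel
theorem ck_413 : chkURangeF D C relF 796 1237356000 845824 2048 = true := by decide +kernel
theorem ck_414 : chkURangeF D C relF 796 1237356000 847872 2048 = true := by decide +kernel
theorem ck_415 : chkURangeF D C relF 796 1237356000 849920 2048 = true := by decide +kernel
theorem ck_416 : chkURangeF D C relF 796 1237356000 851968 2048 = true := by decide +kernel
theorem ck_417 : chkURangeF D C relF 796 1237356000 854016 2048 = true := by decide +kernel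
theorem ck_418 : chkURangeF D C relF 796 1237356000 856064 2048 = true := by decide +kernel
theorem ck_419 : chkURangeF D C relF 796 1237356000 858112 2048 = true := by decide +kernel
theorem ck_420 : chkURangeF D C relF 796 1237356000 860160 2048 = true := by decide +kernel
theorem ck_421 : chkURangeF D C relF 796 1237356000 862208 2048 = true := by decide +kernel
theorem ck_422 : chkURangeF D C relF 796 1237356000 864256 2048 = true := by decide +kernel
theorem ck_423 : chkURangeF D C relF 796 1237356000 866304 2048 = true := by decide +kernel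
theorem ck_424 : chkURangeF D C relF 796 1237356000 868352 2048 = true := by decide +kernel
theorem ck_425 : chkURangeF D C relF 796 1237356000 870400 2048 = true := by decide +kernel
theorem ck_426 : chkURangeF D C relF 796 1237356000 872448 2048 = true := by decide +kernel
theorem ck_427 : chkURangeF D C relF 796 1237356000 874496 2048 = true := by decide +kernel
theorem ck_428 : chkURangeF D C relF 796 1237356000 876544 2048 = true := by decide +kernel
theorem ck_429 : chkURangeF D C relF 796 1237356000 878592 2048 = true := by decide +kernel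
theorem ck_430 : chkURangeF D C relF 796 1237356000 880640 2048 = true := by decide +kernel
theorem ck_431 : chkURangeF D C relF 796 1237356000 882688 2048 = true := by decide +kernel
theorem chkU_17 (b : ℕ) (h1 : 835584 ≤ b) (h2 : b < 884736) : chkU D C b = true := by
  rcases Nat.lt_or_ge b 837632 with g0 | g0
  · exact chkURangeF_spec C relF_hyp 1237356000 tc_eq 835584 2048 ck_408 b (by omega) (by omega)
  rcases Nat.lt_or_ge b 839680 with g1 | g1
  · exact chkURangeF_spec C relF_hyp 1237356000 tc_eq 837632 2048 ck_409 b (by omega) (by omega)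
  rcases Nat.lt_or_ge b 841728 with g2 | g2
  · exact chkURangeF_spec C relF_hyp 1237356000 tc_eq 839680 2048 ck_410 b (by omega) (by omega)
  rcases Nat.lt_or_ge b 843776 with g3 | g3
  · exact chkURangeF_spec C relF_hyp 1237356000 tc_eq 841728 2048 ck_411 b (by omega) (by omega)
  rcases Nat.lt_or_ge b 845824 with g4 | g4
  · exact chkURangeF_spec C relF_hyp 1237356000 tc_eq 843776 2048 ck_412 b (by omega) (by omega)
  rcases Nat.lt_or_ge b 847872 with g5 | g5
  · exact chkURangeF_spec C relF_hyp 1237356000 tc_eq 845824 2048 ck_413 b (by omega) (by omega)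
  rcases Nat.lt_or_ge b 849920 with g6 | g6
  · exact chkURangeF_spec C relF_hyp 1237356000 tc_eq 847872 2048 ck_414 b (by omega) (by omega)
  rcases Nat.lt_or_ge b 851968 with g7 | g7
  · exact chkURangeF_spec C relF_hyp 1237356000 tc_eq 849920 2048 ck_415 b (by omega) (by omega)
  rcases Nat.lt_or_ge b 854016 with g8 | g8
  · exact chkURangeF_spec C relF_hyp 1237356000 tc_eq 851968 2048 ck_416 b (by omega) (by omega)
  rcases Nat.lt_or_ge b 856064 with g9 | g9
  · exact chkURangeF_spec C relF_hyp 1237356000 tc_eq 854016 2048 ck_417 b (by omega) (by omega)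
  rcases Nat.lt_or_ge b 858112 with g10 | g10
  · exact chkURangeF_spec C relF_hyp 1237356000 tc_eq 856064 2048 ck_418 b (by omega) (by omega)
  rcases Nat.lt_or_ge b 860160 with g11 | g11
  · exact chkURangeF_spec C relF_hyp 1237356000 tc_eq 858112 2048 ck_419 b (by omega) (by omega)
  rcases Nat.lt_or_ge b 862208 with g12 | g12
  · exact chkURangeF_spec C relF_hyp 1237356000 tc_eq 860160 2048 ck_420 b (by omega) (by omega)
  rcases Nat.lt_or_ge b 864256 with g13 | g13
  · exact chkURangeF_spec C relF_hyp 1237356000 tc_eq 862208 2048 ck_421 b (by omega) (by omega)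
  rcases Nat.lt_or_ge b 866304 with g14 | g14
  · exact chkURangeF_spec C relF_hyp 1237356000 tc_eq 864256 2048 ck_422 b (by omega) (by omega)
  rcases Nat.lt_or_ge b 868352 with g15 | g15
  · exact chkURangeF_spec C relF_hyp 1237356000 tc_eq 866304 2048 ck_423 b (by omega) (by omega)
  rcases Nat.lt_or_ge b 870400 with g16 | g16
  · exact chkURangeF_spec C relF_hyp 1237356000 tc_eq 868352 2048 ck_424 b (by omega) (by omega)
  rcases Nat.lt_or_ge b 872448 with g17 | g17
  · exact chkURangeF_spec C relF_hyp 1237356000 tc_eq 870400 2048 ck_425 b (by omega) (by omega)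
  rcases Nat.lt_or_ge b 874496 with g18 | g18
  · exact chkURangeF_spec C relF_hyp 1237356000 tc_eq 872448 2048 ck_426 b (by omega) (by omega)
  rcases Nat.lt_or_ge b 876544 with g19 | g19
  · exact chkURangeF_spec C relF_hyp 1237356000 tc_eq 874496 2048 ck_427 b (by omega) (by omega)
  rcases Nat.lt_or_ge b 878592 with g20 | g20
  · exact chkURangeF_spec C relF_hyp 1237356000 tc_eq 876544 2048 ck_428 b (by omega) (by omega)
  rcases Nat.lt_or_ge b 880640 with g21 | g21
  · exact chkURangeF_spec C relF_hyp 1237356000 tc_eq 878592 2048 ck_429 b (by omega) (by omega)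
  rcases Nat.lt_or_ge b 882688 with g22 | g22
  · exact chkURangeF_spec C relF_hyp 1237356000 tc_eq 880640 2048 ck_430 b (by omega) (by omega)
  exact chkURangeF_spec C relF_hyp 1237356000 tc_eq 882688 2048 ck_431 b (by omega) (by omega)
end Cfsg.Agent.Lib.Helper2.HNMult.P3
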