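import Cfsg.Agent.Lib.Helper2.HNMult.P3.Cert
set_option autoImplicit false
set_option maxRecDepth 1000000
set_option Elab.async false
namespace Cfsg.Agent.Lib.Helper2.HNMult.P3
open Cfsg.Agent.Lib.Helper4.Sparse Cfsg.Agent.Lib.Helper2.SparseF
theorem ck_4080 : chkURangeF D C relF 796 1237356000 8355840 2048 = true := by decide +kernel
theorem ck_4081 : chkURangeF D C relF 796 1237356000 8357888 2048 = true := by decide +kernel
theorem ck_4082 : chkURangeF D C relF 796 1237356000 8359936 2048 = true := by decide +kernel
theorem ck_4083 : chkURangeF D C relF 796 1237356000 8361984 2048 = true := by decide +kernel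
theorem ck_4084 : chkURangeF D C relF 796 1237356000 8364032 2048 = true := by decide +kernel
theorem ck_4085 : chkURangeF D C relF 796 1237356000 8366080 2048 = true := by decide +kernel
theorem ck_4086 : chkURangeF D C relF 796 1237356000 8368128 2048 = true := by decide +kernel
theorem ck_4087 : chkURangeF D C relF 796 1237356000 8370176 2048 = true := by decide +kernel
theorem ck_4088 : chkURangeF D C relF 796 1237356000 8372224 2048 = true := by decide +kernel
theorem ck_4089 : chkURangeF D C relF 796 1237356000 8374272 2048 = true := by decide +kernel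
theorem ck_4090 : chkURangeF D C relF 796 1237356000 8376320 2048 = true := by decide +kernel
theorem ck_4091 : chkURangeF D C relF 796 1237356000 8378368 2048 = true := by decide +kernel
theorem ck_4092 : chkURangeF D C relF 796 1237356000 8380416 2048 = true := by decide +kernel
theorem ck_4093 : chkURangeF D C relF 796 1237356000 8382464 2048 = true := by decide +kernel
theorem ck_4094 : chkURangeF D C relF 796 1237356000 8384512 2048 = true := by decide +kernel
theorem ck_4095 : chkURangeF D C relF 796 1237356000 8386560 2048 = true := by decide +kernel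
theorem ck_4096 : chkURangeF D C relF 796 1237356000 8388608 2048 = true := by decide +kernel
theorem ck_4097 : chkURangeF D C relF 796 1237356000 8390656 2048 = true := by decide +kernel
theorem ck_4098 : chkURangeF D C relF 796 1237356000 8392704 2048 = true := by decide +kernel
theorem ck_4099 : chkURangeF D C relF 796 1237356000 8394752 2048 = true := by decide +kernel
theorem ck_4100 : chkURangeF D C relF 796 1237356000 8396800 2048 = true := by decide +kernel
theorem ck_4101 : chkURangeF D C relF 796 1237356000 8398848 2048 = true := by decide +kernel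
theorem ck_4102 : chkURangeF D C relF 796 1237356000 8400896 2048 = true := by decide +kernel
theorem ck_4103 : chkURangeF D C relF 796 1237356000 8402944 2048 = true := by decide +kernel
theorem chkU_170 (b : ℕ) (h1 : 8355840 ≤ b) (h2 : b < 8404992) : chkU D C b = true := by
  rcases Nat.lt_or_ge b 8357888 with g0 | g0
  · exact chkURangeF_spec C relF_hyp 1237356000 tc_eq 8355840 2048 ck_4080 b (by omega) (by omega)
  rcases Nat.lt_or_ge b 8359936 with g1 | g1
  · exact chkURangeF_spec C relF_hyp 1237356000 tc_eq 8357888 2048 ck_4081 b (by omega) (by omega)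
  rcases Nat.lt_or_ge b 8361984 with g2 | g2
  · exact chkURangeF_spec C relF_hyp 1237356000 tc_eq 8359936 2048 ck_4082 b (by omega) (by omega)
  rcases Nat.lt_or_ge b 8364032 with g3 | g3
  · exact chkURangeF_spec C relF_hyp 1237356000 tc_eq 8361984 2048 ck_4083 b (by omega) (by omega)
  rcases Nat.lt_or_ge b 8366080 with g4 | g4
  · exact chkURangeF_spec C relF_hyp 1237356000 tc_eq 8364032 2048 ck_4084 b (by omega) (by omega)
  rcases Nat.lt_or_ge b 8368128 with g5 | g5
  · exact chkURangeF_spec C relF_hyp 1237356000 tc_eq 8366080 2048 ck_4085 b (by omega) (by omega)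
  rcases Nat.lt_or_ge b 8370176 with g6 | g6
  · exact chkURangeF_spec C relF_hyp 1237356000 tc_eq 8368128 2048 ck_4086 b (by omega) (by omega)
  rcases Nat.lt_or_ge b 8372224 with g7 | g7
  · exact chkURangeF_spec C relF_hyp 1237356000 tc_eq 8370176 2048 ck_4087 b (by omega) (by omega)
  rcases Nat.lt_or_ge b 8374272 with g8 | g8
  · exact chkURangeF_spec C relF_hyp 1237356000 tc_eq 8372224 2048 ck_4088 b (by omega) (by omega)
  rcases Nat.lt_or_ge b 8376320 with g9 | g9
  · exact chkURangeF_spec C relF_hyp 1237356000 tc_eq 8374272 2048 ck_4089 b (by omega) (by omega)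
  rcases Nat.lt_or_ge b 8378368 with g10 | g10
  · exact chkURangeF_spec C relF_hyp 1237356000 tc_eq 8376320 2048 ck_4090 b (by omega) (by omega)
  rcases Nat.lt_or_ge b 8380416 with g11 | g11
  · exact chkURangeF_spec C relF_hyp 1237356000 tc_eq 8378368 2048 ck_4091 b (by omega) (by omega)
  rcases Nat.lt_or_ge b 8382464 with g12 | g12
  · exact chkURangeF_spec C relF_hyp 1237356000 tc_eq 8380416 2048 ck_4092 b (by omega) (by omega)
  rcases Nat.lt_or_ge b 8384512 with g13 | g13
  · exact chkURangeF_spec C relF_hyp 1237356000 tc_eq 8382464 2048 ck_4093 b (by omega) (by omega)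
  rcases Nat.lt_or_ge b 8386560 with g14 | g14
  · exact chkURangeF_spec C relF_hyp 1237356000 tc_eq 8384512 2048 ck_4094 b (by omega) (by omega)
  rcases Nat.lt_or_ge b 8388608 with g15 | g15
  · exact chkURangeF_spec C relF_hyp 1237356000 tc_eq 8386560 2048 ck_4095 b (by omega) (by omega)
  rcases Nat.lt_or_ge b 8390656 with g16 | g16
  · exact chkURangeF_spec C relF_hyp 1237356000 tc_eq 8388608 2048 ck_4096 b (by omega) (by omega)
  rcases Nat.lt_or_ge b 8392704 with g17 | g17
  · exact chkURangeF_spec C relF_hyp 1237356000 tc_eq 8390656 2048 ck_4097 b (by omega) (by omega)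
  rcases Nat.lt_or_ge b 8394752 with g18 | g18
  · exact chkURangeF_spec C relF_hyp 1237356000 tc_eq 8392704 2048 ck_4098 b (by omega) (by omega)
  rcases Nat.lt_or_ge b 8396800 with g19 | g19
  · exact chkURangeF_spec C relF_hyp 1237356000 tc_eq 8394752 2048 ck_4099 b (by omega) (by omega)
  rcases Nat.lt_or_ge b 8398848 with g20 | g20
  · exact chkURangeF_spec C relF_hyp 1237356000 tc_eq 8396800 2048 ck_4100 b (by omega) (by omega)
  rcases Nat.lt_or_ge b 8400896 with g21 | g21
  · exact chkURangeF_spec C relF_hyp 1237356000 tc_eq 8398848 2048 ck_4101 b (by omega) (by omega)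
  rcases Nat.lt_or_ge b 8402944 with g22 | g22
  · exact chkURangeF_spec C relF_hyp 1237356000 tc_eq 8400896 2048 ck_4102 b (by omega) (by omega)
  exact chkURangeF_spec C relF_hyp 1237356000 tc_eq 8402944 2048 ck_4103 b (by omega) (by omega)
end Cfsg.Agent.Lib.Helper2.HNMult.P3
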