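import Cfsg.Agent.Lib.Helper2.HNMult.P3.Cert
set_option autoImplicit false
set_option maxRecDepth 1000000
set_option Elab.async false
namespace Cfsg.Agent.Lib.Helper2.HNMult.P3
open Cfsg.Agent.Lib.Helper4.Sparse Cfsg.Agent.Lib.Helper2.SparseF
theorem ck_4176 : chkURangeF D C relF 796 1237356000 8552448 2048 = true := by decide +kernel
theorem ck_4177 : chkURangeF D C relF 796 1237356000 8554496 2048 = true := by decide +kernel
theorem ck_4178 : chkURangeF D C relF 796 1237356000 8556544 2048 = true := by decide +kernel
theorem ck_4179 : chkURangeF D C relF 796 1237356000 8558592 2048 = true := by decide +kernel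
theorem ck_4180 : chkURangeF D C relF 796 1237356000 8560640 2048 = true := by decide +kernel
theorem ck_4181 : chkURangeF D C relF 796 1237356000 8562688 2048 = true := by decide +kernel
theorem ck_4182 : chkURangeF D C relF 796 1237356000 8564736 2048 = true := by decide +kernel
theorem ck_4183 : chkURangeF D C relF 796 1237356000 8566784 2048 = true := by decide +kernel
theorem ck_4184 : chkURangeF D C relF 796 1237356000 8568832 2048 = true := by decide +kernel
theorem ck_4185 : chkURangeF D C relF 796 1237356000 8570880 2048 = true := by decide +kernel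
theorem ck_4186 : chkURangeF D C relF 796 1237356000 8572928 2048 = true := by decide +kernel
theorem ck_4187 : chkURangeF D C relF 796 1237356000 8574976 2048 = true := by decide +kernel
theorem ck_4188 : chkURangeF D C relF 796 1237356000 8577024 2048 = true := by decide +kernel
theorem ck_4189 : chkURangeF D C relF 796 1237356000 8579072 2048 = true := by decide +kernel
theorem ck_4190 : chkURangeF D C relF 796 1237356000 8581120 2048 = true := by decide +kernel
theorem ck_4191 : chkURangeF D C relF 796 1237356000 8583168 2048 = true := by decide +kernel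
theorem ck_4192 : chkURangeF D C relF 796 1237356000 8585216 2048 = true := by decide +kernel
theorem ck_4193 : chkURangeF D C relF 796 1237356000 8587264 2048 = true := by decide +kernel
theorem ck_4194 : chkURangeF D C relF 796 1237356000 8589312 2048 = true := by decide +kernel
theorem ck_4195 : chkURangeF D C relF 796 1237356000 8591360 2048 = true := by decide +kernel
theorem ck_4196 : chkURangeF D C relF 796 1237356000 8593408 2048 = true := by decide +kernel
theorem ck_4197 : chkURangeF D C relF 796 1237356000 8595456 2048 = true := by decide +kernel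
theorem ck_4198 : chkURangeF D C relF 796 1237356000 8597504 2048 = true := by decide +kernel
theorem ck_4199 : chkURangeF D C relF 796 1237356000 8599552 2048 = true := by decide +kernel
theorem chkU_174 (b : ℕ) (h1 : 8552448 ≤ b) (h2 : b < 8601600) : chkU D C b = true := by
  rcases Nat.lt_or_ge b 8554496 with g0 | g0
  · exact chkURangeF_spec C relF_hyp 1237356000 tc_eq 8552448 2048 ck_4176 b (by omega) (by omega)
  rcases Nat.lt_or_ge b 8556544 with g1 | g1
  · exact chkURangeF_spec C relF_hyp 1237356000 tc_eq 8554496 2048 ck_4177 b (by omega) (by omega)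
  rcases Nat.lt_or_ge b 8558592 with g2 | g2
  · exact chkURangeF_spec C relF_hyp 1237356000 tc_eq 8556544 2048 ck_4178 b (by omega) (by omega)
  rcases Nat.lt_or_ge b 8560640 with g3 | g3
  · exact chkURangeF_spec C relF_hyp 1237356000 tc_eq 8558592 2048 ck_4179 b (by omega) (by omega)
  rcases Nat.lt_or_ge b 8562688 with g4 | g4
  · exact chkURangeF_spec C relF_hyp 1237356000 tc_eq 8560640 2048 ck_4180 b (by omega) (by omega)
  rcases Nat.lt_or_ge b 8564736 with g5 | g5
  · exact chkURangeF_spec C relF_hyp 1237356000 tc_eq 8562688 2048 ck_4181 b (by omega) (by omega)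
  rcases Nat.lt_or_ge b 8566784 with g6 | g6
  · exact chkURangeF_spec C relF_hyp 1237356000 tc_eq 8564736 2048 ck_4182 b (by omega) (by omega)
  rcases Nat.lt_or_ge b 8568832 with g7 | g7
  · exact chkURangeF_spec C relF_hyp 1237356000 tc_eq 8566784 2048 ck_4183 b (by omega) (by omega)
  rcases Nat.lt_or_ge b 8570880 with g8 | g8
  · exact chkURangeF_spec C relF_hyp 1237356000 tc_eq 8568832 2048 ck_4184 b (by omega) (by omega)
  rcases Nat.lt_or_ge b 8572928 with g9 | g9
  · exact chkURangeF_spec C relF_hyp 1237356000 tc_eq 8570880 2048 ck_4185 b (by omega) (by omega)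
  rcases Nat.lt_or_ge b 8574976 with g10 | g10
  · exact chkURangeF_spec C relF_hyp 1237356000 tc_eq 8572928 2048 ck_4186 b (by omega) (by omega)
  rcases Nat.lt_or_ge b 8577024 with g11 | g11
  · exact chkURangeF_spec C relF_hyp 1237356000 tc_eq 8574976 2048 ck_4187 b (by omega) (by omega)
  rcases Nat.lt_or_ge b 8579072 with g12 | g12
  · exact chkURangeF_spec C relF_hyp 1237356000 tc_eq 8577024 2048 ck_4188 b (by omega) (by omega)
  rcases Nat.lt_or_ge b 8581120 with g13 | g13
  · exact chkURangeF_spec C relF_hyp 1237356000 tc_eq 8579072 2048 ck_4189 b (by omega) (by omega)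
  rcases Nat.lt_or_ge b 8583168 with g14 | g14
  · exact chkURangeF_spec C relF_hyp 1237356000 tc_eq 8581120 2048 ck_4190 b (by omega) (by omega)
  rcases Nat.lt_or_ge b 8585216 with g15 | g15
  · exact chkURangeF_spec C relF_hyp 1237356000 tc_eq 8583168 2048 ck_4191 b (by omega) (by omega)
  rcases Nat.lt_or_ge b 8587264 with g16 | g16
  · exact chkURangeF_spec C relF_hyp 1237356000 tc_eq 8585216 2048 ck_4192 b (by omega) (by omega)
  rcases Nat.lt_or_ge b 8589312 with g17 | g17
  · exact chkURangeF_spec C relF_hyp 1237356000 tc_eq 8587264 2048 ck_4193 b (by omega) (by omega)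
  rcases Nat.lt_or_ge b 8591360 with g18 | g18
  · exact chkURangeF_spec C relF_hyp 1237356000 tc_eq 8589312 2048 ck_4194 b (by omega) (by omega)
  rcases Nat.lt_or_ge b 8593408 with g19 | g19
  · exact chkURangeF_spec C relF_hyp 1237356000 tc_eq 8591360 2048 ck_4195 b (by omega) (by omega)
  rcases Nat.lt_or_ge b 8595456 with g20 | g20
  · exact chkURangeF_spec C relF_hyp 1237356000 tc_eq 8593408 2048 ck_4196 b (by omega) (by omega)
  rcases Nat.lt_or_ge b 8597504 with g21 | g21
  · exact chkURangeF_spec C relF_hyp 1237356000 tc_eq 8595456 2048 ck_4197 b (by omega) (by omega)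
  rcases Nat.lt_or_ge b 8599552 with g22 | g22
  · exact chkURangeF_spec C relF_hyp 1237356000 tc_eq 8597504 2048 ck_4198 b (by omega) (by omega)
  exact chkURangeF_spec C relF_hyp 1237356000 tc_eq 8599552 2048 ck_4199 b (by omega) (by omega)
end Cfsg.Agent.Lib.Helper2.HNMult.P3
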