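import Cfsg.Agent.Lib.Helper2.HNMult.P3.Cert
set_option autoImplicit false
set_option maxRecDepth 1000000
set_option Elab.async false
namespace Cfsg.Agent.Lib.Helper2.HNMult.P3
open Cfsg.Agent.Lib.Helper4.Sparse Cfsg.Agent.Lib.Helper2.SparseF
theorem ck_432 : chkURangeF D C relF 796 1237356000 884736 2048 = true := by decide +kernel
theorem ck_433 : chkURangeF D C relF 796 1237356000 886784 2048 = true := by decide +kernel
theorem ck_434 : chkURangeF D C relF 796 1237356000 888832 2048 = true := by decide +kernel
theorem ck_435 : chkURangeF D C relF 796 1237356000 890880 2048 = true := by decide +kernel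
theorem ck_436 : chkURangeF D C relF 796 1237356000 892928 2048 = true := by decide +kernel
theorem ck_437 : chkURangeF D C relF 796 1237356000 894976 2048 = true := by decide +kernel
theorem ck_438 : chkURangeF D C relF 796 1237356000 897024 2048 = true := by decide +kernel
theorem ck_439 : chkURangeF D C relF 796 1237356000 899072 2048 = true := by decide +kernel
theorem ck_440 : chkURangeF D C relF 796 1237356000 901120 2048 = true := by decide +kernel
theorem ck_441 : chkURangeF D C relF 796 1237356000 903168 2048 = true := by decide +kernel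
theorem ck_442 : chkURangeF D C relF 796 1237356000 905216 2048 = true := by decide +kernel
theorem ck_443 : chkURangeF D C relF 796 1237356000 907264 2048 = true := by decide +kernel
theorem ck_444 : chkURangeF D C relF 796 1237356000 909312 2048 = true := by decide +kernel
theorem ck_445 : chkURangeF D C relF 796 1237356000 911360 2048 = true := by decide +kernel
theorem ck_446 : chkURangeF D C relF 796 1237356000 913408 2048 = true := by decide +kernel
theorem ck_447 : chkURangeF D C relF 796 1237356000 915456 2048 = true := by decide +kernel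
theorem ck_448 : chkURangeF D C relF 796 1237356000 917504 2048 = true := by decide +kernel
theorem ck_449 : chkURangeF D C relF 796 1237356000 919552 2048 = true := by decide +kernel
theorem ck_450 : chkURangeF D C relF 796 1237356000 921600 2048 = true := by decide +kernel
theorem ck_451 : chkURangeF D C relF 796 1237356000 923648 2048 = true := by decide +kernel
theorem ck_452 : chkURangeF D C relF 796 1237356000 925696 2048 = true := by decide +kernel
theorem ck_453 : chkURangeF D C relF 796 1237356000 927744 2048 = true := by decide +kernel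
theorem ck_454 : chkURangeF D C relF 796 1237356000 929792 2048 = true := by decide +kernel
theorem ck_455 : chkURangeF D C relF 796 1237356000 931840 2048 = true := by decide +kernel
theorem chkU_18 (b : ℕ) (h1 : 884736 ≤ b) (h2 : b < 933888) : chkU D C b = true := by
  rcases Nat.lt_or_ge b 886784 with g0 | g0
  · exact chkURangeF_spec C relF_hyp 1237356000 tc_eq 884736 2048 ck_432 b (by omega) (by omega)
  rcases Nat.lt_or_ge b 888832 with g1 | g1
  · exact chkURangeF_spec C relF_hyp 1237356000 tc_eq 886784 2048 ck_433 b (by omega) (by omega)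
  rcases Nat.lt_or_ge b 890880 with g2 | g2
  · exact chkURangeF_spec C relF_hyp 1237356000 tc_eq 888832 2048 ck_434 b (by omega) (by omega)
  rcases Nat.lt_or_ge b 892928 with g3 | g3
  · exact chkURangeF_spec C relF_hyp 1237356000 tc_eq 890880 2048 ck_435 b (by omega) (by omega)
  rcases Nat.lt_or_ge b 894976 with g4 | g4
  · exact chkURangeF_spec C relF_hyp 1237356000 tc_eq 892928 2048 ck_436 b (by omega) (by omega)
  rcases Nat.lt_or_ge b 897024 with g5 | g5
  · exact chkURangeF_spec C relF_hyp 1237356000 tc_eq 894976 2048 ck_437 b (by omega) (by omega)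
  rcases Nat.lt_or_ge b 899072 with g6 | g6
  · exact chkURangeF_spec C relF_hyp 1237356000 tc_eq 897024 2048 ck_438 b (by omega) (by omega)
  rcases Nat.lt_or_ge b 901120 with g7 | g7
  · exact chkURangeF_spec C relF_hyp 1237356000 tc_eq 899072 2048 ck_439 b (by omega) (by omega)
  rcases Nat.lt_or_ge b 903168 with g8 | g8
  · exact chkURangeF_spec C relF_hyp 1237356000 tc_eq 901120 2048 ck_440 b (by omega) (by omega)
  rcases Nat.lt_or_ge b 905216 with g9 | g9
  · exact chkURangeF_spec C relF_hyp 1237356000 tc_eq 903168 2048 ck_441 b (by omega) (by omega)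
  rcases Nat.lt_or_ge b 907264 with g10 | g10
  · exact chkURangeF_spec C relF_hyp 1237356000 tc_eq 905216 2048 ck_442 b (by omega) (by omega)
  rcases Nat.lt_or_ge b 909312 with g11 | g11
  · exact chkURangeF_spec C relF_hyp 1237356000 tc_eq 907264 2048 ck_443 b (by omega) (by omega)
  rcases Nat.lt_or_ge b 911360 with g12 | g12
  · exact chkURangeF_spec C relF_hyp 1237356000 tc_eq 909312 2048 ck_444 b (by omega) (by omega)
  rcases Nat.lt_or_ge b 913408 with g13 | g13
  · exact chkURangeF_spec C relF_hyp 1237356000 tc_eq 911360 2048 ck_445 b (by omega) (by omega)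
  rcases Nat.lt_or_ge b 915456 with g14 | g14
  · exact chkURangeF_spec C relF_hyp 1237356000 tc_eq 913408 2048 ck_446 b (by omega) (by omega)
  rcases Nat.lt_or_ge b 917504 with g15 | g15
  · exact chkURangeF_spec C relF_hyp 1237356000 tc_eq 915456 2048 ck_447 b (by omega) (by omega)
  rcases Nat.lt_or_ge b 919552 with g16 | g16
  · exact chkURangeF_spec C relF_hyp 1237356000 tc_eq 917504 2048 ck_448 b (by omega) (by omega)
  rcases Nat.lt_or_ge b 921600 with g17 | g17
  · exact chkURangeF_spec C relF_hyp 1237356000 tc_eq 919552 2048 ck_449 b (by omega) (by omega)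
  rcases Nat.lt_or_ge b 923648 with g18 | g18
  · exact chkURangeF_spec C relF_hyp 1237356000 tc_eq 921600 2048 ck_450 b (by omega) (by omega)
  rcases Nat.lt_or_ge b 925696 with g19 | g19
  · exact chkURangeF_spec C relF_hyp 1237356000 tc_eq 923648 2048 ck_451 b (by omega) (by omega)
  rcases Nat.lt_or_ge b 927744 with g20 | g20
  · exact chkURangeF_spec C relF_hyp 1237356000 tc_eq 925696 2048 ck_452 b (by omega) (by omega)
  rcases Nat.lt_or_ge b 929792 with g21 | g21
  · exact chkURangeF_spec C relF_hyp 1237356000 tc_eq 927744 2048 ck_453 b (by omega) (by omega)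
  rcases Nat.lt_or_ge b 931840 with g22 | g22
  · exact chkURangeF_spec C relF_hyp 1237356000 tc_eq 929792 2048 ck_454 b (by omega) (by omega)
  exact chkURangeF_spec C relF_hyp 1237356000 tc_eq 931840 2048 ck_455 b (by omega) (by omega)
end Cfsg.Agent.Lib.Helper2.HNMult.P3
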