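import Cfsg.Agent.Lib.Helper2.HNMult.P3.Cert
set_option autoImplicit false
set_option maxRecDepth 1000000
set_option Elab.async false
namespace Cfsg.Agent.Lib.Helper2.HNMult.P3
open Cfsg.Agent.Lib.Helper4.Sparse Cfsg.Agent.Lib.Helper2.SparseF
theorem ck_4320 : chkURangeF D C relF 796 1237356000 8847360 2048 = true := by decide +kernel
theorem ck_4321 : chkURangeF D C relF 796 1237356000 8849408 2048 = true := by decide +kernel
theorem ck_4322 : chkURangeF D C relF 796 1237356000 8851456 2048 = true := by decide +kernel
theorem ck_4323 : chkURangeF D C relF 796 1237356000 8853504 2048 = true := by decide +kernel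
theorem ck_4324 : chkURangeF D C relF 796 1237356000 8855552 2048 = true := by decide +kernel
theorem ck_4325 : chkURangeF D C relF 796 1237356000 8857600 2048 = true := by decide +kernel
theorem ck_4326 : chkURangeF D C relF 796 1237356000 8859648 2048 = true := by decide +kernel
theorem ck_4327 : chkURangeF D C relF 796 1237356000 8861696 2048 = true := by decide +kernel
theorem ck_4328 : chkURangeF D C relF 796 1237356000 8863744 2048 = true := by decide +kernel
theorem ck_4329 : chkURangeF D C relF 796 1237356000 8865792 2048 = true := by decide +kernel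
theorem ck_4330 : chkURangeF D C relF 796 1237356000 8867840 2048 = true := by decide +kernel
theorem ck_4331 : chkURangeF D C relF 796 1237356000 8869888 2048 = true := by decide +kernel
theorem ck_4332 : chkURangeF D C relF 796 1237356000 8871936 2048 = true := by decide +kernel
theorem ck_4333 : chkURangeF D C relF 796 1237356000 8873984 2048 = true := by decide +kernel
theorem ck_4334 : chkURangeF D C relF 796 1237356000 8876032 2048 = true := by decide +kernel
theorem ck_4335 : chkURangeF D C relF 796 1237356000 8878080 2048 = true := by decide +kernel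
theorem ck_4336 : chkURangeF D C relF 796 1237356000 8880128 2048 = true := by decide +kernel
theorem ck_4337 : chkURangeF D C relF 796 1237356000 8882176 2048 = true := by decide +kernel
theorem ck_4338 : chkURangeF D C relF 796 1237356000 8884224 2048 = true := by decide +kernel
theorem ck_4339 : chkURangeF D C relF 796 1237356000 8886272 2048 = true := by decide +kernel
theorem ck_4340 : chkURangeF D C relF 796 1237356000 8888320 2048 = true := by decide +kernel
theorem ck_4341 : chkURangeF D C relF 796 1237356000 8890368 2048 = true := by decide +kernel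
theorem ck_4342 : chkURangeF D C relF 796 1237356000 8892416 2048 = true := by decide +kernel
theorem ck_4343 : chkURangeF D C relF 796 1237356000 8894464 2048 = true := by decide +kernel
theorem chkU_180 (b : ℕ) (h1 : 8847360 ≤ b) (h2 : b < 8896512) : chkU D C b = true := by
  rcases Nat.lt_or_ge b 8849408 with g0 | g0
  · exact chkURangeF_spec C relF_hyp 1237356000 tc_eq 8847360 2048 ck_4320 b (by omega) (by omega)
  rcases Nat.lt_or_ge b 8851456 with g1 | g1
  · exact chkURangeF_spec C relF_hyp 1237356000 tc_eq 8849408 2048 ck_4321 b (by omega) (by omega)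
  rcases Nat.lt_or_ge b 8853504 with g2 | g2
  · exact chkURangeF_spec C relF_hyp 1237356000 tc_eq 8851456 2048 ck_4322 b (by omega) (by omega)
  rcases Nat.lt_or_ge b 8855552 with g3 | g3
  · exact chkURangeF_spec C relF_hyp 1237356000 tc_eq 8853504 2048 ck_4323 b (by omega) (by omega)
  rcases Nat.lt_or_ge b 8857600 with g4 | g4
  · exact chkURangeF_spec C relF_hyp 1237356000 tc_eq 8855552 2048 ck_4324 b (by omega) (by omega)
  rcases Nat.lt_or_ge b 8859648 with g5 | g5
  · exact chkURangeF_spec C relF_hyp 1237356000 tc_eq 8857600 2048 ck_4325 b (by omega) (by omega)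
  rcases Nat.lt_or_ge b 8861696 with g6 | g6
  · exact chkURangeF_spec C relF_hyp 1237356000 tc_eq 8859648 2048 ck_4326 b (by omega) (by omega)
  rcases Nat.lt_or_ge b 8863744 with g7 | g7
  · exact chkURangeF_spec C relF_hyp 1237356000 tc_eq 8861696 2048 ck_4327 b (by omega) (by omega)
  rcases Nat.lt_or_ge b 8865792 with g8 | g8
  · exact chkURangeF_spec C relF_hyp 1237356000 tc_eq 8863744 2048 ck_4328 b (by omega) (by omega)
  rcases Nat.lt_or_ge b 8867840 with g9 | g9
  · exact chkURangeF_spec C relF_hyp 1237356000 tc_eq 8865792 2048 ck_4329 b (by omega) (by omega)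
  rcases Nat.lt_or_ge b 8869888 with g10 | g10
  · exact chkURangeF_spec C relF_hyp 1237356000 tc_eq 8867840 2048 ck_4330 b (by omega) (by omega)
  rcases Nat.lt_or_ge b 8871936 with g11 | g11
  · exact chkURangeF_spec C relF_hyp 1237356000 tc_eq 8869888 2048 ck_4331 b (by omega) (by omega)
  rcases Nat.lt_or_ge b 8873984 with g12 | g12
  · exact chkURangeF_spec C relF_hyp 1237356000 tc_eq 8871936 2048 ck_4332 b (by omega) (by omega)
  rcases Nat.lt_or_ge b 8876032 with g13 | g13
  · exact chkURangeF_spec C relF_hyp 1237356000 tc_eq 8873984 2048 ck_4333 b (by omega) (by omega)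
  rcases Nat.lt_or_ge b 8878080 with g14 | g14
  · exact chkURangeF_spec C relF_hyp 1237356000 tc_eq 8876032 2048 ck_4334 b (by omega) (by omega)
  rcases Nat.lt_or_ge b 8880128 with g15 | g15
  · exact chkURangeF_spec C relF_hyp 1237356000 tc_eq 8878080 2048 ck_4335 b (by omega) (by omega)
  rcases Nat.lt_or_ge b 8882176 with g16 | g16
  · exact chkURangeF_spec C relF_hyp 1237356000 tc_eq 8880128 2048 ck_4336 b (by omega) (by omega)
  rcases Nat.lt_or_ge b 8884224 with g17 | g17
  · exact chkURangeF_spec C relF_hyp 1237356000 tc_eq 8882176 2048 ck_4337 b (by omega) (by omega)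
  rcases Nat.lt_or_ge b 8886272 with g18 | g18
  · exact chkURangeF_spec C relF_hyp 1237356000 tc_eq 8884224 2048 ck_4338 b (by omega) (by omega)
  rcases Nat.lt_or_ge b 8888320 with g19 | g19
  · exact chkURangeF_spec C relF_hyp 1237356000 tc_eq 8886272 2048 ck_4339 b (by omega) (by omega)
  rcases Nat.lt_or_ge b 8890368 with g20 | g20
  · exact chkURangeF_spec C relF_hyp 1237356000 tc_eq 8888320 2048 ck_4340 b (by omega) (by omega)
  rcases Nat.lt_or_ge b 8892416 with g21 | g21
  · exact chkURangeF_spec C relF_hyp 1237356000 tc_eq 8890368 2048 ck_4341 b (by omega) (by omega)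
  rcases Nat.lt_or_ge b 8894464 with g22 | g22
  · exact chkURangeF_spec C relF_hyp 1237356000 tc_eq 8892416 2048 ck_4342 b (by omega) (by omega)
  exact chkURangeF_spec C relF_hyp 1237356000 tc_eq 8894464 2048 ck_4343 b (by omega) (by omega)
end Cfsg.Agent.Lib.Helper2.HNMult.P3
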