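import Cfsg.Agent.Lib.Helper2.HNMult.P3.Cert
set_option autoImplicit false
set_option maxRecDepth 1000000
set_option Elab.async false
namespace Cfsg.Agent.Lib.Helper2.HNMult.P3
open Cfsg.Agent.Lib.Helper4.Sparse Cfsg.Agent.Lib.Helper2.SparseF
theorem ck_4368 : chkURangeF D C relF 796 1237356000 8945664 2048 = true := by decide +kernel
theorem ck_4369 : chkURangeF D C relF 796 1237356000 8947712 2048 = true := by decide +kernel
theorem ck_4370 : chkURangeF D C relF 796 1237356000 8949760 2048 = true := by decide +kernel
theorem ck_4371 : chkURangeF D C relF 796 1237356000 8951808 2048 = true := by decide +kernel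
theorem ck_4372 : chkURangeF D C relF 796 1237356000 8953856 2048 = true := by decide +kernel
theorem ck_4373 : chkURangeF D C relF 796 1237356000 8955904 2048 = true := by decide +kernel
theorem ck_4374 : chkURangeF D C relF 796 1237356000 8957952 2048 = true := by decide +kernel
theorem ck_4375 : chkURangeF D C relF 796 1237356000 8960000 2048 = true := by decide +kernel
theorem ck_4376 : chkURangeF D C relF 796 1237356000 8962048 2048 = true := by decide +kernel
theorem ck_4377 : chkURangeF D C relF 796 1237356000 8964096 2048 = true := by decide +kernel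
theorem ck_4378 : chkURangeF D C relF 796 1237356000 8966144 2048 = true := by decide +kernel
theorem ck_4379 : chkURangeF D C relF 796 1237356000 8968192 2048 = true := by decide +kernel
theorem ck_4380 : chkURangeF D C relF 796 1237356000 8970240 2048 = true := by decide +kernel
theorem ck_4381 : chkURangeF D C relF 796 1237356000 8972288 2048 = true := by decide +kernel
theorem ck_4382 : chkURangeF D C relF 796 1237356000 8974336 2048 = true := by decide +kernel
theorem ck_4383 : chkURangeF D C relF 796 1237356000 8976384 2048 = true := by decide +kernel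
theorem ck_4384 : chkURangeF D C relF 796 1237356000 8978432 2048 = true := by decide +kernel
theorem ck_4385 : chkURangeF D C relF 796 1237356000 8980480 2048 = true := by decide +kernel
theorem ck_4386 : chkURangeF D C relF 796 1237356000 8982528 2048 = true := by decide +kernel
theorem ck_4387 : chkURangeF D C relF 796 1237356000 8984576 2048 = true := by decide +kernel
theorem ck_4388 : chkURangeF D C relF 796 1237356000 8986624 2048 = true := by decide +kernel
theorem ck_4389 : chkURangeF D C relF 796 1237356000 8988672 2048 = true := by decide +kernel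
theorem ck_4390 : chkURangeF D C relF 796 1237356000 8990720 2048 = true := by decide +kernel
theorem ck_4391 : chkURangeF D C relF 796 1237356000 8992768 2048 = true := by decide +kernel
theorem chkU_182 (b : ℕ) (h1 : 8945664 ≤ b) (h2 : b < 8994816) : chkU D C b = true := by
  rcases Nat.lt_or_ge b 8947712 with g0 | g0
  · exact chkURangeF_spec C relF_hyp 1237356000 tc_eq 8945664 2048 ck_4368 b (by omega) (by omega)
  rcases Nat.lt_or_ge b 8949760 with g1 | g1
  · exact chkURangeF_spec C relF_hyp 1237356000 tc_eq 8947712 2048 ck_4369 b (by omega) (by omega)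
  rcases Nat.lt_or_ge b 8951808 with g2 | g2
  · exact chkURangeF_spec C relF_hyp 1237356000 tc_eq 8949760 2048 ck_4370 b (by omega) (by omega)
  rcases Nat.lt_or_ge b 8953856 with g3 | g3
  · exact chkURangeF_spec C relF_hyp 1237356000 tc_eq 8951808 2048 ck_4371 b (by omega) (by omega)
  rcases Nat.lt_or_ge b 8955904 with g4 | g4
  · exact chkURangeF_spec C relF_hyp 1237356000 tc_eq 8953856 2048 ck_4372 b (by omega) (by omega)
  rcases Nat.lt_or_ge b 8957952 with g5 | g5
  · exact chkURangeF_spec C relF_hyp 1237356000 tc_eq 8955904 2048 ck_4373 b (by omega) (by omega)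
  rcases Nat.lt_or_ge b 8960000 with g6 | g6
  · exact chkURangeF_spec C relF_hyp 1237356000 tc_eq 8957952 2048 ck_4374 b (by omega) (by omega)
  rcases Nat.lt_or_ge b 8962048 with g7 | g7
  · exact chkURangeF_spec C relF_hyp 1237356000 tc_eq 8960000 2048 ck_4375 b (by omega) (by omega)
  rcases Nat.lt_or_ge b 8964096 with g8 | g8
  · exact chkURangeF_spec C relF_hyp 1237356000 tc_eq 8962048 2048 ck_4376 b (by omega) (by omega)
  rcases Nat.lt_or_ge b 8966144 with g9 | g9
  · exact chkURangeF_spec C relF_hyp 1237356000 tc_eq 8964096 2048 ck_4377 b (by omega) (by omega)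
  rcases Nat.lt_or_ge b 8968192 with g10 | g10
  · exact chkURangeF_spec C relF_hyp 1237356000 tc_eq 8966144 2048 ck_4378 b (by omega) (by omega)
  rcases Nat.lt_or_ge b 8970240 with g11 | g11
  · exact chkURangeF_spec C relF_hyp 1237356000 tc_eq 8968192 2048 ck_4379 b (by omega) (by omega)
  rcases Nat.lt_or_ge b 8972288 with g12 | g12
  · exact chkURangeF_spec C relF_hyp 1237356000 tc_eq 8970240 2048 ck_4380 b (by omega) (by omega)
  rcases Nat.lt_or_ge b 8974336 with g13 | g13
  · exact chkURangeF_spec C relF_hyp 1237356000 tc_eq 8972288 2048 ck_4381 b (by omega) (by omega)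
  rcases Nat.lt_or_ge b 8976384 with g14 | g14
  · exact chkURangeF_spec C relF_hyp 1237356000 tc_eq 8974336 2048 ck_4382 b (by omega) (by omega)
  rcases Nat.lt_or_ge b 8978432 with g15 | g15
  · exact chkURangeF_spec C relF_hyp 1237356000 tc_eq 8976384 2048 ck_4383 b (by omega) (by omega)
  rcases Nat.lt_or_ge b 8980480 with g16 | g16
  · exact chkURangeF_spec C relF_hyp 1237356000 tc_eq 8978432 2048 ck_4384 b (by omega) (by omega)
  rcases Nat.lt_or_ge b 8982528 with g17 | g17
  · exact chkURangeF_spec C relF_hyp 1237356000 tc_eq 8980480 2048 ck_4385 b (by omega) (by omega)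
  rcases Nat.lt_or_ge b 8984576 with g18 | g18
  · exact chkURangeF_spec C relF_hyp 1237356000 tc_eq 8982528 2048 ck_4386 b (by omega) (by omega)
  rcases Nat.lt_or_ge b 8986624 with g19 | g19
  · exact chkURangeF_spec C relF_hyp 1237356000 tc_eq 8984576 2048 ck_4387 b (by omega) (by omega)
  rcases Nat.lt_or_ge b 8988672 with g20 | g20
  · exact chkURangeF_spec C relF_hyp 1237356000 tc_eq 8986624 2048 ck_4388 b (by omega) (by omega)
  rcases Nat.lt_or_ge b 8990720 with g21 | g21
  · exact chkURangeF_spec C relF_hyp 1237356000 tc_eq 8988672 2048 ck_4389 b (by omega) (by omega)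
  rcases Nat.lt_or_ge b 8992768 with g22 | g22
  · exact chkURangeF_spec C relF_hyp 1237356000 tc_eq 8990720 2048 ck_4390 b (by omega) (by omega)
  exact chkURangeF_spec C relF_hyp 1237356000 tc_eq 8992768 2048 ck_4391 b (by omega) (by omega)
end Cfsg.Agent.Lib.Helper2.HNMult.P3
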