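import Cfsg.Agent.Lib.Helper2.HNMult.P3.Cert
set_option autoImplicit false
set_option maxRecDepth 1000000
set_option Elab.async false
namespace Cfsg.Agent.Lib.Helper2.HNMult.P3
open Cfsg.Agent.Lib.Helper4.Sparse Cfsg.Agent.Lib.Helper2.SparseF
theorem ck_4416 : chkURangeF D C relF 796 1237356000 9043968 2048 = true := by decide +kernel
theorem ck_4417 : chkURangeF D C relF 796 1237356000 9046016 2048 = true := by decide +kernel
theorem ck_4418 : chkURangeF D C relF 796 1237356000 9048064 2048 = true := by decide +kernel
theorem ck_4419 : chkURangeF D C relF 796 1237356000 9050112 2048 = true := by decide +kernel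
theorem ck_4420 : chkURangeF D C relF 796 1237356000 9052160 2048 = true := by decide +kernel
theorem ck_4421 : chkURangeF D C relF 796 1237356000 9054208 2048 = true := by decide +kernel
theorem ck_4422 : chkURangeF D C relF 796 1237356000 9056256 2048 = true := by decide +kernel
theorem ck_4423 : chkURangeF D C relF 796 1237356000 9058304 2048 = true := by decide +kernel
theorem ck_4424 : chkURangeF D C relF 796 1237356000 9060352 2048 = true := by decide +kernel
theorem ck_4425 : chkURangeF D C relF 796 1237356000 9062400 2048 = true := by decide +kernel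
theorem ck_4426 : chkURangeF D C relF 796 1237356000 9064448 2048 = true := by decide +kernel
theorem ck_4427 : chkURangeF D C relF 796 1237356000 9066496 2048 = true := by decide +kernel
theorem ck_4428 : chkURangeF D C relF 796 1237356000 9068544 2048 = true := by decide +kernel
theorem ck_4429 : chkURangeF D C relF 796 1237356000 9070592 2048 = true := by decide +kernel
theorem ck_4430 : chkURangeF D C relF 796 1237356000 9072640 2048 = true := by decide +kernel
theorem ck_4431 : chkURangeF D C relF 796 1237356000 9074688 2048 = true := by decide +kernel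
theorem ck_4432 : chkURangeF D C relF 796 1237356000 9076736 2048 = true := by decide +kernel
theorem ck_4433 : chkURangeF D C relF 796 1237356000 9078784 2048 = true := by decide +kernel
theorem ck_4434 : chkURangeF D C relF 796 1237356000 9080832 2048 = true := by decide +kernel
theorem ck_4435 : chkURangeF D C relF 796 1237356000 9082880 2048 = true := by decide +kernel
theorem ck_4436 : chkURangeF D C relF 796 1237356000 9084928 2048 = true := by decide +kernel
theorem ck_4437 : chkURangeF D C relF 796 1237356000 9086976 2048 = true := by decide +kernel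
theorem ck_4438 : chkURangeF D C relF 796 1237356000 9089024 2048 = true := by decide +kernel
theorem ck_4439 : chkURangeF D C relF 796 1237356000 9091072 2048 = true := by decide +kernel
theorem chkU_184 (b : ℕ) (h1 : 9043968 ≤ b) (h2 : b < 9093120) : chkU D C b = true := by
  rcases Nat.lt_or_ge b 9046016 with g0 | g0
  · exact chkURangeF_spec C relF_hyp 1237356000 tc_eq 9043968 2048 ck_4416 b (by omega) (by omega)
  rcases Nat.lt_or_ge b 9048064 with g1 | g1
  · exact chkURangeF_spec C relF_hyp 1237356000 tc_eq 9046016 2048 ck_4417 b (by omega) (by omega)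
  rcases Nat.lt_or_ge b 9050112 with g2 | g2
  · exact chkURangeF_spec C relF_hyp 1237356000 tc_eq 9048064 2048 ck_4418 b (by omega) (by omega)
  rcases Nat.lt_or_ge b 9052160 with g3 | g3
  · exact chkURangeF_spec C relF_hyp 1237356000 tc_eq 9050112 2048 ck_4419 b (by omega) (by omega)
  rcases Nat.lt_or_ge b 9054208 with g4 | g4
  · exact chkURangeF_spec C relF_hyp 1237356000 tc_eq 9052160 2048 ck_4420 b (by omega) (by omega)
  rcases Nat.lt_or_ge b 9056256 with g5 | g5
  · exact chkURangeF_spec C relF_hyp 1237356000 tc_eq 9054208 2048 ck_4421 b (by omega) (by omega)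
  rcases Nat.lt_or_ge b 9058304 with g6 | g6
  · exact chkURangeF_spec C relF_hyp 1237356000 tc_eq 9056256 2048 ck_4422 b (by omega) (by omega)
  rcases Nat.lt_or_ge b 9060352 with g7 | g7
  · exact chkURangeF_spec C relF_hyp 1237356000 tc_eq 9058304 2048 ck_4423 b (by omega) (by omega)
  rcases Nat.lt_or_ge b 9062400 with g8 | g8
  · exact chkURangeF_spec C relF_hyp 1237356000 tc_eq 9060352 2048 ck_4424 b (by omega) (by omega)
  rcases Nat.lt_or_ge b 9064448 with g9 | g9
  · exact chkURangeF_spec C relF_hyp 1237356000 tc_eq 9062400 2048 ck_4425 b (by omega) (by omega)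
  rcases Nat.lt_or_ge b 9066496 with g10 | g10
  · exact chkURangeF_spec C relF_hyp 1237356000 tc_eq 9064448 2048 ck_4426 b (by omega) (by omega)
  rcases Nat.lt_or_ge b 9068544 with g11 | g11
  · exact chkURangeF_spec C relF_hyp 1237356000 tc_eq 9066496 2048 ck_4427 b (by omega) (by omega)
  rcases Nat.lt_or_ge b 9070592 with g12 | g12
  · exact chkURangeF_spec C relF_hyp 1237356000 tc_eq 9068544 2048 ck_4428 b (by omega) (by omega)
  rcases Nat.lt_or_ge b 9072640 with g13 | g13
  · exact chkURangeF_spec C relF_hyp 1237356000 tc_eq 9070592 2048 ck_4429 b (by omega) (by omega)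
  rcases Nat.lt_or_ge b 9074688 with g14 | g14
  · exact chkURangeF_spec C relF_hyp 1237356000 tc_eq 9072640 2048 ck_4430 b (by omega) (by omega)
  rcases Nat.lt_or_ge b 9076736 with g15 | g15
  · exact chkURangeF_spec C relF_hyp 1237356000 tc_eq 9074688 2048 ck_4431 b (by omega) (by omega)
  rcases Nat.lt_or_ge b 9078784 with g16 | g16
  · exact chkURangeF_spec C relF_hyp 1237356000 tc_eq 9076736 2048 ck_4432 b (by omega) (by omega)
  rcases Nat.lt_or_ge b 9080832 with g17 | g17
  · exact chkURangeF_spec C relF_hyp 1237356000 tc_eq 9078784 2048 ck_4433 b (by omega) (by omega)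
  rcases Nat.lt_or_ge b 9082880 with g18 | g18
  · exact chkURangeF_spec C relF_hyp 1237356000 tc_eq 9080832 2048 ck_4434 b (by omega) (by omega)
  rcases Nat.lt_or_ge b 9084928 with g19 | g19
  · exact chkURangeF_spec C relF_hyp 1237356000 tc_eq 9082880 2048 ck_4435 b (by omega) (by omega)
  rcases Nat.lt_or_ge b 9086976 with g20 | g20
  · exact chkURangeF_spec C relF_hyp 1237356000 tc_eq 9084928 2048 ck_4436 b (by omega) (by omega)
  rcases Nat.lt_or_ge b 9089024 with g21 | g21
  · exact chkURangeF_spec C relF_hyp 1237356000 tc_eq 9086976 2048 ck_4437 b (by omega) (by omega)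
  rcases Nat.lt_or_ge b 9091072 with g22 | g22
  · exact chkURangeF_spec C relF_hyp 1237356000 tc_eq 9089024 2048 ck_4438 b (by omega) (by omega)
  exact chkURangeF_spec C relF_hyp 1237356000 tc_eq 9091072 2048 ck_4439 b (by omega) (by omega)
end Cfsg.Agent.Lib.Helper2.HNMult.P3
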