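import Cfsg.Agent.Lib.Helper2.HNMult.P3.Cert
set_option autoImplicit false
set_option maxRecDepth 1000000
set_option Elab.async false
namespace Cfsg.Agent.Lib.Helper2.HNMult.P3
open Cfsg.Agent.Lib.Helper4.Sparse Cfsg.Agent.Lib.Helper2.SparseF
theorem ck_4440 : chkURangeF D C relF 796 1237356000 9093120 2048 = true := by decide +kernel
theorem ck_4441 : chkURangeF D C relF 796 1237356000 9095168 2048 = true := by decide +kernel
theorem ck_4442 : chkURangeF D C relF 796 1237356000 9097216 2048 = true := by decide +kernel
theorem ck_4443 : chkURangeF D C relF 796 1237356000 9099264 2048 = true := by decide +kernel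
theorem ck_4444 : chkURangeF D C relF 796 1237356000 9101312 2048 = true := by decide +kernel
theorem ck_4445 : chkURangeF D C relF 796 1237356000 9103360 2048 = true := by decide +kernel
theorem ck_4446 : chkURangeF D C relF 796 1237356000 9105408 2048 = true := by decide +kernel
theorem ck_4447 : chkURangeF D C relF 796 1237356000 9107456 2048 = true := by decide +kernel
theorem ck_4448 : chkURangeF D C relF 796 1237356000 9109504 2048 = true := by decide +kernel
theorem ck_4449 : chkURangeF D C relF 796 1237356000 9111552 2048 = true := by decide +kernel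
theorem ck_4450 : chkURangeF D C relF 796 1237356000 9113600 2048 = true := by decide +kernel
theorem ck_4451 : chkURangeF D C relF 796 1237356000 9115648 2048 = true := by decide +kernel
theorem ck_4452 : chkURangeF D C relF 796 1237356000 9117696 2048 = true := by decide +kernel
theorem ck_4453 : chkURangeF D C relF 796 1237356000 9119744 2048 = true := by decide +kernel
theorem ck_4454 : chkURangeF D C relF 796 1237356000 9121792 2048 = true := by decide +kernel
theorem ck_4455 : chkURangeF D C relF 796 1237356000 9123840 2048 = true := by decide +kernel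
theorem ck_4456 : chkURangeF D C relF 796 1237356000 9125888 2048 = true := by decide +kernel
theorem ck_4457 : chkURangeF D C relF 796 1237356000 9127936 2048 = true := by decide +kernel
theorem ck_4458 : chkURangeF D C relF 796 1237356000 9129984 2048 = true := by decide +kernel
theorem ck_4459 : chkURangeF D C relF 796 1237356000 9132032 2048 = true := by decide +kernel
theorem ck_4460 : chkURangeF D C relF 796 1237356000 9134080 2048 = true := by decide +kernel
theorem ck_4461 : chkURangeF D C relF 796 1237356000 9136128 2048 = true := by decide +kernel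
theorem ck_4462 : chkURangeF D C relF 796 1237356000 9138176 2048 = true := by decide +kernel
theorem ck_4463 : chkURangeF D C relF 796 1237356000 9140224 2048 = true := by decide +kernel
theorem chkU_185 (b : ℕ) (h1 : 9093120 ≤ b) (h2 : b < 9142272) : chkU D C b = true := by
  rcases Nat.lt_or_ge b 9095168 with g0 | g0
  · exact chkURangeF_spec C relF_hyp 1237356000 tc_eq 9093120 2048 ck_4440 b (by omega) (by omega)
  rcases Nat.lt_or_ge b 9097216 with g1 | g1
  · exact chkURangeF_spec C relF_hyp 1237356000 tc_eq 9095168 2048 ck_4441 b (by omega) (by omega)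
  rcases Nat.lt_or_ge b 9099264 with g2 | g2
  · exact chkURangeF_spec C relF_hyp 1237356000 tc_eq 9097216 2048 ck_4442 b (by omega) (by omega)
  rcases Nat.lt_or_ge b 9101312 with g3 | g3
  · exact chkURangeF_spec C relF_hyp 1237356000 tc_eq 9099264 2048 ck_4443 b (by omega) (by omega)
  rcases Nat.lt_or_ge b 9103360 with g4 | g4
  · exact chkURangeF_spec C relF_hyp 1237356000 tc_eq 9101312 2048 ck_4444 b (by omega) (by omega)
  rcases Nat.lt_or_ge b 9105408 with g5 | g5
  · exact chkURangeF_spec C relF_hyp 1237356000 tc_eq 9103360 2048 ck_4445 b (by omega) (by omega)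
  rcases Nat.lt_or_ge b 9107456 with g6 | g6
  · exact chkURangeF_spec C relF_hyp 1237356000 tc_eq 9105408 2048 ck_4446 b (by omega) (by omega)
  rcases Nat.lt_or_ge b 9109504 with g7 | g7
  · exact chkURangeF_spec C relF_hyp 1237356000 tc_eq 9107456 2048 ck_4447 b (by omega) (by omega)
  rcases Nat.lt_or_ge b 9111552 with g8 | g8
  · exact chkURangeF_spec C relF_hyp 1237356000 tc_eq 9109504 2048 ck_4448 b (by omega) (by omega)
  rcases Nat.lt_or_ge b 9113600 with g9 | g9
  · exact chkURangeF_spec C relF_hyp 1237356000 tc_eq 9111552 2048 ck_4449 b (by omega) (by omega)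
  rcases Nat.lt_or_ge b 9115648 with g10 | g10
  · exact chkURangeF_spec C relF_hyp 1237356000 tc_eq 9113600 2048 ck_4450 b (by omega) (by omega)
  rcases Nat.lt_or_ge b 9117696 with g11 | g11
  · exact chkURangeF_spec C relF_hyp 1237356000 tc_eq 9115648 2048 ck_4451 b (by omega) (by omega)
  rcases Nat.lt_or_ge b 9119744 with g12 | g12
  · exact chkURangeF_spec C relF_hyp 1237356000 tc_eq 9117696 2048 ck_4452 b (by omega) (by omega)
  rcases Nat.lt_or_ge b 9121792 with g13 | g13
  · exact chkURangeF_spec C relF_hyp 1237356000 tc_eq 9119744 2048 ck_4453 b (by omega) (by omega)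
  rcases Nat.lt_or_ge b 9123840 with g14 | g14
  · exact chkURangeF_spec C relF_hyp 1237356000 tc_eq 9121792 2048 ck_4454 b (by omega) (by omega)
  rcases Nat.lt_or_ge b 9125888 with g15 | g15
  · exact chkURangeF_spec C relF_hyp 1237356000 tc_eq 9123840 2048 ck_4455 b (by omega) (by omega)
  rcases Nat.lt_or_ge b 9127936 with g16 | g16
  · exact chkURangeF_spec C relF_hyp 1237356000 tc_eq 9125888 2048 ck_4456 b (by omega) (by omega)
  rcases Nat.lt_or_ge b 9129984 with g17 | g17
  · exact chkURangeF_spec C relF_hyp 1237356000 tc_eq 9127936 2048 ck_4457 b (by omega) (by omega)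
  rcases Nat.lt_or_ge b 9132032 with g18 | g18
  · exact chkURangeF_spec C relF_hyp 1237356000 tc_eq 9129984 2048 ck_4458 b (by omega) (by omega)
  rcases Nat.lt_or_ge b 9134080 with g19 | g19
  · exact chkURangeF_spec C relF_hyp 1237356000 tc_eq 9132032 2048 ck_4459 b (by omega) (by omega)
  rcases Nat.lt_or_ge b 9136128 with g20 | g20
  · exact chkURangeF_spec C relF_hyp 1237356000 tc_eq 9134080 2048 ck_4460 b (by omega) (by omega)
  rcases Nat.lt_or_ge b 9138176 with g21 | g21
  · exact chkURangeF_spec C relF_hyp 1237356000 tc_eq 9136128 2048 ck_4461 b (by omega) (by omega)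
  rcases Nat.lt_or_ge b 9140224 with g22 | g22
  · exact chkURangeF_spec C relF_hyp 1237356000 tc_eq 9138176 2048 ck_4462 b (by omega) (by omega)
  exact chkURangeF_spec C relF_hyp 1237356000 tc_eq 9140224 2048 ck_4463 b (by omega) (by omega)
end Cfsg.Agent.Lib.Helper2.HNMult.P3
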