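import Cfsg.Agent.Lib.Helper2.HNMult.P3.Cert
set_option autoImplicit false
set_option maxRecDepth 1000000
set_option Elab.async false
namespace Cfsg.Agent.Lib.Helper2.HNMult.P3
open Cfsg.Agent.Lib.Helper4.Sparse Cfsg.Agent.Lib.Helper2.SparseF
theorem ck_4608 : chkURangeF D C relF 796 1237356000 9437184 2048 = true := by decide +kernel
theorem ck_4609 : chkURangeF D C relF 796 1237356000 9439232 2048 = true := by decide +kernel
theorem ck_4610 : chkURangeF D C relF 796 1237356000 9441280 2048 = true := by decide +kernel
theorem ck_4611 : chkURangeF D C relF 796 1237356000 9443328 2048 = true := by decide +kernel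
theorem ck_4612 : chkURangeF D C relF 796 1237356000 9445376 2048 = true := by decide +kernel
theorem ck_4613 : chkURangeF D C relF 796 1237356000 9447424 2048 = true := by decide +kernel
theorem ck_4614 : chkURangeF D C relF 796 1237356000 9449472 2048 = true := by decide +kernel
theorem ck_4615 : chkURangeF D C relF 796 1237356000 9451520 2048 = true := by decide +kernel
theorem ck_4616 : chkURangeF D C relF 796 1237356000 9453568 2048 = true := by decide +kernel
theorem ck_4617 : chkURangeF D C relF 796 1237356000 9455616 2048 = true := by decide +kernel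
theorem ck_4618 : chkURangeF D C relF 796 1237356000 9457664 2048 = true := by decide +kernel
theorem ck_4619 : chkURangeF D C relF 796 1237356000 9459712 2048 = true := by decide +kernel
theorem ck_4620 : chkURangeF D C relF 796 1237356000 9461760 2048 = true := by decide +kernel
theorem ck_4621 : chkURangeF D C relF 796 1237356000 9463808 2048 = true := by decide +kernel
theorem ck_4622 : chkURangeF D C relF 796 1237356000 9465856 2048 = true := by decide +kernel
theorem ck_4623 : chkURangeF D C relF 796 1237356000 9467904 2048 = true := by decide +kernel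
theorem ck_4624 : chkURangeF D C relF 796 1237356000 9469952 2048 = true := by decide +kernel
theorem ck_4625 : chkURangeF D C relF 796 1237356000 9472000 2048 = true := by decide +kernel
theorem ck_4626 : chkURangeF D C relF 796 1237356000 9474048 2048 = true := by decide +kernel
theorem ck_4627 : chkURangeF D C relF 796 1237356000 9476096 2048 = true := by decide +kernel
theorem ck_4628 : chkURangeF D C relF 796 1237356000 9478144 2048 = true := by decide +kernel
theorem ck_4629 : chkURangeF D C relF 796 1237356000 9480192 2048 = true := by decide +kernel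
theorem ck_4630 : chkURangeF D C relF 796 1237356000 9482240 2048 = true := by decide +kernel
theorem ck_4631 : chkURangeF D C relF 796 1237356000 9484288 2048 = true := by decide +kernel
theorem chkU_192 (b : ℕ) (h1 : 9437184 ≤ b) (h2 : b < 9486336) : chkU D C b = true := by
  rcases Nat.lt_or_ge b 9439232 with g0 | g0
  · exact chkURangeF_spec C relF_hyp 1237356000 tc_eq 9437184 2048 ck_4608 b (by omega) (by omega)
  rcases Nat.lt_or_ge b 9441280 with g1 | g1
  · exact chkURangeF_spec C relF_hyp 1237356000 tc_eq 9439232 2048 ck_4609 b (by omega) (by omega)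
  rcases Nat.lt_or_ge b 9443328 with g2 | g2
  · exact chkURangeF_spec C relF_hyp 1237356000 tc_eq 9441280 2048 ck_4610 b (by omega) (by omega)
  rcases Nat.lt_or_ge b 9445376 with g3 | g3
  · exact chkURangeF_spec C relF_hyp 1237356000 tc_eq 9443328 2048 ck_4611 b (by omega) (by omega)
  rcases Nat.lt_or_ge b 9447424 with g4 | g4
  · exact chkURangeF_spec C relF_hyp 1237356000 tc_eq 9445376 2048 ck_4612 b (by omega) (by omega)
  rcases Nat.lt_or_ge b 9449472 with g5 | g5
  · exact chkURangeF_spec C relF_hyp 1237356000 tc_eq 9447424 2048 ck_4613 b (by omega) (by omega)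
  rcases Nat.lt_or_ge b 9451520 with g6 | g6
  · exact chkURangeF_spec C relF_hyp 1237356000 tc_eq 9449472 2048 ck_4614 b (by omega) (by omega)
  rcases Nat.lt_or_ge b 9453568 with g7 | g7
  · exact chkURangeF_spec C relF_hyp 1237356000 tc_eq 9451520 2048 ck_4615 b (by omega) (by omega)
  rcases Nat.lt_or_ge b 9455616 with g8 | g8
  · exact chkURangeF_spec C relF_hyp 1237356000 tc_eq 9453568 2048 ck_4616 b (by omega) (by omega)
  rcases Nat.lt_or_ge b 9457664 with g9 | g9
  · exact chkURangeF_spec C relF_hyp 1237356000 tc_eq 9455616 2048 ck_4617 b (by omega) (by omega)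
  rcases Nat.lt_or_ge b 9459712 with g10 | g10
  · exact chkURangeF_spec C relF_hyp 1237356000 tc_eq 9457664 2048 ck_4618 b (by omega) (by omega)
  rcases Nat.lt_or_ge b 9461760 with g11 | g11
  · exact chkURangeF_spec C relF_hyp 1237356000 tc_eq 9459712 2048 ck_4619 b (by omega) (by omega)
  rcases Nat.lt_or_ge b 9463808 with g12 | g12
  · exact chkURangeF_spec C relF_hyp 1237356000 tc_eq 9461760 2048 ck_4620 b (by omega) (by omega)
  rcases Nat.lt_or_ge b 9465856 with g13 | g13
  · exact chkURangeF_spec C relF_hyp 1237356000 tc_eq 9463808 2048 ck_4621 b (by omega) (by omega)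
  rcases Nat.lt_or_ge b 9467904 with g14 | g14
  · exact chkURangeF_spec C relF_hyp 1237356000 tc_eq 9465856 2048 ck_4622 b (by omega) (by omega)
  rcases Nat.lt_or_ge b 9469952 with g15 | g15
  · exact chkURangeF_spec C relF_hyp 1237356000 tc_eq 9467904 2048 ck_4623 b (by omega) (by omega)
  rcases Nat.lt_or_ge b 9472000 with g16 | g16
  · exact chkURangeF_spec C relF_hyp 1237356000 tc_eq 9469952 2048 ck_4624 b (by omega) (by omega)
  rcases Nat.lt_or_ge b 9474048 with g17 | g17
  · exact chkURangeF_spec C relF_hyp 1237356000 tc_eq 9472000 2048 ck_4625 b (by omega) (by omega)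
  rcases Nat.lt_or_ge b 9476096 with g18 | g18
  · exact chkURangeF_spec C relF_hyp 1237356000 tc_eq 9474048 2048 ck_4626 b (by omega) (by omega)
  rcases Nat.lt_or_ge b 9478144 with g19 | g19
  · exact chkURangeF_spec C relF_hyp 1237356000 tc_eq 9476096 2048 ck_4627 b (by omega) (by omega)
  rcases Nat.lt_or_ge b 9480192 with g20 | g20
  · exact chkURangeF_spec C relF_hyp 1237356000 tc_eq 9478144 2048 ck_4628 b (by omega) (by omega)
  rcases Nat.lt_or_ge b 9482240 with g21 | g21
  · exact chkURangeF_spec C relF_hyp 1237356000 tc_eq 9480192 2048 ck_4629 b (by omega) (by omega)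
  rcases Nat.lt_or_ge b 9484288 with g22 | g22
  · exact chkURangeF_spec C relF_hyp 1237356000 tc_eq 9482240 2048 ck_4630 b (by omega) (by omega)
  exact chkURangeF_spec C relF_hyp 1237356000 tc_eq 9484288 2048 ck_4631 b (by omega) (by omega)
end Cfsg.Agent.Lib.Helper2.HNMult.P3
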