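import Cfsg.Agent.Lib.Helper2.HNMult.P3.Cert
set_option autoImplicit false
set_option maxRecDepth 1000000
set_option Elab.async false
namespace Cfsg.Agent.Lib.Helper2.HNMult.P3
open Cfsg.Agent.Lib.Helper4.Sparse Cfsg.Agent.Lib.Helper2.SparseF
theorem ck_4752 : chkURangeF D C relF 796 1237356000 9732096 2048 = true := by decide +kernel
theorem ck_4753 : chkURangeF D C relF 796 1237356000 9734144 2048 = true := by decide +kernel
theorem ck_4754 : chkURangeF D C relF 796 1237356000 9736192 2048 = true := by decide +kernel
theorem ck_4755 : chkURangeF D C relF 796 1237356000 9738240 2048 = true := by decide +kernel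
theorem ck_4756 : chkURangeF D C relF 796 1237356000 9740288 2048 = true := by decide +kernel
theorem ck_4757 : chkURangeF D C relF 796 1237356000 9742336 2048 = true := by decide +kernel
theorem ck_4758 : chkURangeF D C relF 796 1237356000 9744384 2048 = true := by decide +kernel
theorem ck_4759 : chkURangeF D C relF 796 1237356000 9746432 2048 = true := by decide +kernel
theorem ck_4760 : chkURangeF D C relF 796 1237356000 9748480 2048 = true := by decide +kernel
theorem ck_4761 : chkURangeF D C relF 796 1237356000 9750528 2048 = true := by decide +kernel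
theorem ck_4762 : chkURangeF D C relF 796 1237356000 9752576 2048 = true := by decide +kernel
theorem ck_4763 : chkURangeF D C relF 796 1237356000 9754624 2048 = true := by decide +kernel
theorem ck_4764 : chkURangeF D C relF 796 1237356000 9756672 2048 = true := by decide +kernel
theorem ck_4765 : chkURangeF D C relF 796 1237356000 9758720 2048 = true := by decide +kernel
theorem ck_4766 : chkURangeF D C relF 796 1237356000 9760768 2048 = true := by decide +kernel
theorem ck_4767 : chkURangeF D C relF 796 1237356000 9762816 2048 = true := by decide +kernel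
theorem ck_4768 : chkURangeF D C relF 796 1237356000 9764864 2048 = true := by decide +kernel
theorem ck_4769 : chkURangeF D C relF 796 1237356000 9766912 2048 = true := by decide +kernel
theorem ck_4770 : chkURangeF D C relF 796 1237356000 9768960 2048 = true := by decide +kernel
theorem ck_4771 : chkURangeF D C relF 796 1237356000 9771008 2048 = true := by decide +kernel
theorem ck_4772 : chkURangeF D C relF 796 1237356000 9773056 2048 = true := by decide +kernel
theorem ck_4773 : chkURangeF D C relF 796 1237356000 9775104 2048 = true := by decide +kernel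
theorem ck_4774 : chkURangeF D C relF 796 1237356000 9777152 2048 = true := by decide +kernel
theorem ck_4775 : chkURangeF D C relF 796 1237356000 9779200 2048 = true := by decide +kernel
theorem chkU_198 (b : ℕ) (h1 : 9732096 ≤ b) (h2 : b < 9781248) : chkU D C b = true := by
  rcases Nat.lt_or_ge b 9734144 with g0 | g0
  · exact chkURangeF_spec C relF_hyp 1237356000 tc_eq 9732096 2048 ck_4752 b (by omega) (by omega)
  rcases Nat.lt_or_ge b 9736192 with g1 | g1
  · exact chkURangeF_spec C relF_hyp 1237356000 tc_eq 9734144 2048 ck_4753 b (by omega) (by omega)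
  rcases Nat.lt_or_ge b 9738240 with g2 | g2
  · exact chkURangeF_spec C relF_hyp 1237356000 tc_eq 9736192 2048 ck_4754 b (by omega) (by omega)
  rcases Nat.lt_or_ge b 9740288 with g3 | g3
  · exact chkURangeF_spec C relF_hyp 1237356000 tc_eq 9738240 2048 ck_4755 b (by omega) (by omega)
  rcases Nat.lt_or_ge b 9742336 with g4 | g4
  · exact chkURangeF_spec C relF_hyp 1237356000 tc_eq 9740288 2048 ck_4756 b (by omega) (by omega)
  rcases Nat.lt_or_ge b 9744384 with g5 | g5
  · exact chkURangeF_spec C relF_hyp 1237356000 tc_eq 9742336 2048 ck_4757 b (by omega) (by omega)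
  rcases Nat.lt_or_ge b 9746432 with g6 | g6
  · exact chkURangeF_spec C relF_hyp 1237356000 tc_eq 9744384 2048 ck_4758 b (by omega) (by omega)
  rcases Nat.lt_or_ge b 9748480 with g7 | g7
  · exact chkURangeF_spec C relF_hyp 1237356000 tc_eq 9746432 2048 ck_4759 b (by omega) (by omega)
  rcases Nat.lt_or_ge b 9750528 with g8 | g8
  · exact chkURangeF_spec C relF_hyp 1237356000 tc_eq 9748480 2048 ck_4760 b (by omega) (by omega)
  rcases Nat.lt_or_ge b 9752576 with g9 | g9
  · exact chkURangeF_spec C relF_hyp 1237356000 tc_eq 9750528 2048 ck_4761 b (by omega) (by omega)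
  rcases Nat.lt_or_ge b 9754624 with g10 | g10
  · exact chkURangeF_spec C relF_hyp 1237356000 tc_eq 9752576 2048 ck_4762 b (by omega) (by omega)
  rcases Nat.lt_or_ge b 9756672 with g11 | g11
  · exact chkURangeF_spec C relF_hyp 1237356000 tc_eq 9754624 2048 ck_4763 b (by omega) (by omega)
  rcases Nat.lt_or_ge b 9758720 with g12 | g12
  · exact chkURangeF_spec C relF_hyp 1237356000 tc_eq 9756672 2048 ck_4764 b (by omega) (by omega)
  rcases Nat.lt_or_ge b 9760768 with g13 | g13
  · exact chkURangeF_spec C relF_hyp 1237356000 tc_eq 9758720 2048 ck_4765 b (by omega) (by omega)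
  rcases Nat.lt_or_ge b 9762816 with g14 | g14
  · exact chkURangeF_spec C relF_hyp 1237356000 tc_eq 9760768 2048 ck_4766 b (by omega) (by omega)
  rcases Nat.lt_or_ge b 9764864 with g15 | g15
  · exact chkURangeF_spec C relF_hyp 1237356000 tc_eq 9762816 2048 ck_4767 b (by omega) (by omega)
  rcases Nat.lt_or_ge b 9766912 with g16 | g16
  · exact chkURangeF_spec C relF_hyp 1237356000 tc_eq 9764864 2048 ck_4768 b (by omega) (by omega)
  rcases Nat.lt_or_ge b 9768960 with g17 | g17
  · exact chkURangeF_spec C relF_hyp 1237356000 tc_eq 9766912 2048 ck_4769 b (by omega) (by omega)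
  rcases Nat.lt_or_ge b 9771008 with g18 | g18
  · exact chkURangeF_spec C relF_hyp 1237356000 tc_eq 9768960 2048 ck_4770 b (by omega) (by omega)
  rcases Nat.lt_or_ge b 9773056 with g19 | g19
  · exact chkURangeF_spec C relF_hyp 1237356000 tc_eq 9771008 2048 ck_4771 b (by omega) (by omega)
  rcases Nat.lt_or_ge b 9775104 with g20 | g20
  · exact chkURangeF_spec C relF_hyp 1237356000 tc_eq 9773056 2048 ck_4772 b (by omega) (by omega)
  rcases Nat.lt_or_ge b 9777152 with g21 | g21
  · exact chkURangeF_spec C relF_hyp 1237356000 tc_eq 9775104 2048 ck_4773 b (by omega) (by omega)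
  rcases Nat.lt_or_ge b 9779200 with g22 | g22
  · exact chkURangeF_spec C relF_hyp 1237356000 tc_eq 9777152 2048 ck_4774 b (by omega) (by omega)
  exact chkURangeF_spec C relF_hyp 1237356000 tc_eq 9779200 2048 ck_4775 b (by omega) (by omega)
end Cfsg.Agent.Lib.Helper2.HNMult.P3
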