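import Cfsg.Agent.Lib.Helper2.HNMult.P3.Cert
set_option autoImplicit false
set_option maxRecDepth 1000000
set_option Elab.async false
namespace Cfsg.Agent.Lib.Helper2.HNMult.P3
open Cfsg.Agent.Lib.Helper4.Sparse Cfsg.Agent.Lib.Helper2.SparseF
theorem ck_4776 : chkURangeF D C relF 796 1237356000 9781248 2048 = true := by decide +kernel
theorem ck_4777 : chkURangeF D C relF 796 1237356000 9783296 2048 = true := by decide +kernel
theorem ck_4778 : chkURangeF D C relF 796 1237356000 9785344 2048 = true := by decide +kernel
theorem ck_4779 : chkURangeF D C relF 796 1237356000 9787392 2048 = true := by decide +kernel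
theorem ck_4780 : chkURangeF D C relF 796 1237356000 9789440 2048 = true := by decide +kernel
theorem ck_4781 : chkURangeF D C relF 796 1237356000 9791488 2048 = true := by decide +kernel
theorem ck_4782 : chkURangeF D C relF 796 1237356000 9793536 2048 = true := by decide +kernel
theorem ck_4783 : chkURangeF D C relF 796 1237356000 9795584 2048 = true := by decide +kernel
theorem ck_4784 : chkURangeF D C relF 796 1237356000 9797632 2048 = true := by decide +kernel
theorem ck_4785 : chkURangeF D C relF 796 1237356000 9799680 2048 = true := by decide +kernel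
theorem ck_4786 : chkURangeF D C relF 796 1237356000 9801728 2048 = true := by decide +kernel
theorem ck_4787 : chkURangeF D C relF 796 1237356000 9803776 2048 = true := by decide +kernel
theorem ck_4788 : chkURangeF D C relF 796 1237356000 9805824 2048 = true := by decide +kernel
theorem ck_4789 : chkURangeF D C relF 796 1237356000 9807872 2048 = true := by decide +kernel
theorem ck_4790 : chkURangeF D C relF 796 1237356000 9809920 2048 = true := by decide +kernel
theorem ck_4791 : chkURangeF D C relF 796 1237356000 9811968 2048 = true := by decide +kernel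
theorem ck_4792 : chkURangeF D C relF 796 1237356000 9814016 2048 = true := by decide +kernel
theorem ck_4793 : chkURangeF D C relF 796 1237356000 9816064 2048 = true := by decide +kernel
theorem ck_4794 : chkURangeF D C relF 796 1237356000 9818112 2048 = true := by decide +kernel
theorem ck_4795 : chkURangeF D C relF 796 1237356000 9820160 2048 = true := by decide +kernel
theorem ck_4796 : chkURangeF D C relF 796 1237356000 9822208 2048 = true := by decide +kernel
theorem ck_4797 : chkURangeF D C relF 796 1237356000 9824256 2048 = true := by decide +kernel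
theorem ck_4798 : chkURangeF D C relF 796 1237356000 9826304 2048 = true := by decide +kernel
theorem ck_4799 : chkURangeF D C relF 796 1237356000 9828352 2048 = true := by decide +kernel
theorem chkU_199 (b : ℕ) (h1 : 9781248 ≤ b) (h2 : b < 9830400) : chkU D C b = true := by
  rcases Nat.lt_or_ge b 9783296 with g0 | g0
  · exact chkURangeF_spec C relF_hyp 1237356000 tc_eq 9781248 2048 ck_4776 b (by omega) (by omega)
  rcases Nat.lt_or_ge b 9785344 with g1 | g1
  · exact chkURangeF_spec C relF_hyp 1237356000 tc_eq 9783296 2048 ck_4777 b (by omega) (by omega)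
  rcases Nat.lt_or_ge b 9787392 with g2 | g2
  · exact chkURangeF_spec C relF_hyp 1237356000 tc_eq 9785344 2048 ck_4778 b (by omega) (by omega)
  rcases Nat.lt_or_ge b 9789440 with g3 | g3
  · exact chkURangeF_spec C relF_hyp 1237356000 tc_eq 9787392 2048 ck_4779 b (by omega) (by omega)
  rcases Nat.lt_or_ge b 9791488 with g4 | g4
  · exact chkURangeF_spec C relF_hyp 1237356000 tc_eq 9789440 2048 ck_4780 b (by omega) (by omega)
  rcases Nat.lt_or_ge b 9793536 with g5 | g5
  · exact chkURangeF_spec C relF_hyp 1237356000 tc_eq 9791488 2048 ck_4781 b (by omega) (by omega)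
  rcases Nat.lt_or_ge b 9795584 with g6 | g6
  · exact chkURangeF_spec C relF_hyp 1237356000 tc_eq 9793536 2048 ck_4782 b (by omega) (by omega)
  rcases Nat.lt_or_ge b 9797632 with g7 | g7
  · exact chkURangeF_spec C relF_hyp 1237356000 tc_eq 9795584 2048 ck_4783 b (by omega) (by omega)
  rcases Nat.lt_or_ge b 9799680 with g8 | g8
  · exact chkURangeF_spec C relF_hyp 1237356000 tc_eq 9797632 2048 ck_4784 b (by omega) (by omega)
  rcases Nat.lt_or_ge b 9801728 with g9 | g9
  · exact chkURangeF_spec C relF_hyp 1237356000 tc_eq 9799680 2048 ck_4785 b (by omega) (by omega)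
  rcases Nat.lt_or_ge b 9803776 with g10 | g10
  · exact chkURangeF_spec C relF_hyp 1237356000 tc_eq 9801728 2048 ck_4786 b (by omega) (by omega)
  rcases Nat.lt_or_ge b 9805824 with g11 | g11
  · exact chkURangeF_spec C relF_hyp 1237356000 tc_eq 9803776 2048 ck_4787 b (by omega) (by omega)
  rcases Nat.lt_or_ge b 9807872 with g12 | g12
  · exact chkURangeF_spec C relF_hyp 1237356000 tc_eq 9805824 2048 ck_4788 b (by omega) (by omega)
  rcases Nat.lt_or_ge b 9809920 with g13 | g13
  · exact chkURangeF_spec C relF_hyp 1237356000 tc_eq 9807872 2048 ck_4789 b (by omega) (by omega)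
  rcases Nat.lt_or_ge b 9811968 with g14 | g14
  · exact chkURangeF_spec C relF_hyp 1237356000 tc_eq 9809920 2048 ck_4790 b (by omega) (by omega)
  rcases Nat.lt_or_ge b 9814016 with g15 | g15
  · exact chkURangeF_spec C relF_hyp 1237356000 tc_eq 9811968 2048 ck_4791 b (by omega) (by omega)
  rcases Nat.lt_or_ge b 9816064 with g16 | g16
  · exact chkURangeF_spec C relF_hyp 1237356000 tc_eq 9814016 2048 ck_4792 b (by omega) (by omega)
  rcases Nat.lt_or_ge b 9818112 with g17 | g17
  · exact chkURangeF_spec C relF_hyp 1237356000 tc_eq 9816064 2048 ck_4793 b (by omega) (by omega)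
  rcases Nat.lt_or_ge b 9820160 with g18 | g18
  · exact chkURangeF_spec C relF_hyp 1237356000 tc_eq 9818112 2048 ck_4794 b (by omega) (by omega)
  rcases Nat.lt_or_ge b 9822208 with g19 | g19
  · exact chkURangeF_spec C relF_hyp 1237356000 tc_eq 9820160 2048 ck_4795 b (by omega) (by omega)
  rcases Nat.lt_or_ge b 9824256 with g20 | g20
  · exact chkURangeF_spec C relF_hyp 1237356000 tc_eq 9822208 2048 ck_4796 b (by omega) (by omega)
  rcases Nat.lt_or_ge b 9826304 with g21 | g21
  · exact chkURangeF_spec C relF_hyp 1237356000 tc_eq 9824256 2048 ck_4797 b (by omega) (by omega)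
  rcases Nat.lt_or_ge b 9828352 with g22 | g22
  · exact chkURangeF_spec C relF_hyp 1237356000 tc_eq 9826304 2048 ck_4798 b (by omega) (by omega)
  exact chkURangeF_spec C relF_hyp 1237356000 tc_eq 9828352 2048 ck_4799 b (by omega) (by omega)
end Cfsg.Agent.Lib.Helper2.HNMult.P3
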