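import Cfsg.Agent.Lib.Helper2.HNMult.P3.Cert
set_option autoImplicit false
set_option maxRecDepth 1000000
set_option Elab.async false
namespace Cfsg.Agent.Lib.Helper2.HNMult.P3
open Cfsg.Agent.Lib.Helper4.Sparse Cfsg.Agent.Lib.Helper2.SparseF
theorem ck_4896 : chkURangeF D C relF 796 1237356000 10027008 2048 = true := by decide +kernel
theorem ck_4897 : chkURangeF D C relF 796 1237356000 10029056 2048 = true := by decide +kernel
theorem ck_4898 : chkURangeF D C relF 796 1237356000 10031104 2048 = true := by decide +kernel
theorem ck_4899 : chkURangeF D C relF 796 1237356000 10033152 2048 = true := by decide +kernel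
theorem ck_4900 : chkURangeF D C relF 796 1237356000 10035200 2048 = true := by decide +kernel
theorem ck_4901 : chkURangeF D C relF 796 1237356000 10037248 2048 = true := by decide +kernel
theorem ck_4902 : chkURangeF D C relF 796 1237356000 10039296 2048 = true := by decide +kernel
theorem ck_4903 : chkURangeF D C relF 796 1237356000 10041344 2048 = true := by decide +kernel
theorem ck_4904 : chkURangeF D C relF 796 1237356000 10043392 2048 = true := by decide +kernel
theorem ck_4905 : chkURangeF D C relF 796 1237356000 10045440 2048 = true := by decide +kernel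
theorem ck_4906 : chkURangeF D C relF 796 1237356000 10047488 2048 = true := by decide +kernel
theorem ck_4907 : chkURangeF D C relF 796 1237356000 10049536 2048 = true := by decide +kernel
theorem ck_4908 : chkURangeF D C relF 796 1237356000 10051584 2048 = true := by decide +kernel
theorem ck_4909 : chkURangeF D C relF 796 1237356000 10053632 2048 = true := by decide +kernel
theorem ck_4910 : chkURangeF D C relF 796 1237356000 10055680 2048 = true := by decide +kernel
theorem ck_4911 : chkURangeF D C relF 796 1237356000 10057728 2048 = true := by decide +kernel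
theorem ck_4912 : chkURangeF D C relF 796 1237356000 10059776 2048 = true := by decide +kernel
theorem ck_4913 : chkURangeF D C relF 796 1237356000 10061824 2048 = true := by decide +kernel
theorem ck_4914 : chkURangeF D C relF 796 1237356000 10063872 2048 = true := by decide +kernel
theorem ck_4915 : chkURangeF D C relF 796 1237356000 10065920 2048 = true := by decide +kernel
theorem ck_4916 : chkURangeF D C relF 796 1237356000 10067968 2048 = true := by decide +kernel
theorem ck_4917 : chkURangeF D C relF 796 1237356000 10070016 2048 = true := by decide +kernel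
theorem ck_4918 : chkURangeF D C relF 796 1237356000 10072064 2048 = true := by decide +kernel
theorem ck_4919 : chkURangeF D C relF 796 1237356000 10074112 2048 = true := by decide +kernel
theorem chkU_204 (b : ℕ) (h1 : 10027008 ≤ b) (h2 : b < 10076160) : chkU D C b = true := by
  rcases Nat.lt_or_ge b 10029056 with g0 | g0
  · exact chkURangeF_spec C relF_hyp 1237356000 tc_eq 10027008 2048 ck_4896 b (by omega) (by omega)
  rcases Nat.lt_or_ge b 10031104 with g1 | g1
  · exact chkURangeF_spec C relF_hyp 1237356000 tc_eq 10029056 2048 ck_4897 b (by omega) (by omega)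
  rcases Nat.lt_or_ge b 10033152 with g2 | g2
  · exact chkURangeF_spec C relF_hyp 1237356000 tc_eq 10031104 2048 ck_4898 b (by omega) (by omega)
  rcases Nat.lt_or_ge b 10035200 with g3 | g3
  · exact chkURangeF_spec C relF_hyp 1237356000 tc_eq 10033152 2048 ck_4899 b (by omega) (by omega)
  rcases Nat.lt_or_ge b 10037248 with g4 | g4
  · exact chkURangeF_spec C relF_hyp 1237356000 tc_eq 10035200 2048 ck_4900 b (by omega) (by omega)
  rcases Nat.lt_or_ge b 10039296 with g5 | g5
  · exact chkURangeF_spec C relF_hyp 1237356000 tc_eq 10037248 2048 ck_4901 b (by omega) (by omega)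
  rcases Nat.lt_or_ge b 10041344 with g6 | g6
  · exact chkURangeF_spec C relF_hyp 1237356000 tc_eq 10039296 2048 ck_4902 b (by omega) (by omega)
  rcases Nat.lt_or_ge b 10043392 with g7 | g7
  · exact chkURangeF_spec C relF_hyp 1237356000 tc_eq 10041344 2048 ck_4903 b (by omega) (by omega)
  rcases Nat.lt_or_ge b 10045440 with g8 | g8
  · exact chkURangeF_spec C relF_hyp 1237356000 tc_eq 10043392 2048 ck_4904 b (by omega) (by omega)
  rcases Nat.lt_or_ge b 10047488 with g9 | g9
  · exact chkURangeF_spec C relF_hyp 1237356000 tc_eq 10045440 2048 ck_4905 b (by omega) (by omega)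
  rcases Nat.lt_or_ge b 10049536 with g10 | g10
  · exact chkURangeF_spec C relF_hyp 1237356000 tc_eq 10047488 2048 ck_4906 b (by omega) (by omega)
  rcases Nat.lt_or_ge b 10051584 with g11 | g11
  · exact chkURangeF_spec C relF_hyp 1237356000 tc_eq 10049536 2048 ck_4907 b (by omega) (by omega)
  rcases Nat.lt_or_ge b 10053632 with g12 | g12
  · exact chkURangeF_spec C relF_hyp 1237356000 tc_eq 10051584 2048 ck_4908 b (by omega) (by omega)
  rcases Nat.lt_or_ge b 10055680 with g13 | g13
  · exact chkURangeF_spec C relF_hyp 1237356000 tc_eq 10053632 2048 ck_4909 b (by omega) (by omega)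
  rcases Nat.lt_or_ge b 10057728 with g14 | g14
  · exact chkURangeF_spec C relF_hyp 1237356000 tc_eq 10055680 2048 ck_4910 b (by omega) (by omega)
  rcases Nat.lt_or_ge b 10059776 with g15 | g15
  · exact chkURangeF_spec C relF_hyp 1237356000 tc_eq 10057728 2048 ck_4911 b (by omega) (by omega)
  rcases Nat.lt_or_ge b 10061824 with g16 | g16
  · exact chkURangeF_spec C relF_hyp 1237356000 tc_eq 10059776 2048 ck_4912 b (by omega) (by omega)
  rcases Nat.lt_or_ge b 10063872 with g17 | g17
  · exact chkURangeF_spec C relF_hyp 1237356000 tc_eq 10061824 2048 ck_4913 b (by omega) (by omega)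
  rcases Nat.lt_or_ge b 10065920 with g18 | g18
  · exact chkURangeF_spec C relF_hyp 1237356000 tc_eq 10063872 2048 ck_4914 b (by omega) (by omega)
  rcases Nat.lt_or_ge b 10067968 with g19 | g19
  · exact chkURangeF_spec C relF_hyp 1237356000 tc_eq 10065920 2048 ck_4915 b (by omega) (by omega)
  rcases Nat.lt_or_ge b 10070016 with g20 | g20
  · exact chkURangeF_spec C relF_hyp 1237356000 tc_eq 10067968 2048 ck_4916 b (by omega) (by omega)
  rcases Nat.lt_or_ge b 10072064 with g21 | g21
  · exact chkURangeF_spec C relF_hyp 1237356000 tc_eq 10070016 2048 ck_4917 b (by omega) (by omega)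
  rcases Nat.lt_or_ge b 10074112 with g22 | g22
  · exact chkURangeF_spec C relF_hyp 1237356000 tc_eq 10072064 2048 ck_4918 b (by omega) (by omega)
  exact chkURangeF_spec C relF_hyp 1237356000 tc_eq 10074112 2048 ck_4919 b (by omega) (by omega)
end Cfsg.Agent.Lib.Helper2.HNMult.P3
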