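import Cfsg.Agent.Lib.Helper2.HNMult.P3.Cert
set_option autoImplicit false
set_option maxRecDepth 1000000
set_option Elab.async false
namespace Cfsg.Agent.Lib.Helper2.HNMult.P3
open Cfsg.Agent.Lib.Helper4.Sparse Cfsg.Agent.Lib.Helper2.SparseF
theorem ck_5016 : chkURangeF D C relF 796 1237356000 10272768 2048 = true := by decide +kernel
theorem ck_5017 : chkURangeF D C relF 796 1237356000 10274816 2048 = true := by decide +kernel
theorem ck_5018 : chkURangeF D C relF 796 1237356000 10276864 2048 = true := by decide +kernel
theorem ck_5019 : chkURangeF D C relF 796 1237356000 10278912 2048 = true := by decide +kernel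
theorem ck_5020 : chkURangeF D C relF 796 1237356000 10280960 2048 = true := by decide +kernel
theorem ck_5021 : chkURangeF D C relF 796 1237356000 10283008 2048 = true := by decide +kernel
theorem ck_5022 : chkURangeF D C relF 796 1237356000 10285056 2048 = true := by decide +kernel
theorem ck_5023 : chkURangeF D C relF 796 1237356000 10287104 2048 = true := by decide +kernel
theorem ck_5024 : chkURangeF D C relF 796 1237356000 10289152 2048 = true := by decide +kernel
theorem ck_5025 : chkURangeF D C relF 796 1237356000 10291200 2048 = true := by decide +kernel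
theorem ck_5026 : chkURangeF D C relF 796 1237356000 10293248 2048 = true := by decide +kernel
theorem ck_5027 : chkURangeF D C relF 796 1237356000 10295296 2048 = true := by decide +kernel
theorem ck_5028 : chkURangeF D C relF 796 1237356000 10297344 2048 = true := by decide +kernel
theorem ck_5029 : chkURangeF D C relF 796 1237356000 10299392 2048 = true := by decide +kernel
theorem ck_5030 : chkURangeF D C relF 796 1237356000 10301440 2048 = true := by decide +kernel
theorem ck_5031 : chkURangeF D C relF 796 1237356000 10303488 2048 = true := by decide +kernel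
theorem ck_5032 : chkURangeF D C relF 796 1237356000 10305536 2048 = true := by decide +kernel
theorem ck_5033 : chkURangeF D C relF 796 1237356000 10307584 2048 = true := by decide +kernel
theorem ck_5034 : chkURangeF D C relF 796 1237356000 10309632 2048 = true := by decide +kernel
theorem ck_5035 : chkURangeF D C relF 796 1237356000 10311680 2048 = true := by decide +kernel
theorem ck_5036 : chkURangeF D C relF 796 1237356000 10313728 2048 = true := by decide +kernel
theorem ck_5037 : chkURangeF D C relF 796 1237356000 10315776 2048 = true := by decide +kernel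
theorem ck_5038 : chkURangeF D C relF 796 1237356000 10317824 2048 = true := by decide +kernel
theorem ck_5039 : chkURangeF D C relF 796 1237356000 10319872 2048 = true := by decide +kernel
theorem chkU_209 (b : ℕ) (h1 : 10272768 ≤ b) (h2 : b < 10321920) : chkU D C b = true := by
  rcases Nat.lt_or_ge b 10274816 with g0 | g0
  · exact chkURangeF_spec C relF_hyp 1237356000 tc_eq 10272768 2048 ck_5016 b (by omega) (by omega)
  rcases Nat.lt_or_ge b 10276864 with g1 | g1
  · exact chkURangeF_spec C relF_hyp 1237356000 tc_eq 10274816 2048 ck_5017 b (by omega) (by omega)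
  rcases Nat.lt_or_ge b 10278912 with g2 | g2
  · exact chkURangeF_spec C relF_hyp 1237356000 tc_eq 10276864 2048 ck_5018 b (by omega) (by omega)
  rcases Nat.lt_or_ge b 10280960 with g3 | g3
  · exact chkURangeF_spec C relF_hyp 1237356000 tc_eq 10278912 2048 ck_5019 b (by omega) (by omega)
  rcases Nat.lt_or_ge b 10283008 with g4 | g4
  · exact chkURangeF_spec C relF_hyp 1237356000 tc_eq 10280960 2048 ck_5020 b (by omega) (by omega)
  rcases Nat.lt_or_ge b 10285056 with g5 | g5
  · exact chkURangeF_spec C relF_hyp 1237356000 tc_eq 10283008 2048 ck_5021 b (by omega) (by omega)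
  rcases Nat.lt_or_ge b 10287104 with g6 | g6
  · exact chkURangeF_spec C relF_hyp 1237356000 tc_eq 10285056 2048 ck_5022 b (by omega) (by omega)
  rcases Nat.lt_or_ge b 10289152 with g7 | g7
  · exact chkURangeF_spec C relF_hyp 1237356000 tc_eq 10287104 2048 ck_5023 b (by omega) (by omega)
  rcases Nat.lt_or_ge b 10291200 with g8 | g8
  · exact chkURangeF_spec C relF_hyp 1237356000 tc_eq 10289152 2048 ck_5024 b (by omega) (by omega)
  rcases Nat.lt_or_ge b 10293248 with g9 | g9
  · exact chkURangeF_spec C relF_hyp 1237356000 tc_eq 10291200 2048 ck_5025 b (by omega) (by omega)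
  rcases Nat.lt_or_ge b 10295296 with g10 | g10
  · exact chkURangeF_spec C relF_hyp 1237356000 tc_eq 10293248 2048 ck_5026 b (by omega) (by omega)
  rcases Nat.lt_or_ge b 10297344 with g11 | g11
  · exact chkURangeF_spec C relF_hyp 1237356000 tc_eq 10295296 2048 ck_5027 b (by omega) (by omega)
  rcases Nat.lt_or_ge b 10299392 with g12 | g12
  · exact chkURangeF_spec C relF_hyp 1237356000 tc_eq 10297344 2048 ck_5028 b (by omega) (by omega)
  rcases Nat.lt_or_ge b 10301440 with g13 | g13
  · exact chkURangeF_spec C relF_hyp 1237356000 tc_eq 10299392 2048 ck_5029 b (by omega) (by omega)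
  rcases Nat.lt_or_ge b 10303488 with g14 | g14
  · exact chkURangeF_spec C relF_hyp 1237356000 tc_eq 10301440 2048 ck_5030 b (by omega) (by omega)
  rcases Nat.lt_or_ge b 10305536 with g15 | g15
  · exact chkURangeF_spec C relF_hyp 1237356000 tc_eq 10303488 2048 ck_5031 b (by omega) (by omega)
  rcases Nat.lt_or_ge b 10307584 with g16 | g16
  · exact chkURangeF_spec C relF_hyp 1237356000 tc_eq 10305536 2048 ck_5032 b (by omega) (by omega)
  rcases Nat.lt_or_ge b 10309632 with g17 | g17
  · exact chkURangeF_spec C relF_hyp 1237356000 tc_eq 10307584 2048 ck_5033 b (by omega) (by omega)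
  rcases Nat.lt_or_ge b 10311680 with g18 | g18
  · exact chkURangeF_spec C relF_hyp 1237356000 tc_eq 10309632 2048 ck_5034 b (by omega) (by omega)
  rcases Nat.lt_or_ge b 10313728 with g19 | g19
  · exact chkURangeF_spec C relF_hyp 1237356000 tc_eq 10311680 2048 ck_5035 b (by omega) (by omega)
  rcases Nat.lt_or_ge b 10315776 with g20 | g20
  · exact chkURangeF_spec C relF_hyp 1237356000 tc_eq 10313728 2048 ck_5036 b (by omega) (by omega)
  rcases Nat.lt_or_ge b 10317824 with g21 | g21
  · exact chkURangeF_spec C relF_hyp 1237356000 tc_eq 10315776 2048 ck_5037 b (by omega) (by omega)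
  rcases Nat.lt_or_ge b 10319872 with g22 | g22
  · exact chkURangeF_spec C relF_hyp 1237356000 tc_eq 10317824 2048 ck_5038 b (by omega) (by omega)
  exact chkURangeF_spec C relF_hyp 1237356000 tc_eq 10319872 2048 ck_5039 b (by omega) (by omega)
end Cfsg.Agent.Lib.Helper2.HNMult.P3
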