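import Cfsg.Agent.Lib.Helper2.HNMult.P3.Cert
set_option autoImplicit false
set_option maxRecDepth 1000000
set_option Elab.async false
namespace Cfsg.Agent.Lib.Helper2.HNMult.P3
open Cfsg.Agent.Lib.Helper4.Sparse Cfsg.Agent.Lib.Helper2.SparseF
theorem ck_504 : chkURangeF D C relF 796 1237356000 1032192 2048 = true := by decide +kernel
theorem ck_505 : chkURangeF D C relF 796 1237356000 1034240 2048 = true := by decide +kernel
theorem ck_506 : chkURangeF D C relF 796 1237356000 1036288 2048 = true := by decide +kernel
theorem ck_507 : chkURangeF D C relF 796 1237356000 1038336 2048 = true := by decide +kernel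
theorem ck_508 : chkURangeF D C relF 796 1237356000 1040384 2048 = true := by decide +kernel
theorem ck_509 : chkURangeF D C relF 796 1237356000 1042432 2048 = true := by decide +kernel
theorem ck_510 : chkURangeF D C relF 796 1237356000 1044480 2048 = true := by decide +kernel
theorem ck_511 : chkURangeF D C relF 796 1237356000 1046528 2048 = true := by decide +kernel
theorem ck_512 : chkURangeF D C relF 796 1237356000 1048576 2048 = true := by decide +kernel
theorem ck_513 : chkURangeF D C relF 796 1237356000 1050624 2048 = true := by decide +kernel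
theorem ck_514 : chkURangeF D C relF 796 1237356000 1052672 2048 = true := by decide +kernel
theorem ck_515 : chkURangeF D C relF 796 1237356000 1054720 2048 = true := by decide +kernel
theorem ck_516 : chkURangeF D C relF 796 1237356000 1056768 2048 = true := by decide +kernel
theorem ck_517 : chkURangeF D C relF 796 1237356000 1058816 2048 = true := by decide +kernel
theorem ck_518 : chkURangeF D C relF 796 1237356000 1060864 2048 = true := by decide +kernel
theorem ck_519 : chkURangeF D C relF 796 1237356000 1062912 2048 = true := by decide +kernel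
theorem ck_520 : chkURangeF D C relF 796 1237356000 1064960 2048 = true := by decide +kernel
theorem ck_521 : chkURangeF D C relF 796 1237356000 1067008 2048 = true := by decide +kernel
theorem ck_522 : chkURangeF D C relF 796 1237356000 1069056 2048 = true := by decide +kernel
theorem ck_523 : chkURangeF D C relF 796 1237356000 1071104 2048 = true := by decide +kernel
theorem ck_524 : chkURangeF D C relF 796 1237356000 1073152 2048 = true := by decide +kernel
theorem ck_525 : chkURangeF D C relF 796 1237356000 1075200 2048 = true := by decide +kernel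
theorem ck_526 : chkURangeF D C relF 796 1237356000 1077248 2048 = true := by decide +kernel
theorem ck_527 : chkURangeF D C relF 796 1237356000 1079296 2048 = true := by decide +kernel
theorem chkU_21 (b : ℕ) (h1 : 1032192 ≤ b) (h2 : b < 1081344) : chkU D C b = true := by
  rcases Nat.lt_or_ge b 1034240 with g0 | g0
  · exact chkURangeF_spec C relF_hyp 1237356000 tc_eq 1032192 2048 ck_504 b (by omega) (by omega)
  rcases Nat.lt_or_ge b 1036288 with g1 | g1
  · exact chkURangeF_spec C relF_hyp 1237356000 tc_eq 1034240 2048 ck_505 b (by omega) (by omega)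
  rcases Nat.lt_or_ge b 1038336 with g2 | g2
  · exact chkURangeF_spec C relF_hyp 1237356000 tc_eq 1036288 2048 ck_506 b (by omega) (by omega)
  rcases Nat.lt_or_ge b 1040384 with g3 | g3
  · exact chkURangeF_spec C relF_hyp 1237356000 tc_eq 1038336 2048 ck_507 b (by omega) (by omega)
  rcases Nat.lt_or_ge b 1042432 with g4 | g4
  · exact chkURangeF_spec C relF_hyp 1237356000 tc_eq 1040384 2048 ck_508 b (by omega) (by omega)
  rcases Nat.lt_or_ge b 1044480 with g5 | g5
  · exact chkURangeF_spec C relF_hyp 1237356000 tc_eq 1042432 2048 ck_509 b (by omega) (by omega)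
  rcases Nat.lt_or_ge b 1046528 with g6 | g6
  · exact chkURangeF_spec C relF_hyp 1237356000 tc_eq 1044480 2048 ck_510 b (by omega) (by omega)
  rcases Nat.lt_or_ge b 1048576 with g7 | g7
  · exact chkURangeF_spec C relF_hyp 1237356000 tc_eq 1046528 2048 ck_511 b (by omega) (by omega)
  rcases Nat.lt_or_ge b 1050624 with g8 | g8
  · exact chkURangeF_spec C relF_hyp 1237356000 tc_eq 1048576 2048 ck_512 b (by omega) (by omega)
  rcases Nat.lt_or_ge b 1052672 with g9 | g9
  · exact chkURangeF_spec C relF_hyp 1237356000 tc_eq 1050624 2048 ck_513 b (by omega) (by omega)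
  rcases Nat.lt_or_ge b 1054720 with g10 | g10
  · exact chkURangeF_spec C relF_hyp 1237356000 tc_eq 1052672 2048 ck_514 b (by omega) (by omega)
  rcases Nat.lt_or_ge b 1056768 with g11 | g11
  · exact chkURangeF_spec C relF_hyp 1237356000 tc_eq 1054720 2048 ck_515 b (by omega) (by omega)
  rcases Nat.lt_or_ge b 1058816 with g12 | g12
  · exact chkURangeF_spec C relF_hyp 1237356000 tc_eq 1056768 2048 ck_516 b (by omega) (by omega)
  rcases Nat.lt_or_ge b 1060864 with g13 | g13
  · exact chkURangeF_spec C relF_hyp 1237356000 tc_eq 1058816 2048 ck_517 b (by omega) (by omega)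
  rcases Nat.lt_or_ge b 1062912 with g14 | g14
  · exact chkURangeF_spec C relF_hyp 1237356000 tc_eq 1060864 2048 ck_518 b (by omega) (by omega)
  rcases Nat.lt_or_ge b 1064960 with g15 | g15
  · exact chkURangeF_spec C relF_hyp 1237356000 tc_eq 1062912 2048 ck_519 b (by omega) (by omega)
  rcases Nat.lt_or_ge b 1067008 with g16 | g16
  · exact chkURangeF_spec C relF_hyp 1237356000 tc_eq 1064960 2048 ck_520 b (by omega) (by omega)
  rcases Nat.lt_or_ge b 1069056 with g17 | g17
  · exact chkURangeF_spec C relF_hyp 1237356000 tc_eq 1067008 2048 ck_521 b (by omega) (by omega)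
  rcases Nat.lt_or_ge b 1071104 with g18 | g18
  · exact chkURangeF_spec C relF_hyp 1237356000 tc_eq 1069056 2048 ck_522 b (by omega) (by omega)
  rcases Nat.lt_or_ge b 1073152 with g19 | g19
  · exact chkURangeF_spec C relF_hyp 1237356000 tc_eq 1071104 2048 ck_523 b (by omega) (by omega)
  rcases Nat.lt_or_ge b 1075200 with g20 | g20
  · exact chkURangeF_spec C relF_hyp 1237356000 tc_eq 1073152 2048 ck_524 b (by omega) (by omega)
  rcases Nat.lt_or_ge b 1077248 with g21 | g21
  · exact chkURangeF_spec C relF_hyp 1237356000 tc_eq 1075200 2048 ck_525 b (by omega) (by omega)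
  rcases Nat.lt_or_ge b 1079296 with g22 | g22
  · exact chkURangeF_spec C relF_hyp 1237356000 tc_eq 1077248 2048 ck_526 b (by omega) (by omega)
  exact chkURangeF_spec C relF_hyp 1237356000 tc_eq 1079296 2048 ck_527 b (by omega) (by omega)
end Cfsg.Agent.Lib.Helper2.HNMult.P3
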