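import Cfsg.Agent.Lib.Helper2.HNMult.P3.Cert
set_option autoImplicit false
set_option maxRecDepth 1000000
set_option Elab.async false
namespace Cfsg.Agent.Lib.Helper2.HNMult.P3
open Cfsg.Agent.Lib.Helper4.Sparse Cfsg.Agent.Lib.Helper2.SparseF
theorem ck_5112 : chkURangeF D C relF 796 1237356000 10469376 2048 = true := by decide +kernel
theorem ck_5113 : chkURangeF D C relF 796 1237356000 10471424 2048 = true := by decide +kernel
theorem ck_5114 : chkURangeF D C relF 796 1237356000 10473472 2048 = true := by decide +kernel
theorem ck_5115 : chkURangeF D C relF 796 1237356000 10475520 2048 = true := by decide +kernel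
theorem ck_5116 : chkURangeF D C relF 796 1237356000 10477568 2048 = true := by decide +kernel
theorem ck_5117 : chkURangeF D C relF 796 1237356000 10479616 2048 = true := by decide +kernel
theorem ck_5118 : chkURangeF D C relF 796 1237356000 10481664 2048 = true := by decide +kernel
theorem ck_5119 : chkURangeF D C relF 796 1237356000 10483712 2048 = true := by decide +kernel
theorem ck_5120 : chkURangeF D C relF 796 1237356000 10485760 2048 = true := by decide +kernel
theorem ck_5121 : chkURangeF D C relF 796 1237356000 10487808 2048 = true := by decide +kernel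
theorem ck_5122 : chkURangeF D C relF 796 1237356000 10489856 2048 = true := by decide +kernel
theorem ck_5123 : chkURangeF D C relF 796 1237356000 10491904 2048 = true := by decide +kernel
theorem ck_5124 : chkURangeF D C relF 796 1237356000 10493952 2048 = true := by decide +kernel
theorem ck_5125 : chkURangeF D C relF 796 1237356000 10496000 2048 = true := by decide +kernel
theorem ck_5126 : chkURangeF D C relF 796 1237356000 10498048 2048 = true := by decide +kernel
theorem ck_5127 : chkURangeF D C relF 796 1237356000 10500096 2048 = true := by decide +kernel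
theorem ck_5128 : chkURangeF D C relF 796 1237356000 10502144 2048 = true := by decide +kernel
theorem ck_5129 : chkURangeF D C relF 796 1237356000 10504192 2048 = true := by decide +kernel
theorem ck_5130 : chkURangeF D C relF 796 1237356000 10506240 2048 = true := by decide +kernel
theorem ck_5131 : chkURangeF D C relF 796 1237356000 10508288 2048 = true := by decide +kernel
theorem ck_5132 : chkURangeF D C relF 796 1237356000 10510336 2048 = true := by decide +kernel
theorem ck_5133 : chkURangeF D C relF 796 1237356000 10512384 2048 = true := by decide +kernel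
theorem ck_5134 : chkURangeF D C relF 796 1237356000 10514432 2048 = true := by decide +kernel
theorem ck_5135 : chkURangeF D C relF 796 1237356000 10516480 2048 = true := by decide +kernel
theorem chkU_213 (b : ℕ) (h1 : 10469376 ≤ b) (h2 : b < 10518528) : chkU D C b = true := by
  rcases Nat.lt_or_ge b 10471424 with g0 | g0
  · exact chkURangeF_spec C relF_hyp 1237356000 tc_eq 10469376 2048 ck_5112 b (by omega) (by omega)
  rcases Nat.lt_or_ge b 10473472 with g1 | g1
  · exact chkURangeF_spec C relF_hyp 1237356000 tc_eq 10471424 2048 ck_5113 b (by omega) (by omega)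
  rcases Nat.lt_or_ge b 10475520 with g2 | g2
  · exact chkURangeF_spec C relF_hyp 1237356000 tc_eq 10473472 2048 ck_5114 b (by omega) (by omega)
  rcases Nat.lt_or_ge b 10477568 with g3 | g3
  · exact chkURangeF_spec C relF_hyp 1237356000 tc_eq 10475520 2048 ck_5115 b (by omega) (by omega)
  rcases Nat.lt_or_ge b 10479616 with g4 | g4
  · exact chkURangeF_spec C relF_hyp 1237356000 tc_eq 10477568 2048 ck_5116 b (by omega) (by omega)
  rcases Nat.lt_or_ge b 10481664 with g5 | g5
  · exact chkURangeF_spec C relF_hyp 1237356000 tc_eq 10479616 2048 ck_5117 b (by omega) (by omega)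
  rcases Nat.lt_or_ge b 10483712 with g6 | g6
  · exact chkURangeF_spec C relF_hyp 1237356000 tc_eq 10481664 2048 ck_5118 b (by omega) (by omega)
  rcases Nat.lt_or_ge b 10485760 with g7 | g7
  · exact chkURangeF_spec C relF_hyp 1237356000 tc_eq 10483712 2048 ck_5119 b (by omega) (by omega)
  rcases Nat.lt_or_ge b 10487808 with g8 | g8
  · exact chkURangeF_spec C relF_hyp 1237356000 tc_eq 10485760 2048 ck_5120 b (by omega) (by omega)
  rcases Nat.lt_or_ge b 10489856 with g9 | g9
  · exact chkURangeF_spec C relF_hyp 1237356000 tc_eq 10487808 2048 ck_5121 b (by omega) (by omega)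
  rcases Nat.lt_or_ge b 10491904 with g10 | g10
  · exact chkURangeF_spec C relF_hyp 1237356000 tc_eq 10489856 2048 ck_5122 b (by omega) (by omega)
  rcases Nat.lt_or_ge b 10493952 with g11 | g11
  · exact chkURangeF_spec C relF_hyp 1237356000 tc_eq 10491904 2048 ck_5123 b (by omega) (by omega)
  rcases Nat.lt_or_ge b 10496000 with g12 | g12
  · exact chkURangeF_spec C relF_hyp 1237356000 tc_eq 10493952 2048 ck_5124 b (by omega) (by omega)
  rcases Nat.lt_or_ge b 10498048 with g13 | g13
  · exact chkURangeF_spec C relF_hyp 1237356000 tc_eq 10496000 2048 ck_5125 b (by omega) (by omega)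
  rcases Nat.lt_or_ge b 10500096 with g14 | g14
  · exact chkURangeF_spec C relF_hyp 1237356000 tc_eq 10498048 2048 ck_5126 b (by omega) (by omega)
  rcases Nat.lt_or_ge b 10502144 with g15 | g15
  · exact chkURangeF_spec C relF_hyp 1237356000 tc_eq 10500096 2048 ck_5127 b (by omega) (by omega)
  rcases Nat.lt_or_ge b 10504192 with g16 | g16
  · exact chkURangeF_spec C relF_hyp 1237356000 tc_eq 10502144 2048 ck_5128 b (by omega) (by omega)
  rcases Nat.lt_or_ge b 10506240 with g17 | g17
  · exact chkURangeF_spec C relF_hyp 1237356000 tc_eq 10504192 2048 ck_5129 b (by omega) (by omega)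
  rcases Nat.lt_or_ge b 10508288 with g18 | g18
  · exact chkURangeF_spec C relF_hyp 1237356000 tc_eq 10506240 2048 ck_5130 b (by omega) (by omega)
  rcases Nat.lt_or_ge b 10510336 with g19 | g19
  · exact chkURangeF_spec C relF_hyp 1237356000 tc_eq 10508288 2048 ck_5131 b (by omega) (by omega)
  rcases Nat.lt_or_ge b 10512384 with g20 | g20
  · exact chkURangeF_spec C relF_hyp 1237356000 tc_eq 10510336 2048 ck_5132 b (by omega) (by omega)
  rcases Nat.lt_or_ge b 10514432 with g21 | g21
  · exact chkURangeF_spec C relF_hyp 1237356000 tc_eq 10512384 2048 ck_5133 b (by omega) (by omega)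
  rcases Nat.lt_or_ge b 10516480 with g22 | g22
  · exact chkURangeF_spec C relF_hyp 1237356000 tc_eq 10514432 2048 ck_5134 b (by omega) (by omega)
  exact chkURangeF_spec C relF_hyp 1237356000 tc_eq 10516480 2048 ck_5135 b (by omega) (by omega)
end Cfsg.Agent.Lib.Helper2.HNMult.P3
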