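import Cfsg.Agent.Lib.Helper2.HNMult.P3.Cert
set_option autoImplicit false
set_option maxRecDepth 1000000
set_option Elab.async false
namespace Cfsg.Agent.Lib.Helper2.HNMult.P3
open Cfsg.Agent.Lib.Helper4.Sparse Cfsg.Agent.Lib.Helper2.SparseF
theorem ck_672 : chkURangeF D C relF 796 1237356000 1376256 2048 = true := by decide +kernel
theorem ck_673 : chkURangeF D C relF 796 1237356000 1378304 2048 = true := by decide +kernel
theorem ck_674 : chkURangeF D C relF 796 1237356000 1380352 2048 = true := by decide +kernel
theorem ck_675 : chkURangeF D C relF 796 1237356000 1382400 2048 = true := by decide +kernel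
theorem ck_676 : chkURangeF D C relF 796 1237356000 1384448 2048 = true := by decide +kernel
theorem ck_677 : chkURangeF D C relF 796 1237356000 1386496 2048 = true := by decide +kernel
theorem ck_678 : chkURangeF D C relF 796 1237356000 1388544 2048 = true := by decide +kernel
theorem ck_679 : chkURangeF D C relF 796 1237356000 1390592 2048 = true := by decide +kernel
theorem ck_680 : chkURangeF D C relF 796 1237356000 1392640 2048 = true := by decide +kernel
theorem ck_681 : chkURangeF D C relF 796 1237356000 1394688 2048 = true := by decide +kernel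
theorem ck_682 : chkURangeF D C relF 796 1237356000 1396736 2048 = true := by decide +kernel
theorem ck_683 : chkURangeF D C relF 796 1237356000 1398784 2048 = true := by decide +kernel
theorem ck_684 : chkURangeF D C relF 796 1237356000 1400832 2048 = true := by decide +kernel
theorem ck_685 : chkURangeF D C relF 796 1237356000 1402880 2048 = true := by decide +kernel
theorem ck_686 : chkURangeF D C relF 796 1237356000 1404928 2048 = true := by decide +kernel
theorem ck_687 : chkURangeF D C relF 796 1237356000 1406976 2048 = true := by decide +kernel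
theorem ck_688 : chkURangeF D C relF 796 1237356000 1409024 2048 = true := by decide +kernel
theorem ck_689 : chkURangeF D C relF 796 1237356000 1411072 2048 = true := by decide +kernel
theorem ck_690 : chkURangeF D C relF 796 1237356000 1413120 2048 = true := by decide +kernel
theorem ck_691 : chkURangeF D C relF 796 1237356000 1415168 2048 = true := by decide +kernel
theorem ck_692 : chkURangeF D C relF 796 1237356000 1417216 2048 = true := by decide +kernel
theorem ck_693 : chkURangeF D C relF 796 1237356000 1419264 2048 = true := by decide +kernel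
theorem ck_694 : chkURangeF D C relF 796 1237356000 1421312 2048 = true := by decide +kernel
theorem ck_695 : chkURangeF D C relF 796 1237356000 1423360 2048 = true := by decide +kernel
theorem chkU_28 (b : ℕ) (h1 : 1376256 ≤ b) (h2 : b < 1425408) : chkU D C b = true := by
  rcases Nat.lt_or_ge b 1378304 with g0 | g0
  · exact chkURangeF_spec C relF_hyp 1237356000 tc_eq 1376256 2048 ck_672 b (by omega) (by omega)
  rcases Nat.lt_or_ge b 1380352 with g1 | g1
  · exact chkURangeF_spec C relF_hyp 1237356000 tc_eq 1378304 2048 ck_673 b (by omega) (by omega)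
  rcases Nat.lt_or_ge b 1382400 with g2 | g2
  · exact chkURangeF_spec C relF_hyp 1237356000 tc_eq 1380352 2048 ck_674 b (by omega) (by omega)
  rcases Nat.lt_or_ge b 1384448 with g3 | g3
  · exact chkURangeF_spec C relF_hyp 1237356000 tc_eq 1382400 2048 ck_675 b (by omega) (by omega)
  rcases Nat.lt_or_ge b 1386496 with g4 | g4
  · exact chkURangeF_spec C relF_hyp 1237356000 tc_eq 1384448 2048 ck_676 b (by omega) (by omega)
  rcases Nat.lt_or_ge b 1388544 with g5 | g5
  · exact chkURangeF_spec C relF_hyp 1237356000 tc_eq 1386496 2048 ck_677 b (by omega) (by omega)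
  rcases Nat.lt_or_ge b 1390592 with g6 | g6
  · exact chkURangeF_spec C relF_hyp 1237356000 tc_eq 1388544 2048 ck_678 b (by omega) (by omega)
  rcases Nat.lt_or_ge b 1392640 with g7 | g7
  · exact chkURangeF_spec C relF_hyp 1237356000 tc_eq 1390592 2048 ck_679 b (by omega) (by omega)
  rcases Nat.lt_or_ge b 1394688 with g8 | g8
  · exact chkURangeF_spec C relF_hyp 1237356000 tc_eq 1392640 2048 ck_680 b (by omega) (by omega)
  rcases Nat.lt_or_ge b 1396736 with g9 | g9
  · exact chkURangeF_spec C relF_hyp 1237356000 tc_eq 1394688 2048 ck_681 b (by omega) (by omega)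
  rcases Nat.lt_or_ge b 1398784 with g10 | g10
  · exact chkURangeF_spec C relF_hyp 1237356000 tc_eq 1396736 2048 ck_682 b (by omega) (by omega)
  rcases Nat.lt_or_ge b 1400832 with g11 | g11
  · exact chkURangeF_spec C relF_hyp 1237356000 tc_eq 1398784 2048 ck_683 b (by omega) (by omega)
  rcases Nat.lt_or_ge b 1402880 with g12 | g12
  · exact chkURangeF_spec C relF_hyp 1237356000 tc_eq 1400832 2048 ck_684 b (by omega) (by omega)
  rcases Nat.lt_or_ge b 1404928 with g13 | g13
  · exact chkURangeF_spec C relF_hyp 1237356000 tc_eq 1402880 2048 ck_685 b (by omega) (by omega)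
  rcases Nat.lt_or_ge b 1406976 with g14 | g14
  · exact chkURangeF_spec C relF_hyp 1237356000 tc_eq 1404928 2048 ck_686 b (by omega) (by omega)
  rcases Nat.lt_or_ge b 1409024 with g15 | g15
  · exact chkURangeF_spec C relF_hyp 1237356000 tc_eq 1406976 2048 ck_687 b (by omega) (by omega)
  rcases Nat.lt_or_ge b 1411072 with g16 | g16
  · exact chkURangeF_spec C relF_hyp 1237356000 tc_eq 1409024 2048 ck_688 b (by omega) (by omega)
  rcases Nat.lt_or_ge b 1413120 with g17 | g17
  · exact chkURangeF_spec C relF_hyp 1237356000 tc_eq 1411072 2048 ck_689 b (by omega) (by omega)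
  rcases Nat.lt_or_ge b 1415168 with g18 | g18
  · exact chkURangeF_spec C relF_hyp 1237356000 tc_eq 1413120 2048 ck_690 b (by omega) (by omega)
  rcases Nat.lt_or_ge b 1417216 with g19 | g19
  · exact chkURangeF_spec C relF_hyp 1237356000 tc_eq 1415168 2048 ck_691 b (by omega) (by omega)
  rcases Nat.lt_or_ge b 1419264 with g20 | g20
  · exact chkURangeF_spec C relF_hyp 1237356000 tc_eq 1417216 2048 ck_692 b (by omega) (by omega)
  rcases Nat.lt_or_ge b 1421312 with g21 | g21
  · exact chkURangeF_spec C relF_hyp 1237356000 tc_eq 1419264 2048 ck_693 b (by omega) (by omega)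
  rcases Nat.lt_or_ge b 1423360 with g22 | g22
  · exact chkURangeF_spec C relF_hyp 1237356000 tc_eq 1421312 2048 ck_694 b (by omega) (by omega)
  exact chkURangeF_spec C relF_hyp 1237356000 tc_eq 1423360 2048 ck_695 b (by omega) (by omega)
end Cfsg.Agent.Lib.Helper2.HNMult.P3
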