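import Cfsg.Agent.Lib.Helper2.HNMult.P3.Cert
set_option autoImplicit false
set_option maxRecDepth 1000000
set_option Elab.async false
namespace Cfsg.Agent.Lib.Helper2.HNMult.P3
open Cfsg.Agent.Lib.Helper4.Sparse Cfsg.Agent.Lib.Helper2.SparseF
theorem ck_792 : chkURangeF D C relF 796 1237356000 1622016 2048 = true := by decide +kernel
theorem ck_793 : chkURangeF D C relF 796 1237356000 1624064 2048 = true := by decide +kernel
theorem ck_794 : chkURangeF D C relF 796 1237356000 1626112 2048 = true := by decide +kernel
theorem ck_795 : chkURangeF D C relF 796 1237356000 1628160 2048 = true := by decide +kernel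
theorem ck_796 : chkURangeF D C relF 796 1237356000 1630208 2048 = true := by decide +kernel
theorem ck_797 : chkURangeF D C relF 796 1237356000 1632256 2048 = true := by decide +kernel
theorem ck_798 : chkURangeF D C relF 796 1237356000 1634304 2048 = true := by decide +kernel
theorem ck_799 : chkURangeF D C relF 796 1237356000 1636352 2048 = true := by decide +kernel
theorem ck_800 : chkURangeF D C relF 796 1237356000 1638400 2048 = true := by decide +kernel
theorem ck_801 : chkURangeF D C relF 796 1237356000 1640448 2048 = true := by decide +kernel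
theorem ck_802 : chkURangeF D C relF 796 1237356000 1642496 2048 = true := by decide +kernel
theorem ck_803 : chkURangeF D C relF 796 1237356000 1644544 2048 = true := by decide +kernel
theorem ck_804 : chkURangeF D C relF 796 1237356000 1646592 2048 = true := by decide +kernel
theorem ck_805 : chkURangeF D C relF 796 1237356000 1648640 2048 = true := by decide +kernel
theorem ck_806 : chkURangeF D C relF 796 1237356000 1650688 2048 = true := by decide +kernel
theorem ck_807 : chkURangeF D C relF 796 1237356000 1652736 2048 = true := by decide +kernel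
theorem ck_808 : chkURangeF D C relF 796 1237356000 1654784 2048 = true := by decide +kernel
theorem ck_809 : chkURangeF D C relF 796 1237356000 1656832 2048 = true := by decide +kernel
theorem ck_810 : chkURangeF D C relF 796 1237356000 1658880 2048 = true := by decide +kernel
theorem ck_811 : chkURangeF D C relF 796 1237356000 1660928 2048 = true := by decide +kernel
theorem ck_812 : chkURangeF D C relF 796 1237356000 1662976 2048 = true := by decide +kernel
theorem ck_813 : chkURangeF D C relF 796 1237356000 1665024 2048 = true := by decide +kernel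
theorem ck_814 : chkURangeF D C relF 796 1237356000 1667072 2048 = true := by decide +kernel
theorem ck_815 : chkURangeF D C relF 796 1237356000 1669120 2048 = true := by decide +kernel
theorem chkU_33 (b : ℕ) (h1 : 1622016 ≤ b) (h2 : b < 1671168) : chkU D C b = true := by
  rcases Nat.lt_or_ge b 1624064 with g0 | g0
  · exact chkURangeF_spec C relF_hyp 1237356000 tc_eq 1622016 2048 ck_792 b (by omega) (by omega)
  rcases Nat.lt_or_ge b 1626112 with g1 | g1
  · exact chkURangeF_spec C relF_hyp 1237356000 tc_eq 1624064 2048 ck_793 b (by omega) (by omega)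
  rcases Nat.lt_or_ge b 1628160 with g2 | g2
  · exact chkURangeF_spec C relF_hyp 1237356000 tc_eq 1626112 2048 ck_794 b (by omega) (by omega)
  rcases Nat.lt_or_ge b 1630208 with g3 | g3
  · exact chkURangeF_spec C relF_hyp 1237356000 tc_eq 1628160 2048 ck_795 b (by omega) (by omega)
  rcases Nat.lt_or_ge b 1632256 with g4 | g4
  · exact chkURangeF_spec C relF_hyp 1237356000 tc_eq 1630208 2048 ck_796 b (by omega) (by omega)
  rcases Nat.lt_or_ge b 1634304 with g5 | g5
  · exact chkURangeF_spec C relF_hyp 1237356000 tc_eq 1632256 2048 ck_797 b (by omega) (by omega)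
  rcases Nat.lt_or_ge b 1636352 with g6 | g6
  · exact chkURangeF_spec C relF_hyp 1237356000 tc_eq 1634304 2048 ck_798 b (by omega) (by omega)
  rcases Nat.lt_or_ge b 1638400 with g7 | g7
  · exact chkURangeF_spec C relF_hyp 1237356000 tc_eq 1636352 2048 ck_799 b (by omega) (by omega)
  rcases Nat.lt_or_ge b 1640448 with g8 | g8
  · exact chkURangeF_spec C relF_hyp 1237356000 tc_eq 1638400 2048 ck_800 b (by omega) (by omega)
  rcases Nat.lt_or_ge b 1642496 with g9 | g9
  · exact chkURangeF_spec C relF_hyp 1237356000 tc_eq 1640448 2048 ck_801 b (by omega) (by omega)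
  rcases Nat.lt_or_ge b 1644544 with g10 | g10
  · exact chkURangeF_spec C relF_hyp 1237356000 tc_eq 1642496 2048 ck_802 b (by omega) (by omega)
  rcases Nat.lt_or_ge b 1646592 with g11 | g11
  · exact chkURangeF_spec C relF_hyp 1237356000 tc_eq 1644544 2048 ck_803 b (by omega) (by omega)
  rcases Nat.lt_or_ge b 1648640 with g12 | g12
  · exact chkURangeF_spec C relF_hyp 1237356000 tc_eq 1646592 2048 ck_804 b (by omega) (by omega)
  rcases Nat.lt_or_ge b 1650688 with g13 | g13
  · exact chkURangeF_spec C relF_hyp 1237356000 tc_eq 1648640 2048 ck_805 b (by omega) (by omega)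
  rcases Nat.lt_or_ge b 1652736 with g14 | g14
  · exact chkURangeF_spec C relF_hyp 1237356000 tc_eq 1650688 2048 ck_806 b (by omega) (by omega)
  rcases Nat.lt_or_ge b 1654784 with g15 | g15
  · exact chkURangeF_spec C relF_hyp 1237356000 tc_eq 1652736 2048 ck_807 b (by omega) (by omega)
  rcases Nat.lt_or_ge b 1656832 with g16 | g16
  · exact chkURangeF_spec C relF_hyp 1237356000 tc_eq 1654784 2048 ck_808 b (by omega) (by omega)
  rcases Nat.lt_or_ge b 1658880 with g17 | g17
  · exact chkURangeF_spec C relF_hyp 1237356000 tc_eq 1656832 2048 ck_809 b (by omega) (by omega)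
  rcases Nat.lt_or_ge b 1660928 with g18 | g18
  · exact chkURangeF_spec C relF_hyp 1237356000 tc_eq 1658880 2048 ck_810 b (by omega) (by omega)
  rcases Nat.lt_or_ge b 1662976 with g19 | g19
  · exact chkURangeF_spec C relF_hyp 1237356000 tc_eq 1660928 2048 ck_811 b (by omega) (by omega)
  rcases Nat.lt_or_ge b 1665024 with g20 | g20
  · exact chkURangeF_spec C relF_hyp 1237356000 tc_eq 1662976 2048 ck_812 b (by omega) (by omega)
  rcases Nat.lt_or_ge b 1667072 with g21 | g21
  · exact chkURangeF_spec C relF_hyp 1237356000 tc_eq 1665024 2048 ck_813 b (by omega) (by omega)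
  rcases Nat.lt_or_ge b 1669120 with g22 | g22
  · exact chkURangeF_spec C relF_hyp 1237356000 tc_eq 1667072 2048 ck_814 b (by omega) (by omega)
  exact chkURangeF_spec C relF_hyp 1237356000 tc_eq 1669120 2048 ck_815 b (by omega) (by omega)
end Cfsg.Agent.Lib.Helper2.HNMult.P3
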