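import Cfsg.Agent.Lib.Helper2.HNMult.P3.Cert
set_option autoImplicit false
set_option maxRecDepth 1000000
set_option Elab.async false
namespace Cfsg.Agent.Lib.Helper2.HNMult.P3
open Cfsg.Agent.Lib.Helper4.Sparse Cfsg.Agent.Lib.Helper2.SparseF
theorem ck_864 : chkURangeF D C relF 796 1237356000 1769472 2048 = true := by decide +kernel
theorem ck_865 : chkURangeF D C relF 796 1237356000 1771520 2048 = true := by decide +kernel
theorem ck_866 : chkURangeF D C relF 796 1237356000 1773568 2048 = true := by decide +kernel
theorem ck_867 : chkURangeF D C relF 796 1237356000 1775616 2048 = true := by decide +kernel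
theorem ck_868 : chkURangeF D C relF 796 1237356000 1777664 2048 = true := by decide +kernel
theorem ck_869 : chkURangeF D C relF 796 1237356000 1779712 2048 = true := by decide +kernel
theorem ck_870 : chkURangeF D C relF 796 1237356000 1781760 2048 = true := by decide +kernel
theorem ck_871 : chkURangeF D C relF 796 1237356000 1783808 2048 = true := by decide +kernel
theorem ck_872 : chkURangeF D C relF 796 1237356000 1785856 2048 = true := by decide +kernel
theorem ck_873 : chkURangeF D C relF 796 1237356000 1787904 2048 = true := by decide +kernel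
theorem ck_874 : chkURangeF D C relF 796 1237356000 1789952 2048 = true := by decide +kernel
theorem ck_875 : chkURangeF D C relF 796 1237356000 1792000 2048 = true := by decide +kernel
theorem ck_876 : chkURangeF D C relF 796 1237356000 1794048 2048 = true := by decide +kernel
theorem ck_877 : chkURangeF D C relF 796 1237356000 1796096 2048 = true := by decide +kernel
theorem ck_878 : chkURangeF D C relF 796 1237356000 1798144 2048 = true := by decide +kernel
theorem ck_879 : chkURangeF D C relF 796 1237356000 1800192 2048 = true := by decide +kernel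
theorem ck_880 : chkURangeF D C relF 796 1237356000 1802240 2048 = true := by decide +kernel
theorem ck_881 : chkURangeF D C relF 796 1237356000 1804288 2048 = true := by decide +kernel
theorem ck_882 : chkURangeF D C relF 796 1237356000 1806336 2048 = true := by decide +kernel
theorem ck_883 : chkURangeF D C relF 796 1237356000 1808384 2048 = true := by decide +kernel
theorem ck_884 : chkURangeF D C relF 796 1237356000 1810432 2048 = true := by decide +kernel
theorem ck_885 : chkURangeF D C relF 796 1237356000 1812480 2048 = true := by decide +kernel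
theorem ck_886 : chkURangeF D C relF 796 1237356000 1814528 2048 = true := by decide +kernel
theorem ck_887 : chkURangeF D C relF 796 1237356000 1816576 2048 = true := by decide +kernel
theorem chkU_36 (b : ℕ) (h1 : 1769472 ≤ b) (h2 : b < 1818624) : chkU D C b = true := by
  rcases Nat.lt_or_ge b 1771520 with g0 | g0
  · exact chkURangeF_spec C relF_hyp 1237356000 tc_eq 1769472 2048 ck_864 b (by omega) (by omega)
  rcases Nat.lt_or_ge b 1773568 with g1 | g1
  · exact chkURangeF_spec C relF_hyp 1237356000 tc_eq 1771520 2048 ck_865 b (by omega) (by omega)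
  rcases Nat.lt_or_ge b 1775616 with g2 | g2
  · exact chkURangeF_spec C relF_hyp 1237356000 tc_eq 1773568 2048 ck_866 b (by omega) (by omega)
  rcases Nat.lt_or_ge b 1777664 with g3 | g3
  · exact chkURangeF_spec C relF_hyp 1237356000 tc_eq 1775616 2048 ck_867 b (by omega) (by omega)
  rcases Nat.lt_or_ge b 1779712 with g4 | g4
  · exact chkURangeF_spec C relF_hyp 1237356000 tc_eq 1777664 2048 ck_868 b (by omega) (by omega)
  rcases Nat.lt_or_ge b 1781760 with g5 | g5
  · exact chkURangeF_spec C relF_hyp 1237356000 tc_eq 1779712 2048 ck_869 b (by omega) (by omega)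
  rcases Nat.lt_or_ge b 1783808 with g6 | g6
  · exact chkURangeF_spec C relF_hyp 1237356000 tc_eq 1781760 2048 ck_870 b (by omega) (by omega)
  rcases Nat.lt_or_ge b 1785856 with g7 | g7
  · exact chkURangeF_spec C relF_hyp 1237356000 tc_eq 1783808 2048 ck_871 b (by omega) (by omega)
  rcases Nat.lt_or_ge b 1787904 with g8 | g8
  · exact chkURangeF_spec C relF_hyp 1237356000 tc_eq 1785856 2048 ck_872 b (by omega) (by omega)
  rcases Nat.lt_or_ge b 1789952 with g9 | g9
  · exact chkURangeF_spec C relF_hyp 1237356000 tc_eq 1787904 2048 ck_873 b (by omega) (by omega)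
  rcases Nat.lt_or_ge b 1792000 with g10 | g10
  · exact chkURangeF_spec C relF_hyp 1237356000 tc_eq 1789952 2048 ck_874 b (by omega) (by omega)
  rcases Nat.lt_or_ge b 1794048 with g11 | g11
  · exact chkURangeF_spec C relF_hyp 1237356000 tc_eq 1792000 2048 ck_875 b (by omega) (by omega)
  rcases Nat.lt_or_ge b 1796096 with g12 | g12
  · exact chkURangeF_spec C relF_hyp 1237356000 tc_eq 1794048 2048 ck_876 b (by omega) (by omega)
  rcases Nat.lt_or_ge b 1798144 with g13 | g13
  · exact chkURangeF_spec C relF_hyp 1237356000 tc_eq 1796096 2048 ck_877 b (by omega) (by omega)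
  rcases Nat.lt_or_ge b 1800192 with g14 | g14
  · exact chkURangeF_spec C relF_hyp 1237356000 tc_eq 1798144 2048 ck_878 b (by omega) (by omega)
  rcases Nat.lt_or_ge b 1802240 with g15 | g15
  · exact chkURangeF_spec C relF_hyp 1237356000 tc_eq 1800192 2048 ck_879 b (by omega) (by omega)
  rcases Nat.lt_or_ge b 1804288 with g16 | g16
  · exact chkURangeF_spec C relF_hyp 1237356000 tc_eq 1802240 2048 ck_880 b (by omega) (by omega)
  rcases Nat.lt_or_ge b 1806336 with g17 | g17
  · exact chkURangeF_spec C relF_hyp 1237356000 tc_eq 1804288 2048 ck_881 b (by omega) (by omega)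
  rcases Nat.lt_or_ge b 1808384 with g18 | g18
  · exact chkURangeF_spec C relF_hyp 1237356000 tc_eq 1806336 2048 ck_882 b (by omega) (by omega)
  rcases Nat.lt_or_ge b 1810432 with g19 | g19
  · exact chkURangeF_spec C relF_hyp 1237356000 tc_eq 1808384 2048 ck_883 b (by omega) (by omega)
  rcases Nat.lt_or_ge b 1812480 with g20 | g20
  · exact chkURangeF_spec C relF_hyp 1237356000 tc_eq 1810432 2048 ck_884 b (by omega) (by omega)
  rcases Nat.lt_or_ge b 1814528 with g21 | g21
  · exact chkURangeF_spec C relF_hyp 1237356000 tc_eq 1812480 2048 ck_885 b (by omega) (by omega)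
  rcases Nat.lt_or_ge b 1816576 with g22 | g22
  · exact chkURangeF_spec C relF_hyp 1237356000 tc_eq 1814528 2048 ck_886 b (by omega) (by omega)
  exact chkURangeF_spec C relF_hyp 1237356000 tc_eq 1816576 2048 ck_887 b (by omega) (by omega)
end Cfsg.Agent.Lib.Helper2.HNMult.P3
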