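import Cfsg.Agent.Lib.Helper2.HNMult.P3.Cert
set_option autoImplicit false
set_option maxRecDepth 1000000
set_option Elab.async false
namespace Cfsg.Agent.Lib.Helper2.HNMult.P3
open Cfsg.Agent.Lib.Helper4.Sparse Cfsg.Agent.Lib.Helper2.SparseF
theorem ck_888 : chkURangeF D C relF 796 1237356000 1818624 2048 = true := by decide +kernel
theorem ck_889 : chkURangeF D C relF 796 1237356000 1820672 2048 = true := by decide +kernel
theorem ck_890 : chkURangeF D C relF 796 1237356000 1822720 2048 = true := by decide +kernel
theorem ck_891 : chkURangeF D C relF 796 1237356000 1824768 2048 = true := by decide +kernel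
theorem ck_892 : chkURangeF D C relF 796 1237356000 1826816 2048 = true := by decide +kernel
theorem ck_893 : chkURangeF D C relF 796 1237356000 1828864 2048 = true := by decide +kernel
theorem ck_894 : chkURangeF D C relF 796 1237356000 1830912 2048 = true := by decide +kernel
theorem ck_895 : chkURangeF D C relF 796 1237356000 1832960 2048 = true := by decide +kernel
theorem ck_896 : chkURangeF D C relF 796 1237356000 1835008 2048 = true := by decide +kernel
theorem ck_897 : chkURangeF D C relF 796 1237356000 1837056 2048 = true := by decide +kernel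
theorem ck_898 : chkURangeF D C relF 796 1237356000 1839104 2048 = true := by decide +kernel
theorem ck_899 : chkURangeF D C relF 796 1237356000 1841152 2048 = true := by decide +kernel
theorem ck_900 : chkURangeF D C relF 796 1237356000 1843200 2048 = true := by decide +kernel
theorem ck_901 : chkURangeF D C relF 796 1237356000 1845248 2048 = true := by decide +kernel
theorem ck_902 : chkURangeF D C relF 796 1237356000 1847296 2048 = true := by decide +kernel
theorem ck_903 : chkURangeF D C relF 796 1237356000 1849344 2048 = true := by decide +kernel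
theorem ck_904 : chkURangeF D C relF 796 1237356000 1851392 2048 = true := by decide +kernel
theorem ck_905 : chkURangeF D C relF 796 1237356000 1853440 2048 = true := by decide +kernel
theorem ck_906 : chkURangeF D C relF 796 1237356000 1855488 2048 = true := by decide +kernel
theorem ck_907 : chkURangeF D C relF 796 1237356000 1857536 2048 = true := by decide +kernel
theorem ck_908 : chkURangeF D C relF 796 1237356000 1859584 2048 = true := by decide +kernel
theorem ck_909 : chkURangeF D C relF 796 1237356000 1861632 2048 = true := by decide +kernel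
theorem ck_910 : chkURangeF D C relF 796 1237356000 1863680 2048 = true := by decide +kernel
theorem ck_911 : chkURangeF D C relF 796 1237356000 1865728 2048 = true := by decide +kernel
theorem chkU_37 (b : ℕ) (h1 : 1818624 ≤ b) (h2 : b < 1867776) : chkU D C b = true := by
  rcases Nat.lt_or_ge b 1820672 with g0 | g0
  · exact chkURangeF_spec C relF_hyp 1237356000 tc_eq 1818624 2048 ck_888 b (by omega) (by omega)
  rcases Nat.lt_or_ge b 1822720 with g1 | g1
  · exact chkURangeF_spec C relF_hyp 1237356000 tc_eq 1820672 2048 ck_889 b (by omega) (by omega)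
  rcases Nat.lt_or_ge b 1824768 with g2 | g2
  · exact chkURangeF_spec C relF_hyp 1237356000 tc_eq 1822720 2048 ck_890 b (by omega) (by omega)
  rcases Nat.lt_or_ge b 1826816 with g3 | g3
  · exact chkURangeF_spec C relF_hyp 1237356000 tc_eq 1824768 2048 ck_891 b (by omega) (by omega)
  rcases Nat.lt_or_ge b 1828864 with g4 | g4
  · exact chkURangeF_spec C relF_hyp 1237356000 tc_eq 1826816 2048 ck_892 b (by omega) (by omega)
  rcases Nat.lt_or_ge b 1830912 with g5 | g5
  · exact chkURangeF_spec C relF_hyp 1237356000 tc_eq 1828864 2048 ck_893 b (by omega) (by omega)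
  rcases Nat.lt_or_ge b 1832960 with g6 | g6
  · exact chkURangeF_spec C relF_hyp 1237356000 tc_eq 1830912 2048 ck_894 b (by omega) (by omega)
  rcases Nat.lt_or_ge b 1835008 with g7 | g7
  · exact chkURangeF_spec C relF_hyp 1237356000 tc_eq 1832960 2048 ck_895 b (by omega) (by omega)
  rcases Nat.lt_or_ge b 1837056 with g8 | g8
  · exact chkURangeF_spec C relF_hyp 1237356000 tc_eq 1835008 2048 ck_896 b (by omega) (by omega)
  rcases Nat.lt_or_ge b 1839104 with g9 | g9
  · exact chkURangeF_spec C relF_hyp 1237356000 tc_eq 1837056 2048 ck_897 b (by omega) (by omega)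
  rcases Nat.lt_or_ge b 1841152 with g10 | g10
  · exact chkURangeF_spec C relF_hyp 1237356000 tc_eq 1839104 2048 ck_898 b (by omega) (by omega)
  rcases Nat.lt_or_ge b 1843200 with g11 | g11
  · exact chkURangeF_spec C relF_hyp 1237356000 tc_eq 1841152 2048 ck_899 b (by omega) (by omega)
  rcases Nat.lt_or_ge b 1845248 with g12 | g12
  · exact chkURangeF_spec C relF_hyp 1237356000 tc_eq 1843200 2048 ck_900 b (by omega) (by omega)
  rcases Nat.lt_or_ge b 1847296 with g13 | g13
  · exact chkURangeF_spec C relF_hyp 1237356000 tc_eq 1845248 2048 ck_901 b (by omega) (by omega)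
  rcases Nat.lt_or_ge b 1849344 with g14 | g14
  · exact chkURangeF_spec C relF_hyp 1237356000 tc_eq 1847296 2048 ck_902 b (by omega) (by omega)
  rcases Nat.lt_or_ge b 1851392 with g15 | g15
  · exact chkURangeF_spec C relF_hyp 1237356000 tc_eq 1849344 2048 ck_903 b (by omega) (by omega)
  rcases Nat.lt_or_ge b 1853440 with g16 | g16
  · exact chkURangeF_spec C relF_hyp 1237356000 tc_eq 1851392 2048 ck_904 b (by omega) (by omega)
  rcases Nat.lt_or_ge b 1855488 with g17 | g17
  · exact chkURangeF_spec C relF_hyp 1237356000 tc_eq 1853440 2048 ck_905 b (by omega) (by omega)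
  rcases Nat.lt_or_ge b 1857536 with g18 | g18
  · exact chkURangeF_spec C relF_hyp 1237356000 tc_eq 1855488 2048 ck_906 b (by omega) (by omega)
  rcases Nat.lt_or_ge b 1859584 with g19 | g19
  · exact chkURangeF_spec C relF_hyp 1237356000 tc_eq 1857536 2048 ck_907 b (by omega) (by omega)
  rcases Nat.lt_or_ge b 1861632 with g20 | g20
  · exact chkURangeF_spec C relF_hyp 1237356000 tc_eq 1859584 2048 ck_908 b (by omega) (by omega)
  rcases Nat.lt_or_ge b 1863680 with g21 | g21
  · exact chkURangeF_spec C relF_hyp 1237356000 tc_eq 1861632 2048 ck_909 b (by omega) (by omega)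
  rcases Nat.lt_or_ge b 1865728 with g22 | g22
  · exact chkURangeF_spec C relF_hyp 1237356000 tc_eq 1863680 2048 ck_910 b (by omega) (by omega)
  exact chkURangeF_spec C relF_hyp 1237356000 tc_eq 1865728 2048 ck_911 b (by omega) (by omega)
end Cfsg.Agent.Lib.Helper2.HNMult.P3
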