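import Cfsg.Agent.Lib.Helper2.HNMult.P3.Cert
set_option autoImplicit false
set_option maxRecDepth 1000000
set_option Elab.async false
namespace Cfsg.Agent.Lib.Helper2.HNMult.P3
open Cfsg.Agent.Lib.Helper4.Sparse Cfsg.Agent.Lib.Helper2.SparseF
theorem ck_1032 : chkURangeF D C relF 796 1237356000 2113536 2048 = true := by decide +kernel
theorem ck_1033 : chkURangeF D C relF 796 1237356000 2115584 2048 = true := by decide +kernel
theorem ck_1034 : chkURangeF D C relF 796 1237356000 2117632 2048 = true := by decide +kernel
theorem ck_1035 : chkURangeF D C relF 796 1237356000 2119680 2048 = true := by decide +kernel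
theorem ck_1036 : chkURangeF D C relF 796 1237356000 2121728 2048 = true := by decide +kernel
theorem ck_1037 : chkURangeF D C relF 796 1237356000 2123776 2048 = true := by decide +kernel
theorem ck_1038 : chkURangeF D C relF 796 1237356000 2125824 2048 = true := by decide +kernel
theorem ck_1039 : chkURangeF D C relF 796 1237356000 2127872 2048 = true := by decide +kernel
theorem ck_1040 : chkURangeF D C relF 796 1237356000 2129920 2048 = true := by decide +kernel
theorem ck_1041 : chkURangeF D C relF 796 1237356000 2131968 2048 = true := by decide +kernel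
theorem ck_1042 : chkURangeF D C relF 796 1237356000 2134016 2048 = true := by decide +kernel
theorem ck_1043 : chkURangeF D C relF 796 1237356000 2136064 2048 = true := by decide +kernel
theorem ck_1044 : chkURangeF D C relF 796 1237356000 2138112 2048 = true := by decide +kernel
theorem ck_1045 : chkURangeF D C relF 796 1237356000 2140160 2048 = true := by decide +kernel
theorem ck_1046 : chkURangeF D C relF 796 1237356000 2142208 2048 = true := by decide +kernel
theorem ck_1047 : chkURangeF D C relF 796 1237356000 2144256 2048 = true := by decide +kernel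
theorem ck_1048 : chkURangeF D C relF 796 1237356000 2146304 2048 = true := by decide +kernel
theorem ck_1049 : chkURangeF D C relF 796 1237356000 2148352 2048 = true := by decide +kernel
theorem ck_1050 : chkURangeF D C relF 796 1237356000 2150400 2048 = true := by decide +kernel
theorem ck_1051 : chkURangeF D C relF 796 1237356000 2152448 2048 = true := by decide +kernel
theorem ck_1052 : chkURangeF D C relF 796 1237356000 2154496 2048 = true := by decide +kernel
theorem ck_1053 : chkURangeF D C relF 796 1237356000 2156544 2048 = true := by decide +kernel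
theorem ck_1054 : chkURangeF D C relF 796 1237356000 2158592 2048 = true := by decide +kernel
theorem ck_1055 : chkURangeF D C relF 796 1237356000 2160640 2048 = true := by decide +kernel
theorem chkU_43 (b : ℕ) (h1 : 2113536 ≤ b) (h2 : b < 2162688) : chkU D C b = true := by
  rcases Nat.lt_or_ge b 2115584 with g0 | g0
  · exact chkURangeF_spec C relF_hyp 1237356000 tc_eq 2113536 2048 ck_1032 b (by omega) (by omega)
  rcases Nat.lt_or_ge b 2117632 with g1 | g1
  · exact chkURangeF_spec C relF_hyp 1237356000 tc_eq 2115584 2048 ck_1033 b (by omega) (by omega)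
  rcases Nat.lt_or_ge b 2119680 with g2 | g2
  · exact chkURangeF_spec C relF_hyp 1237356000 tc_eq 2117632 2048 ck_1034 b (by omega) (by omega)
  rcases Nat.lt_or_ge b 2121728 with g3 | g3
  · exact chkURangeF_spec C relF_hyp 1237356000 tc_eq 2119680 2048 ck_1035 b (by omega) (by omega)
  rcases Nat.lt_or_ge b 2123776 with g4 | g4
  · exact chkURangeF_spec C relF_hyp 1237356000 tc_eq 2121728 2048 ck_1036 b (by omega) (by omega)
  rcases Nat.lt_or_ge b 2125824 with g5 | g5
  · exact chkURangeF_spec C relF_hyp 1237356000 tc_eq 2123776 2048 ck_1037 b (by omega) (by omega)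
  rcases Nat.lt_or_ge b 2127872 with g6 | g6
  · exact chkURangeF_spec C relF_hyp 1237356000 tc_eq 2125824 2048 ck_1038 b (by omega) (by omega)
  rcases Nat.lt_or_ge b 2129920 with g7 | g7
  · exact chkURangeF_spec C relF_hyp 1237356000 tc_eq 2127872 2048 ck_1039 b (by omega) (by omega)
  rcases Nat.lt_or_ge b 2131968 with g8 | g8
  · exact chkURangeF_spec C relF_hyp 1237356000 tc_eq 2129920 2048 ck_1040 b (by omega) (by omega)
  rcases Nat.lt_or_ge b 2134016 with g9 | g9
  · exact chkURangeF_spec C relF_hyp 1237356000 tc_eq 2131968 2048 ck_1041 b (by omega) (by omega)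
  rcases Nat.lt_or_ge b 2136064 with g10 | g10
  · exact chkURangeF_spec C relF_hyp 1237356000 tc_eq 2134016 2048 ck_1042 b (by omega) (by omega)
  rcases Nat.lt_or_ge b 2138112 with g11 | g11
  · exact chkURangeF_spec C relF_hyp 1237356000 tc_eq 2136064 2048 ck_1043 b (by omega) (by omega)
  rcases Nat.lt_or_ge b 2140160 with g12 | g12
  · exact chkURangeF_spec C relF_hyp 1237356000 tc_eq 2138112 2048 ck_1044 b (by omega) (by omega)
  rcases Nat.lt_or_ge b 2142208 with g13 | g13
  · exact chkURangeF_spec C relF_hyp 1237356000 tc_eq 2140160 2048 ck_1045 b (by omega) (by omega)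
  rcases Nat.lt_or_ge b 2144256 with g14 | g14
  · exact chkURangeF_spec C relF_hyp 1237356000 tc_eq 2142208 2048 ck_1046 b (by omega) (by omega)
  rcases Nat.lt_or_ge b 2146304 with g15 | g15
  · exact chkURangeF_spec C relF_hyp 1237356000 tc_eq 2144256 2048 ck_1047 b (by omega) (by omega)
  rcases Nat.lt_or_ge b 2148352 with g16 | g16
  · exact chkURangeF_spec C relF_hyp 1237356000 tc_eq 2146304 2048 ck_1048 b (by omega) (by omega)
  rcases Nat.lt_or_ge b 2150400 with g17 | g17
  · exact chkURangeF_spec C relF_hyp 1237356000 tc_eq 2148352 2048 ck_1049 b (by omega) (by omega)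
  rcases Nat.lt_or_ge b 2152448 with g18 | g18
  · exact chkURangeF_spec C relF_hyp 1237356000 tc_eq 2150400 2048 ck_1050 b (by omega) (by omega)
  rcases Nat.lt_or_ge b 2154496 with g19 | g19
  · exact chkURangeF_spec C relF_hyp 1237356000 tc_eq 2152448 2048 ck_1051 b (by omega) (by omega)
  rcases Nat.lt_or_ge b 2156544 with g20 | g20
  · exact chkURangeF_spec C relF_hyp 1237356000 tc_eq 2154496 2048 ck_1052 b (by omega) (by omega)
  rcases Nat.lt_or_ge b 2158592 with g21 | g21
  · exact chkURangeF_spec C relF_hyp 1237356000 tc_eq 2156544 2048 ck_1053 b (by omega) (by omega)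
  rcases Nat.lt_or_ge b 2160640 with g22 | g22
  · exact chkURangeF_spec C relF_hyp 1237356000 tc_eq 2158592 2048 ck_1054 b (by omega) (by omega)
  exact chkURangeF_spec C relF_hyp 1237356000 tc_eq 2160640 2048 ck_1055 b (by omega) (by omega)
end Cfsg.Agent.Lib.Helper2.HNMult.P3
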