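import Cfsg.Agent.Lib.Helper2.HNMult.P3.Cert
set_option autoImplicit false
set_option maxRecDepth 1000000
set_option Elab.async false
namespace Cfsg.Agent.Lib.Helper2.HNMult.P3
open Cfsg.Agent.Lib.Helper4.Sparse Cfsg.Agent.Lib.Helper2.SparseF
theorem ck_1080 : chkURangeF D C relF 796 1237356000 2211840 2048 = true := by decide +kernel
theorem ck_1081 : chkURangeF D C relF 796 1237356000 2213888 2048 = true := by decide +kernel
theorem ck_1082 : chkURangeF D C relF 796 1237356000 2215936 2048 = true := by decide +kernel
theorem ck_1083 : chkURangeF D C relF 796 1237356000 2217984 2048 = true := by decide +kernel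
theorem ck_1084 : chkURangeF D C relF 796 1237356000 2220032 2048 = true := by decide +kernel
theorem ck_1085 : chkURangeF D C relF 796 1237356000 2222080 2048 = true := by decide +kernel
theorem ck_1086 : chkURangeF D C relF 796 1237356000 2224128 2048 = true := by decide +kernel
theorem ck_1087 : chkURangeF D C relF 796 1237356000 2226176 2048 = true := by decide +kernel
theorem ck_1088 : chkURangeF D C relF 796 1237356000 2228224 2048 = true := by decide +kernel
theorem ck_1089 : chkURangeF D C relF 796 1237356000 2230272 2048 = true := by decide +kernel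
theorem ck_1090 : chkURangeF D C relF 796 1237356000 2232320 2048 = true := by decide +kernel
theorem ck_1091 : chkURangeF D C relF 796 1237356000 2234368 2048 = true := by decide +kernel
theorem ck_1092 : chkURangeF D C relF 796 1237356000 2236416 2048 = true := by decide +kernel
theorem ck_1093 : chkURangeF D C relF 796 1237356000 2238464 2048 = true := by decide +kernel
theorem ck_1094 : chkURangeF D C relF 796 1237356000 2240512 2048 = true := by decide +kernel
theorem ck_1095 : chkURangeF D C relF 796 1237356000 2242560 2048 = true := by decide +kernel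
theorem ck_1096 : chkURangeF D C relF 796 1237356000 2244608 2048 = true := by decide +kernel
theorem ck_1097 : chkURangeF D C relF 796 1237356000 2246656 2048 = true := by decide +kernel
theorem ck_1098 : chkURangeF D C relF 796 1237356000 2248704 2048 = true := by decide +kernel
theorem ck_1099 : chkURangeF D C relF 796 1237356000 2250752 2048 = true := by decide +kernel
theorem ck_1100 : chkURangeF D C relF 796 1237356000 2252800 2048 = true := by decide +kernel
theorem ck_1101 : chkURangeF D C relF 796 1237356000 2254848 2048 = true := by decide +kernel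
theorem ck_1102 : chkURangeF D C relF 796 1237356000 2256896 2048 = true := by decide +kernel
theorem ck_1103 : chkURangeF D C relF 796 1237356000 2258944 2048 = true := by decide +kernel
theorem chkU_45 (b : ℕ) (h1 : 2211840 ≤ b) (h2 : b < 2260992) : chkU D C b = true := by
  rcases Nat.lt_or_ge b 2213888 with g0 | g0
  · exact chkURangeF_spec C relF_hyp 1237356000 tc_eq 2211840 2048 ck_1080 b (by omega) (by omega)
  rcases Nat.lt_or_ge b 2215936 with g1 | g1
  · exact chkURangeF_spec C relF_hyp 1237356000 tc_eq 2213888 2048 ck_1081 b (by omega) (by omega)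
  rcases Nat.lt_or_ge b 2217984 with g2 | g2
  · exact chkURangeF_spec C relF_hyp 1237356000 tc_eq 2215936 2048 ck_1082 b (by omega) (by omega)
  rcases Nat.lt_or_ge b 2220032 with g3 | g3
  · exact chkURangeF_spec C relF_hyp 1237356000 tc_eq 2217984 2048 ck_1083 b (by omega) (by omega)
  rcases Nat.lt_or_ge b 2222080 with g4 | g4
  · exact chkURangeF_spec C relF_hyp 1237356000 tc_eq 2220032 2048 ck_1084 b (by omega) (by omega)
  rcases Nat.lt_or_ge b 2224128 with g5 | g5
  · exact chkURangeF_spec C relF_hyp 1237356000 tc_eq 2222080 2048 ck_1085 b (by omega) (by omega)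
  rcases Nat.lt_or_ge b 2226176 with g6 | g6
  · exact chkURangeF_spec C relF_hyp 1237356000 tc_eq 2224128 2048 ck_1086 b (by omega) (by omega)
  rcases Nat.lt_or_ge b 2228224 with g7 | g7
  · exact chkURangeF_spec C relF_hyp 1237356000 tc_eq 2226176 2048 ck_1087 b (by omega) (by omega)
  rcases Nat.lt_or_ge b 2230272 with g8 | g8
  · exact chkURangeF_spec C relF_hyp 1237356000 tc_eq 2228224 2048 ck_1088 b (by omega) (by omega)
  rcases Nat.lt_or_ge b 2232320 with g9 | g9
  · exact chkURangeF_spec C relF_hyp 1237356000 tc_eq 2230272 2048 ck_1089 b (by omega) (by omega)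
  rcases Nat.lt_or_ge b 2234368 with g10 | g10
  · exact chkURangeF_spec C relF_hyp 1237356000 tc_eq 2232320 2048 ck_1090 b (by omega) (by omega)
  rcases Nat.lt_or_ge b 2236416 with g11 | g11
  · exact chkURangeF_spec C relF_hyp 1237356000 tc_eq 2234368 2048 ck_1091 b (by omega) (by omega)
  rcases Nat.lt_or_ge b 2238464 with g12 | g12
  · exact chkURangeF_spec C relF_hyp 1237356000 tc_eq 2236416 2048 ck_1092 b (by omega) (by omega)
  rcases Nat.lt_or_ge b 2240512 with g13 | g13
  · exact chkURangeF_spec C relF_hyp 1237356000 tc_eq 2238464 2048 ck_1093 b (by omega) (by omega)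
  rcases Nat.lt_or_ge b 2242560 with g14 | g14
  · exact chkURangeF_spec C relF_hyp 1237356000 tc_eq 2240512 2048 ck_1094 b (by omega) (by omega)
  rcases Nat.lt_or_ge b 2244608 with g15 | g15
  · exact chkURangeF_spec C relF_hyp 1237356000 tc_eq 2242560 2048 ck_1095 b (by omega) (by omega)
  rcases Nat.lt_or_ge b 2246656 with g16 | g16
  · exact chkURangeF_spec C relF_hyp 1237356000 tc_eq 2244608 2048 ck_1096 b (by omega) (by omega)
  rcases Nat.lt_or_ge b 2248704 with g17 | g17
  · exact chkURangeF_spec C relF_hyp 1237356000 tc_eq 2246656 2048 ck_1097 b (by omega) (by omega)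
  rcases Nat.lt_or_ge b 2250752 with g18 | g18
  · exact chkURangeF_spec C relF_hyp 1237356000 tc_eq 2248704 2048 ck_1098 b (by omega) (by omega)
  rcases Nat.lt_or_ge b 2252800 with g19 | g19
  · exact chkURangeF_spec C relF_hyp 1237356000 tc_eq 2250752 2048 ck_1099 b (by omega) (by omega)
  rcases Nat.lt_or_ge b 2254848 with g20 | g20
  · exact chkURangeF_spec C relF_hyp 1237356000 tc_eq 2252800 2048 ck_1100 b (by omega) (by omega)
  rcases Nat.lt_or_ge b 2256896 with g21 | g21
  · exact chkURangeF_spec C relF_hyp 1237356000 tc_eq 2254848 2048 ck_1101 b (by omega) (by omega)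
  rcases Nat.lt_or_ge b 2258944 with g22 | g22
  · exact chkURangeF_spec C relF_hyp 1237356000 tc_eq 2256896 2048 ck_1102 b (by omega) (by omega)
  exact chkURangeF_spec C relF_hyp 1237356000 tc_eq 2258944 2048 ck_1103 b (by omega) (by omega)
end Cfsg.Agent.Lib.Helper2.HNMult.P3
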