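import Cfsg.Agent.Lib.Helper2.HNMult.P3.Cert
set_option autoImplicit false
set_option maxRecDepth 1000000
set_option Elab.async false
namespace Cfsg.Agent.Lib.Helper2.HNMult.P3
open Cfsg.Agent.Lib.Helper4.Sparse Cfsg.Agent.Lib.Helper2.SparseF
theorem ck_1104 : chkURangeF D C relF 796 1237356000 2260992 2048 = true := by decide +kernel
theorem ck_1105 : chkURangeF D C relF 796 1237356000 2263040 2048 = true := by decide +kernel
theorem ck_1106 : chkURangeF D C relF 796 1237356000 2265088 2048 = true := by decide +kernel
theorem ck_1107 : chkURangeF D C relF 796 1237356000 2267136 2048 = true := by decide +kernel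
theorem ck_1108 : chkURangeF D C relF 796 1237356000 2269184 2048 = true := by decide +kernel
theorem ck_1109 : chkURangeF D C relF 796 1237356000 2271232 2048 = true := by decide +kernel
theorem ck_1110 : chkURangeF D C relF 796 1237356000 2273280 2048 = true := by decide +kernel
theorem ck_1111 : chkURangeF D C relF 796 1237356000 2275328 2048 = true := by decide +kernel
theorem ck_1112 : chkURangeF D C relF 796 1237356000 2277376 2048 = true := by decide +kernel
theorem ck_1113 : chkURangeF D C relF 796 1237356000 2279424 2048 = true := by decide +kernel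
theorem ck_1114 : chkURangeF D C relF 796 1237356000 2281472 2048 = true := by decide +kernel
theorem ck_1115 : chkURangeF D C relF 796 1237356000 2283520 2048 = true := by decide +kernel
theorem ck_1116 : chkURangeF D C relF 796 1237356000 2285568 2048 = true := by decide +kernel
theorem ck_1117 : chkURangeF D C relF 796 1237356000 2287616 2048 = true := by decide +kernel
theorem ck_1118 : chkURangeF D C relF 796 1237356000 2289664 2048 = true := by decide +kernel
theorem ck_1119 : chkURangeF D C relF 796 1237356000 2291712 2048 = true := by decide +kernel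
theorem ck_1120 : chkURangeF D C relF 796 1237356000 2293760 2048 = true := by decide +kernel
theorem ck_1121 : chkURangeF D C relF 796 1237356000 2295808 2048 = true := by decide +kernel
theorem ck_1122 : chkURangeF D C relF 796 1237356000 2297856 2048 = true := by decide +kernel
theorem ck_1123 : chkURangeF D C relF 796 1237356000 2299904 2048 = true := by decide +kernel
theorem ck_1124 : chkURangeF D C relF 796 1237356000 2301952 2048 = true := by decide +kernel
theorem ck_1125 : chkURangeF D C relF 796 1237356000 2304000 2048 = true := by decide +kernel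
theorem ck_1126 : chkURangeF D C relF 796 1237356000 2306048 2048 = true := by decide +kernel
theorem ck_1127 : chkURangeF D C relF 796 1237356000 2308096 2048 = true := by decide +kernel
theorem chkU_46 (b : ℕ) (h1 : 2260992 ≤ b) (h2 : b < 2310144) : chkU D C b = true := by
  rcases Nat.lt_or_ge b 2263040 with g0 | g0
  · exact chkURangeF_spec C relF_hyp 1237356000 tc_eq 2260992 2048 ck_1104 b (by omega) (by omega)
  rcases Nat.lt_or_ge b 2265088 with g1 | g1
  · exact chkURangeF_spec C relF_hyp 1237356000 tc_eq 2263040 2048 ck_1105 b (by omega) (by omega)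
  rcases Nat.lt_or_ge b 2267136 with g2 | g2
  · exact chkURangeF_spec C relF_hyp 1237356000 tc_eq 2265088 2048 ck_1106 b (by omega) (by omega)
  rcases Nat.lt_or_ge b 2269184 with g3 | g3
  · exact chkURangeF_spec C relF_hyp 1237356000 tc_eq 2267136 2048 ck_1107 b (by omega) (by omega)
  rcases Nat.lt_or_ge b 2271232 with g4 | g4
  · exact chkURangeF_spec C relF_hyp 1237356000 tc_eq 2269184 2048 ck_1108 b (by omega) (by omega)
  rcases Nat.lt_or_ge b 2273280 with g5 | g5
  · exact chkURangeF_spec C relF_hyp 1237356000 tc_eq 2271232 2048 ck_1109 b (by omega) (by omega)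
  rcases Nat.lt_or_ge b 2275328 with g6 | g6
  · exact chkURangeF_spec C relF_hyp 1237356000 tc_eq 2273280 2048 ck_1110 b (by omega) (by omega)
  rcases Nat.lt_or_ge b 2277376 with g7 | g7
  · exact chkURangeF_spec C relF_hyp 1237356000 tc_eq 2275328 2048 ck_1111 b (by omega) (by omega)
  rcases Nat.lt_or_ge b 2279424 with g8 | g8
  · exact chkURangeF_spec C relF_hyp 1237356000 tc_eq 2277376 2048 ck_1112 b (by omega) (by omega)
  rcases Nat.lt_or_ge b 2281472 with g9 | g9
  · exact chkURangeF_spec C relF_hyp 1237356000 tc_eq 2279424 2048 ck_1113 b (by omega) (by omega)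
  rcases Nat.lt_or_ge b 2283520 with g10 | g10
  · exact chkURangeF_spec C relF_hyp 1237356000 tc_eq 2281472 2048 ck_1114 b (by omega) (by omega)
  rcases Nat.lt_or_ge b 2285568 with g11 | g11
  · exact chkURangeF_spec C relF_hyp 1237356000 tc_eq 2283520 2048 ck_1115 b (by omega) (by omega)
  rcases Nat.lt_or_ge b 2287616 with g12 | g12
  · exact chkURangeF_spec C relF_hyp 1237356000 tc_eq 2285568 2048 ck_1116 b (by omega) (by omega)
  rcases Nat.lt_or_ge b 2289664 with g13 | g13
  · exact chkURangeF_spec C relF_hyp 1237356000 tc_eq 2287616 2048 ck_1117 b (by omega) (by omega)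
  rcases Nat.lt_or_ge b 2291712 with g14 | g14
  · exact chkURangeF_spec C relF_hyp 1237356000 tc_eq 2289664 2048 ck_1118 b (by omega) (by omega)
  rcases Nat.lt_or_ge b 2293760 with g15 | g15
  · exact chkURangeF_spec C relF_hyp 1237356000 tc_eq 2291712 2048 ck_1119 b (by omega) (by omega)
  rcases Nat.lt_or_ge b 2295808 with g16 | g16
  · exact chkURangeF_spec C relF_hyp 1237356000 tc_eq 2293760 2048 ck_1120 b (by omega) (by omega)
  rcases Nat.lt_or_ge b 2297856 with g17 | g17
  · exact chkURangeF_spec C relF_hyp 1237356000 tc_eq 2295808 2048 ck_1121 b (by omega) (by omega)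
  rcases Nat.lt_or_ge b 2299904 with g18 | g18
  · exact chkURangeF_spec C relF_hyp 1237356000 tc_eq 2297856 2048 ck_1122 b (by omega) (by omega)
  rcases Nat.lt_or_ge b 2301952 with g19 | g19
  · exact chkURangeF_spec C relF_hyp 1237356000 tc_eq 2299904 2048 ck_1123 b (by omega) (by omega)
  rcases Nat.lt_or_ge b 2304000 with g20 | g20
  · exact chkURangeF_spec C relF_hyp 1237356000 tc_eq 2301952 2048 ck_1124 b (by omega) (by omega)
  rcases Nat.lt_or_ge b 2306048 with g21 | g21
  · exact chkURangeF_spec C relF_hyp 1237356000 tc_eq 2304000 2048 ck_1125 b (by omega) (by omega)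
  rcases Nat.lt_or_ge b 2308096 with g22 | g22
  · exact chkURangeF_spec C relF_hyp 1237356000 tc_eq 2306048 2048 ck_1126 b (by omega) (by omega)
  exact chkURangeF_spec C relF_hyp 1237356000 tc_eq 2308096 2048 ck_1127 b (by omega) (by omega)
end Cfsg.Agent.Lib.Helper2.HNMult.P3
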