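import Cfsg.Agent.Lib.Helper2.HNMult.P3.Cert
set_option autoImplicit false
set_option maxRecDepth 1000000
set_option Elab.async false
namespace Cfsg.Agent.Lib.Helper2.HNMult.P3
open Cfsg.Agent.Lib.Helper4.Sparse Cfsg.Agent.Lib.Helper2.SparseF
theorem ck_1176 : chkURangeF D C relF 796 1237356000 2408448 2048 = true := by decide +kernel
theorem ck_1177 : chkURangeF D C relF 796 1237356000 2410496 2048 = true := by decide +kernel
theorem ck_1178 : chkURangeF D C relF 796 1237356000 2412544 2048 = true := by decide +kernel
theorem ck_1179 : chkURangeF D C relF 796 1237356000 2414592 2048 = true := by decide +kernel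
theorem ck_1180 : chkURangeF D C relF 796 1237356000 2416640 2048 = true := by decide +kernel
theorem ck_1181 : chkURangeF D C relF 796 1237356000 2418688 2048 = true := by decide +kernel
theorem ck_1182 : chkURangeF D C relF 796 1237356000 2420736 2048 = true := by decide +kernel
theorem ck_1183 : chkURangeF D C relF 796 1237356000 2422784 2048 = true := by decide +kernel
theorem ck_1184 : chkURangeF D C relF 796 1237356000 2424832 2048 = true := by decide +kernel
theorem ck_1185 : chkURangeF D C relF 796 1237356000 2426880 2048 = true := by decide +kernel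
theorem ck_1186 : chkURangeF D C relF 796 1237356000 2428928 2048 = true := by decide +kernel
theorem ck_1187 : chkURangeF D C relF 796 1237356000 2430976 2048 = true := by decide +kernel
theorem ck_1188 : chkURangeF D C relF 796 1237356000 2433024 2048 = true := by decide +kernel
theorem ck_1189 : chkURangeF D C relF 796 1237356000 2435072 2048 = true := by decide +kernel
theorem ck_1190 : chkURangeF D C relF 796 1237356000 2437120 2048 = true := by decide +kernel
theorem ck_1191 : chkURangeF D C relF 796 1237356000 2439168 2048 = true := by decide +kernel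
theorem ck_1192 : chkURangeF D C relF 796 1237356000 2441216 2048 = true := by decide +kernel
theorem ck_1193 : chkURangeF D C relF 796 1237356000 2443264 2048 = true := by decide +kernel
theorem ck_1194 : chkURangeF D C relF 796 1237356000 2445312 2048 = true := by decide +kernel
theorem ck_1195 : chkURangeF D C relF 796 1237356000 2447360 2048 = true := by decide +kernel
theorem ck_1196 : chkURangeF D C relF 796 1237356000 2449408 2048 = true := by decide +kernel
theorem ck_1197 : chkURangeF D C relF 796 1237356000 2451456 2048 = true := by decide +kernel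
theorem ck_1198 : chkURangeF D C relF 796 1237356000 2453504 2048 = true := by decide +kernel
theorem ck_1199 : chkURangeF D C relF 796 1237356000 2455552 2048 = true := by decide +kernel
theorem chkU_49 (b : ℕ) (h1 : 2408448 ≤ b) (h2 : b < 2457600) : chkU D C b = true := by
  rcases Nat.lt_or_ge b 2410496 with g0 | g0
  · exact chkURangeF_spec C relF_hyp 1237356000 tc_eq 2408448 2048 ck_1176 b (by omega) (by omega)
  rcases Nat.lt_or_ge b 2412544 with g1 | g1
  · exact chkURangeF_spec C relF_hyp 1237356000 tc_eq 2410496 2048 ck_1177 b (by omega) (by omega)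
  rcases Nat.lt_or_ge b 2414592 with g2 | g2
  · exact chkURangeF_spec C relF_hyp 1237356000 tc_eq 2412544 2048 ck_1178 b (by omega) (by omega)
  rcases Nat.lt_or_ge b 2416640 with g3 | g3
  · exact chkURangeF_spec C relF_hyp 1237356000 tc_eq 2414592 2048 ck_1179 b (by omega) (by omega)
  rcases Nat.lt_or_ge b 2418688 with g4 | g4
  · exact chkURangeF_spec C relF_hyp 1237356000 tc_eq 2416640 2048 ck_1180 b (by omega) (by omega)
  rcases Nat.lt_or_ge b 2420736 with g5 | g5
  · exact chkURangeF_spec C relF_hyp 1237356000 tc_eq 2418688 2048 ck_1181 b (by omega) (by omega)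
  rcases Nat.lt_or_ge b 2422784 with g6 | g6
  · exact chkURangeF_spec C relF_hyp 1237356000 tc_eq 2420736 2048 ck_1182 b (by omega) (by omega)
  rcases Nat.lt_or_ge b 2424832 with g7 | g7
  · exact chkURangeF_spec C relF_hyp 1237356000 tc_eq 2422784 2048 ck_1183 b (by omega) (by omega)
  rcases Nat.lt_or_ge b 2426880 with g8 | g8
  · exact chkURangeF_spec C relF_hyp 1237356000 tc_eq 2424832 2048 ck_1184 b (by omega) (by omega)
  rcases Nat.lt_or_ge b 2428928 with g9 | g9
  · exact chkURangeF_spec C relF_hyp 1237356000 tc_eq 2426880 2048 ck_1185 b (by omega) (by omega)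
  rcases Nat.lt_or_ge b 2430976 with g10 | g10
  · exact chkURangeF_spec C relF_hyp 1237356000 tc_eq 2428928 2048 ck_1186 b (by omega) (by omega)
  rcases Nat.lt_or_ge b 2433024 with g11 | g11
  · exact chkURangeF_spec C relF_hyp 1237356000 tc_eq 2430976 2048 ck_1187 b (by omega) (by omega)
  rcases Nat.lt_or_ge b 2435072 with g12 | g12
  · exact chkURangeF_spec C relF_hyp 1237356000 tc_eq 2433024 2048 ck_1188 b (by omega) (by omega)
  rcases Nat.lt_or_ge b 2437120 with g13 | g13
  · exact chkURangeF_spec C relF_hyp 1237356000 tc_eq 2435072 2048 ck_1189 b (by omega) (by omega)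
  rcases Nat.lt_or_ge b 2439168 with g14 | g14
  · exact chkURangeF_spec C relF_hyp 1237356000 tc_eq 2437120 2048 ck_1190 b (by omega) (by omega)
  rcases Nat.lt_or_ge b 2441216 with g15 | g15
  · exact chkURangeF_spec C relF_hyp 1237356000 tc_eq 2439168 2048 ck_1191 b (by omega) (by omega)
  rcases Nat.lt_or_ge b 2443264 with g16 | g16
  · exact chkURangeF_spec C relF_hyp 1237356000 tc_eq 2441216 2048 ck_1192 b (by omega) (by omega)
  rcases Nat.lt_or_ge b 2445312 with g17 | g17
  · exact chkURangeF_spec C relF_hyp 1237356000 tc_eq 2443264 2048 ck_1193 b (by omega) (by omega)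
  rcases Nat.lt_or_ge b 2447360 with g18 | g18
  · exact chkURangeF_spec C relF_hyp 1237356000 tc_eq 2445312 2048 ck_1194 b (by omega) (by omega)
  rcases Nat.lt_or_ge b 2449408 with g19 | g19
  · exact chkURangeF_spec C relF_hyp 1237356000 tc_eq 2447360 2048 ck_1195 b (by omega) (by omega)
  rcases Nat.lt_or_ge b 2451456 with g20 | g20
  · exact chkURangeF_spec C relF_hyp 1237356000 tc_eq 2449408 2048 ck_1196 b (by omega) (by omega)
  rcases Nat.lt_or_ge b 2453504 with g21 | g21
  · exact chkURangeF_spec C relF_hyp 1237356000 tc_eq 2451456 2048 ck_1197 b (by omega) (by omega)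
  rcases Nat.lt_or_ge b 2455552 with g22 | g22
  · exact chkURangeF_spec C relF_hyp 1237356000 tc_eq 2453504 2048 ck_1198 b (by omega) (by omega)
  exact chkURangeF_spec C relF_hyp 1237356000 tc_eq 2455552 2048 ck_1199 b (by omega) (by omega)
end Cfsg.Agent.Lib.Helper2.HNMult.P3
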