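import Cfsg.Agent.Lib.Helper2.HNMult.P3.Cert
set_option autoImplicit false
set_option maxRecDepth 1000000
set_option Elab.async false
namespace Cfsg.Agent.Lib.Helper2.HNMult.P3
open Cfsg.Agent.Lib.Helper4.Sparse Cfsg.Agent.Lib.Helper2.SparseF
theorem ck_1200 : chkURangeF D C relF 796 1237356000 2457600 2048 = true := by decide +kernel
theorem ck_1201 : chkURangeF D C relF 796 1237356000 2459648 2048 = true := by decide +kernel
theorem ck_1202 : chkURangeF D C relF 796 1237356000 2461696 2048 = true := by decide +kernel
theorem ck_1203 : chkURangeF D C relF 796 1237356000 2463744 2048 = true := by decide +kernel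
theorem ck_1204 : chkURangeF D C relF 796 1237356000 2465792 2048 = true := by decide +kernel
theorem ck_1205 : chkURangeF D C relF 796 1237356000 2467840 2048 = true := by decide +kernel
theorem ck_1206 : chkURangeF D C relF 796 1237356000 2469888 2048 = true := by decide +kernel
theorem ck_1207 : chkURangeF D C relF 796 1237356000 2471936 2048 = true := by decide +kernel
theorem ck_1208 : chkURangeF D C relF 796 1237356000 2473984 2048 = true := by decide +kernel
theorem ck_1209 : chkURangeF D C relF 796 1237356000 2476032 2048 = true := by decide +kernel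
theorem ck_1210 : chkURangeF D C relF 796 1237356000 2478080 2048 = true := by decide +kernel
theorem ck_1211 : chkURangeF D C relF 796 1237356000 2480128 2048 = true := by decide +kernel
theorem ck_1212 : chkURangeF D C relF 796 1237356000 2482176 2048 = true := by decide +kernel
theorem ck_1213 : chkURangeF D C relF 796 1237356000 2484224 2048 = true := by decide +kernel
theorem ck_1214 : chkURangeF D C relF 796 1237356000 2486272 2048 = true := by decide +kernel
theorem ck_1215 : chkURangeF D C relF 796 1237356000 2488320 2048 = true := by decide +kernel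
theorem ck_1216 : chkURangeF D C relF 796 1237356000 2490368 2048 = true := by decide +kernel
theorem ck_1217 : chkURangeF D C relF 796 1237356000 2492416 2048 = true := by decide +kernel
theorem ck_1218 : chkURangeF D C relF 796 1237356000 2494464 2048 = true := by decide +kernel
theorem ck_1219 : chkURangeF D C relF 796 1237356000 2496512 2048 = true := by decide +kernel
theorem ck_1220 : chkURangeF D C relF 796 1237356000 2498560 2048 = true := by decide +kernel
theorem ck_1221 : chkURangeF D C relF 796 1237356000 2500608 2048 = true := by decide +kernel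
theorem ck_1222 : chkURangeF D C relF 796 1237356000 2502656 2048 = true := by decide +kernel
theorem ck_1223 : chkURangeF D C relF 796 1237356000 2504704 2048 = true := by decide +kernel
theorem chkU_50 (b : ℕ) (h1 : 2457600 ≤ b) (h2 : b < 2506752) : chkU D C b = true := by
  rcases Nat.lt_or_ge b 2459648 with g0 | g0
  · exact chkURangeF_spec C relF_hyp 1237356000 tc_eq 2457600 2048 ck_1200 b (by omega) (by omega)
  rcases Nat.lt_or_ge b 2461696 with g1 | g1
  · exact chkURangeF_spec C relF_hyp 1237356000 tc_eq 2459648 2048 ck_1201 b (by omega) (by omega)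
  rcases Nat.lt_or_ge b 2463744 with g2 | g2
  · exact chkURangeF_spec C relF_hyp 1237356000 tc_eq 2461696 2048 ck_1202 b (by omega) (by omega)
  rcases Nat.lt_or_ge b 2465792 with g3 | g3
  · exact chkURangeF_spec C relF_hyp 1237356000 tc_eq 2463744 2048 ck_1203 b (by omega) (by omega)
  rcases Nat.lt_or_ge b 2467840 with g4 | g4
  · exact chkURangeF_spec C relF_hyp 1237356000 tc_eq 2465792 2048 ck_1204 b (by omega) (by omega)
  rcases Nat.lt_or_ge b 2469888 with g5 | g5
  · exact chkURangeF_spec C relF_hyp 1237356000 tc_eq 2467840 2048 ck_1205 b (by omega) (by omega)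
  rcases Nat.lt_or_ge b 2471936 with g6 | g6
  · exact chkURangeF_spec C relF_hyp 1237356000 tc_eq 2469888 2048 ck_1206 b (by omega) (by omega)
  rcases Nat.lt_or_ge b 2473984 with g7 | g7
  · exact chkURangeF_spec C relF_hyp 1237356000 tc_eq 2471936 2048 ck_1207 b (by omega) (by omega)
  rcases Nat.lt_or_ge b 2476032 with g8 | g8
  · exact chkURangeF_spec C relF_hyp 1237356000 tc_eq 2473984 2048 ck_1208 b (by omega) (by omega)
  rcases Nat.lt_or_ge b 2478080 with g9 | g9
  · exact chkURangeF_spec C relF_hyp 1237356000 tc_eq 2476032 2048 ck_1209 b (by omega) (by omega)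
  rcases Nat.lt_or_ge b 2480128 with g10 | g10
  · exact chkURangeF_spec C relF_hyp 1237356000 tc_eq 2478080 2048 ck_1210 b (by omega) (by omega)
  rcases Nat.lt_or_ge b 2482176 with g11 | g11
  · exact chkURangeF_spec C relF_hyp 1237356000 tc_eq 2480128 2048 ck_1211 b (by omega) (by omega)
  rcases Nat.lt_or_ge b 2484224 with g12 | g12
  · exact chkURangeF_spec C relF_hyp 1237356000 tc_eq 2482176 2048 ck_1212 b (by omega) (by omega)
  rcases Nat.lt_or_ge b 2486272 with g13 | g13
  · exact chkURangeF_spec C relF_hyp 1237356000 tc_eq 2484224 2048 ck_1213 b (by omega) (by omega)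
  rcases Nat.lt_or_ge b 2488320 with g14 | g14
  · exact chkURangeF_spec C relF_hyp 1237356000 tc_eq 2486272 2048 ck_1214 b (by omega) (by omega)
  rcases Nat.lt_or_ge b 2490368 with g15 | g15
  · exact chkURangeF_spec C relF_hyp 1237356000 tc_eq 2488320 2048 ck_1215 b (by omega) (by omega)
  rcases Nat.lt_or_ge b 2492416 with g16 | g16
  · exact chkURangeF_spec C relF_hyp 1237356000 tc_eq 2490368 2048 ck_1216 b (by omega) (by omega)
  rcases Nat.lt_or_ge b 2494464 with g17 | g17
  · exact chkURangeF_spec C relF_hyp 1237356000 tc_eq 2492416 2048 ck_1217 b (by omega) (by omega)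
  rcases Nat.lt_or_ge b 2496512 with g18 | g18
  · exact chkURangeF_spec C relF_hyp 1237356000 tc_eq 2494464 2048 ck_1218 b (by omega) (by omega)
  rcases Nat.lt_or_ge b 2498560 with g19 | g19
  · exact chkURangeF_spec C relF_hyp 1237356000 tc_eq 2496512 2048 ck_1219 b (by omega) (by omega)
  rcases Nat.lt_or_ge b 2500608 with g20 | g20
  · exact chkURangeF_spec C relF_hyp 1237356000 tc_eq 2498560 2048 ck_1220 b (by omega) (by omega)
  rcases Nat.lt_or_ge b 2502656 with g21 | g21
  · exact chkURangeF_spec C relF_hyp 1237356000 tc_eq 2500608 2048 ck_1221 b (by omega) (by omega)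
  rcases Nat.lt_or_ge b 2504704 with g22 | g22
  · exact chkURangeF_spec C relF_hyp 1237356000 tc_eq 2502656 2048 ck_1222 b (by omega) (by omega)
  exact chkURangeF_spec C relF_hyp 1237356000 tc_eq 2504704 2048 ck_1223 b (by omega) (by omega)
end Cfsg.Agent.Lib.Helper2.HNMult.P3
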