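import Cfsg.Agent.Lib.Helper2.HNMult.P3.Cert
set_option autoImplicit false
set_option maxRecDepth 1000000
set_option Elab.async false
namespace Cfsg.Agent.Lib.Helper2.HNMult.P3
open Cfsg.Agent.Lib.Helper4.Sparse Cfsg.Agent.Lib.Helper2.SparseF
theorem ck_1224 : chkURangeF D C relF 796 1237356000 2506752 2048 = true := by decide +kernel
theorem ck_1225 : chkURangeF D C relF 796 1237356000 2508800 2048 = true := by decide +kernel
theorem ck_1226 : chkURangeF D C relF 796 1237356000 2510848 2048 = true := by decide +kernel
theorem ck_1227 : chkURangeF D C relF 796 1237356000 2512896 2048 = true := by decide +kernel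
theorem ck_1228 : chkURangeF D C relF 796 1237356000 2514944 2048 = true := by decide +kernel
theorem ck_1229 : chkURangeF D C relF 796 1237356000 2516992 2048 = true := by decide +kernel
theorem ck_1230 : chkURangeF D C relF 796 1237356000 2519040 2048 = true := by decide +kernel
theorem ck_1231 : chkURangeF D C relF 796 1237356000 2521088 2048 = true := by decide +kernel
theorem ck_1232 : chkURangeF D C relF 796 1237356000 2523136 2048 = true := by decide +kernel
theorem ck_1233 : chkURangeF D C relF 796 1237356000 2525184 2048 = true := by decide +kernel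
theorem ck_1234 : chkURangeF D C relF 796 1237356000 2527232 2048 = true := by decide +kernel
theorem ck_1235 : chkURangeF D C relF 796 1237356000 2529280 2048 = true := by decide +kernel
theorem ck_1236 : chkURangeF D C relF 796 1237356000 2531328 2048 = true := by decide +kernel
theorem ck_1237 : chkURangeF D C relF 796 1237356000 2533376 2048 = true := by decide +kernel
theorem ck_1238 : chkURangeF D C relF 796 1237356000 2535424 2048 = true := by decide +kernel
theorem ck_1239 : chkURangeF D C relF 796 1237356000 2537472 2048 = true := by decide +kernel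
theorem ck_1240 : chkURangeF D C relF 796 1237356000 2539520 2048 = true := by decide +kernel
theorem ck_1241 : chkURangeF D C relF 796 1237356000 2541568 2048 = true := by decide +kernel
theorem ck_1242 : chkURangeF D C relF 796 1237356000 2543616 2048 = true := by decide +kernel
theorem ck_1243 : chkURangeF D C relF 796 1237356000 2545664 2048 = true := by decide +kernel
theorem ck_1244 : chkURangeF D C relF 796 1237356000 2547712 2048 = true := by decide +kernel
theorem ck_1245 : chkURangeF D C relF 796 1237356000 2549760 2048 = true := by decide +kernel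
theorem ck_1246 : chkURangeF D C relF 796 1237356000 2551808 2048 = true := by decide +kernel
theorem ck_1247 : chkURangeF D C relF 796 1237356000 2553856 2048 = true := by decide +kernel
theorem chkU_51 (b : ℕ) (h1 : 2506752 ≤ b) (h2 : b < 2555904) : chkU D C b = true := by
  rcases Nat.lt_or_ge b 2508800 with g0 | g0
  · exact chkURangeF_spec C relF_hyp 1237356000 tc_eq 2506752 2048 ck_1224 b (by omega) (by omega)
  rcases Nat.lt_or_ge b 2510848 with g1 | g1
  · exact chkURangeF_spec C relF_hyp 1237356000 tc_eq 2508800 2048 ck_1225 b (by omega) (by omega)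
  rcases Nat.lt_or_ge b 2512896 with g2 | g2
  · exact chkURangeF_spec C relF_hyp 1237356000 tc_eq 2510848 2048 ck_1226 b (by omega) (by omega)
  rcases Nat.lt_or_ge b 2514944 with g3 | g3
  · exact chkURangeF_spec C relF_hyp 1237356000 tc_eq 2512896 2048 ck_1227 b (by omega) (by omega)
  rcases Nat.lt_or_ge b 2516992 with g4 | g4
  · exact chkURangeF_spec C relF_hyp 1237356000 tc_eq 2514944 2048 ck_1228 b (by omega) (by omega)
  rcases Nat.lt_or_ge b 2519040 with g5 | g5
  · exact chkURangeF_spec C relF_hyp 1237356000 tc_eq 2516992 2048 ck_1229 b (by omega) (by omega)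
  rcases Nat.lt_or_ge b 2521088 with g6 | g6
  · exact chkURangeF_spec C relF_hyp 1237356000 tc_eq 2519040 2048 ck_1230 b (by omega) (by omega)
  rcases Nat.lt_or_ge b 2523136 with g7 | g7
  · exact chkURangeF_spec C relF_hyp 1237356000 tc_eq 2521088 2048 ck_1231 b (by omega) (by omega)
  rcases Nat.lt_or_ge b 2525184 with g8 | g8
  · exact chkURangeF_spec C relF_hyp 1237356000 tc_eq 2523136 2048 ck_1232 b (by omega) (by omega)
  rcases Nat.lt_or_ge b 2527232 with g9 | g9
  · exact chkURangeF_spec C relF_hyp 1237356000 tc_eq 2525184 2048 ck_1233 b (by omega) (by omega)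
  rcases Nat.lt_or_ge b 2529280 with g10 | g10
  · exact chkURangeF_spec C relF_hyp 1237356000 tc_eq 2527232 2048 ck_1234 b (by omega) (by omega)
  rcases Nat.lt_or_ge b 2531328 with g11 | g11
  · exact chkURangeF_spec C relF_hyp 1237356000 tc_eq 2529280 2048 ck_1235 b (by omega) (by omega)
  rcases Nat.lt_or_ge b 2533376 with g12 | g12
  · exact chkURangeF_spec C relF_hyp 1237356000 tc_eq 2531328 2048 ck_1236 b (by omega) (by omega)
  rcases Nat.lt_or_ge b 2535424 with g13 | g13
  · exact chkURangeF_spec C relF_hyp 1237356000 tc_eq 2533376 2048 ck_1237 b (by omega) (by omega)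
  rcases Nat.lt_or_ge b 2537472 with g14 | g14
  · exact chkURangeF_spec C relF_hyp 1237356000 tc_eq 2535424 2048 ck_1238 b (by omega) (by omega)
  rcases Nat.lt_or_ge b 2539520 with g15 | g15
  · exact chkURangeF_spec C relF_hyp 1237356000 tc_eq 2537472 2048 ck_1239 b (by omega) (by omega)
  rcases Nat.lt_or_ge b 2541568 with g16 | g16
  · exact chkURangeF_spec C relF_hyp 1237356000 tc_eq 2539520 2048 ck_1240 b (by omega) (by omega)
  rcases Nat.lt_or_ge b 2543616 with g17 | g17
  · exact chkURangeF_spec C relF_hyp 1237356000 tc_eq 2541568 2048 ck_1241 b (by omega) (by omega)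
  rcases Nat.lt_or_ge b 2545664 with g18 | g18
  · exact chkURangeF_spec C relF_hyp 1237356000 tc_eq 2543616 2048 ck_1242 b (by omega) (by omega)
  rcases Nat.lt_or_ge b 2547712 with g19 | g19
  · exact chkURangeF_spec C relF_hyp 1237356000 tc_eq 2545664 2048 ck_1243 b (by omega) (by omega)
  rcases Nat.lt_or_ge b 2549760 with g20 | g20
  · exact chkURangeF_spec C relF_hyp 1237356000 tc_eq 2547712 2048 ck_1244 b (by omega) (by omega)
  rcases Nat.lt_or_ge b 2551808 with g21 | g21
  · exact chkURangeF_spec C relF_hyp 1237356000 tc_eq 2549760 2048 ck_1245 b (by omega) (by omega)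
  rcases Nat.lt_or_ge b 2553856 with g22 | g22
  · exact chkURangeF_spec C relF_hyp 1237356000 tc_eq 2551808 2048 ck_1246 b (by omega) (by omega)
  exact chkURangeF_spec C relF_hyp 1237356000 tc_eq 2553856 2048 ck_1247 b (by omega) (by omega)
end Cfsg.Agent.Lib.Helper2.HNMult.P3
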