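import Cfsg.Agent.Lib.Helper2.HNMult.P3.Cert
set_option autoImplicit false
set_option maxRecDepth 1000000
set_option Elab.async false
namespace Cfsg.Agent.Lib.Helper2.HNMult.P3
open Cfsg.Agent.Lib.Helper4.Sparse Cfsg.Agent.Lib.Helper2.SparseF
theorem ck_1296 : chkURangeF D C relF 796 1237356000 2654208 2048 = true := by decide +kernel
theorem ck_1297 : chkURangeF D C relF 796 1237356000 2656256 2048 = true := by decide +kernel
theorem ck_1298 : chkURangeF D C relF 796 1237356000 2658304 2048 = true := by decide +kernel
theorem ck_1299 : chkURangeF D C relF 796 1237356000 2660352 2048 = true := by decide +kernel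
theorem ck_1300 : chkURangeF D C relF 796 1237356000 2662400 2048 = true := by decide +kernel
theorem ck_1301 : chkURangeF D C relF 796 1237356000 2664448 2048 = true := by decide +kernel
theorem ck_1302 : chkURangeF D C relF 796 1237356000 2666496 2048 = true := by decide +kernel
theorem ck_1303 : chkURangeF D C relF 796 1237356000 2668544 2048 = true := by decide +kernel
theorem ck_1304 : chkURangeF D C relF 796 1237356000 2670592 2048 = true := by decide +kernel
theorem ck_1305 : chkURangeF D C relF 796 1237356000 2672640 2048 = true := by decide +kernel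
theorem ck_1306 : chkURangeF D C relF 796 1237356000 2674688 2048 = true := by decide +kernel
theorem ck_1307 : chkURangeF D C relF 796 1237356000 2676736 2048 = true := by decide +kernel
theorem ck_1308 : chkURangeF D C relF 796 1237356000 2678784 2048 = true := by decide +kernel
theorem ck_1309 : chkURangeF D C relF 796 1237356000 2680832 2048 = true := by decide +kernel
theorem ck_1310 : chkURangeF D C relF 796 1237356000 2682880 2048 = true := by decide +kernel
theorem ck_1311 : chkURangeF D C relF 796 1237356000 2684928 2048 = true := by decide +kernel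
theorem ck_1312 : chkURangeF D C relF 796 1237356000 2686976 2048 = true := by decide +kernel
theorem ck_1313 : chkURangeF D C relF 796 1237356000 2689024 2048 = true := by decide +kernel
theorem ck_1314 : chkURangeF D C relF 796 1237356000 2691072 2048 = true := by decide +kernel
theorem ck_1315 : chkURangeF D C relF 796 1237356000 2693120 2048 = true := by decide +kernel
theorem ck_1316 : chkURangeF D C relF 796 1237356000 2695168 2048 = true := by decide +kernel
theorem ck_1317 : chkURangeF D C relF 796 1237356000 2697216 2048 = true := by decide +kernel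
theorem ck_1318 : chkURangeF D C relF 796 1237356000 2699264 2048 = true := by decide +kernel
theorem ck_1319 : chkURangeF D C relF 796 1237356000 2701312 2048 = true := by decide +kernel
theorem chkU_54 (b : ℕ) (h1 : 2654208 ≤ b) (h2 : b < 2703360) : chkU D C b = true := by
  rcases Nat.lt_or_ge b 2656256 with g0 | g0
  · exact chkURangeF_spec C relF_hyp 1237356000 tc_eq 2654208 2048 ck_1296 b (by omega) (by omega)
  rcases Nat.lt_or_ge b 2658304 with g1 | g1
  · exact chkURangeF_spec C relF_hyp 1237356000 tc_eq 2656256 2048 ck_1297 b (by omega) (by omega)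
  rcases Nat.lt_or_ge b 2660352 with g2 | g2
  · exact chkURangeF_spec C relF_hyp 1237356000 tc_eq 2658304 2048 ck_1298 b (by omega) (by omega)
  rcases Nat.lt_or_ge b 2662400 with g3 | g3
  · exact chkURangeF_spec C relF_hyp 1237356000 tc_eq 2660352 2048 ck_1299 b (by omega) (by omega)
  rcases Nat.lt_or_ge b 2664448 with g4 | g4
  · exact chkURangeF_spec C relF_hyp 1237356000 tc_eq 2662400 2048 ck_1300 b (by omega) (by omega)
  rcases Nat.lt_or_ge b 2666496 with g5 | g5
  · exact chkURangeF_spec C relF_hyp 1237356000 tc_eq 2664448 2048 ck_1301 b (by omega) (by omega)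
  rcases Nat.lt_or_ge b 2668544 with g6 | g6
  · exact chkURangeF_spec C relF_hyp 1237356000 tc_eq 2666496 2048 ck_1302 b (by omega) (by omega)
  rcases Nat.lt_or_ge b 2670592 with g7 | g7
  · exact chkURangeF_spec C relF_hyp 1237356000 tc_eq 2668544 2048 ck_1303 b (by omega) (by omega)
  rcases Nat.lt_or_ge b 2672640 with g8 | g8
  · exact chkURangeF_spec C relF_hyp 1237356000 tc_eq 2670592 2048 ck_1304 b (by omega) (by omega)
  rcases Nat.lt_or_ge b 2674688 with g9 | g9
  · exact chkURangeF_spec C relF_hyp 1237356000 tc_eq 2672640 2048 ck_1305 b (by omega) (by omega)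
  rcases Nat.lt_or_ge b 2676736 with g10 | g10
  · exact chkURangeF_spec C relF_hyp 1237356000 tc_eq 2674688 2048 ck_1306 b (by omega) (by omega)
  rcases Nat.lt_or_ge b 2678784 with g11 | g11
  · exact chkURangeF_spec C relF_hyp 1237356000 tc_eq 2676736 2048 ck_1307 b (by omega) (by omega)
  rcases Nat.lt_or_ge b 2680832 with g12 | g12
  · exact chkURangeF_spec C relF_hyp 1237356000 tc_eq 2678784 2048 ck_1308 b (by omega) (by omega)
  rcases Nat.lt_or_ge b 2682880 with g13 | g13
  · exact chkURangeF_spec C relF_hyp 1237356000 tc_eq 2680832 2048 ck_1309 b (by omega) (by omega)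
  rcases Nat.lt_or_ge b 2684928 with g14 | g14
  · exact chkURangeF_spec C relF_hyp 1237356000 tc_eq 2682880 2048 ck_1310 b (by omega) (by omega)
  rcases Nat.lt_or_ge b 2686976 with g15 | g15
  · exact chkURangeF_spec C relF_hyp 1237356000 tc_eq 2684928 2048 ck_1311 b (by omega) (by omega)
  rcases Nat.lt_or_ge b 2689024 with g16 | g16
  · exact chkURangeF_spec C relF_hyp 1237356000 tc_eq 2686976 2048 ck_1312 b (by omega) (by omega)
  rcases Nat.lt_or_ge b 2691072 with g17 | g17
  · exact chkURangeF_spec C relF_hyp 1237356000 tc_eq 2689024 2048 ck_1313 b (by omega) (by omega)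
  rcases Nat.lt_or_ge b 2693120 with g18 | g18
  · exact chkURangeF_spec C relF_hyp 1237356000 tc_eq 2691072 2048 ck_1314 b (by omega) (by omega)
  rcases Nat.lt_or_ge b 2695168 with g19 | g19
  · exact chkURangeF_spec C relF_hyp 1237356000 tc_eq 2693120 2048 ck_1315 b (by omega) (by omega)
  rcases Nat.lt_or_ge b 2697216 with g20 | g20
  · exact chkURangeF_spec C relF_hyp 1237356000 tc_eq 2695168 2048 ck_1316 b (by omega) (by omega)
  rcases Nat.lt_or_ge b 2699264 with g21 | g21
  · exact chkURangeF_spec C relF_hyp 1237356000 tc_eq 2697216 2048 ck_1317 b (by omega) (by omega)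
  rcases Nat.lt_or_ge b 2701312 with g22 | g22
  · exact chkURangeF_spec C relF_hyp 1237356000 tc_eq 2699264 2048 ck_1318 b (by omega) (by omega)
  exact chkURangeF_spec C relF_hyp 1237356000 tc_eq 2701312 2048 ck_1319 b (by omega) (by omega)
end Cfsg.Agent.Lib.Helper2.HNMult.P3
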