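import Cfsg.Agent.Lib.Helper2.HNMult.P3.Cert
set_option autoImplicit false
set_option maxRecDepth 1000000
set_option Elab.async false
namespace Cfsg.Agent.Lib.Helper2.HNMult.P3
open Cfsg.Agent.Lib.Helper4.Sparse Cfsg.Agent.Lib.Helper2.SparseF
theorem ck_1368 : chkURangeF D C relF 796 1237356000 2801664 2048 = true := by decide +kernel
theorem ck_1369 : chkURangeF D C relF 796 1237356000 2803712 2048 = true := by decide +kernel
theorem ck_1370 : chkURangeF D C relF 796 1237356000 2805760 2048 = true := by decide +kernel
theorem ck_1371 : chkURangeF D C relF 796 1237356000 2807808 2048 = true := by decide +kernel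
theorem ck_1372 : chkURangeF D C relF 796 1237356000 2809856 2048 = true := by decide +kernel
theorem ck_1373 : chkURangeF D C relF 796 1237356000 2811904 2048 = true := by decide +kernel
theorem ck_1374 : chkURangeF D C relF 796 1237356000 2813952 2048 = true := by decide +kernel
theorem ck_1375 : chkURangeF D C relF 796 1237356000 2816000 2048 = true := by decide +kernel
theorem ck_1376 : chkURangeF D C relF 796 1237356000 2818048 2048 = true := by decide +kernel
theorem ck_1377 : chkURangeF D C relF 796 1237356000 2820096 2048 = true := by decide +kernel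
theorem ck_1378 : chkURangeF D C relF 796 1237356000 2822144 2048 = true := by decide +kernel
theorem ck_1379 : chkURangeF D C relF 796 1237356000 2824192 2048 = true := by decide +kernel
theorem ck_1380 : chkURangeF D C relF 796 1237356000 2826240 2048 = true := by decide +kernel
theorem ck_1381 : chkURangeF D C relF 796 1237356000 2828288 2048 = true := by decide +kernel
theorem ck_1382 : chkURangeF D C relF 796 1237356000 2830336 2048 = true := by decide +kernel
theorem ck_1383 : chkURangeF D C relF 796 1237356000 2832384 2048 = true := by decide +kernel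
theorem ck_1384 : chkURangeF D C relF 796 1237356000 2834432 2048 = true := by decide +kernel
theorem ck_1385 : chkURangeF D C relF 796 1237356000 2836480 2048 = true := by decide +kernel
theorem ck_1386 : chkURangeF D C relF 796 1237356000 2838528 2048 = true := by decide +kernel
theorem ck_1387 : chkURangeF D C relF 796 1237356000 2840576 2048 = true := by decide +kernel
theorem ck_1388 : chkURangeF D C relF 796 1237356000 2842624 2048 = true := by decide +kernel
theorem ck_1389 : chkURangeF D C relF 796 1237356000 2844672 2048 = true := by decide +kernel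
theorem ck_1390 : chkURangeF D C relF 796 1237356000 2846720 2048 = true := by decide +kernel
theorem ck_1391 : chkURangeF D C relF 796 1237356000 2848768 2048 = true := by decide +kernel
theorem chkU_57 (b : ℕ) (h1 : 2801664 ≤ b) (h2 : b < 2850816) : chkU D C b = true := by
  rcases Nat.lt_or_ge b 2803712 with g0 | g0
  · exact chkURangeF_spec C relF_hyp 1237356000 tc_eq 2801664 2048 ck_1368 b (by omega) (by omega)
  rcases Nat.lt_or_ge b 2805760 with g1 | g1
  · exact chkURangeF_spec C relF_hyp 1237356000 tc_eq 2803712 2048 ck_1369 b (by omega) (by omega)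
  rcases Nat.lt_or_ge b 2807808 with g2 | g2
  · exact chkURangeF_spec C relF_hyp 1237356000 tc_eq 2805760 2048 ck_1370 b (by omega) (by omega)
  rcases Nat.lt_or_ge b 2809856 with g3 | g3
  · exact chkURangeF_spec C relF_hyp 1237356000 tc_eq 2807808 2048 ck_1371 b (by omega) (by omega)
  rcases Nat.lt_or_ge b 2811904 with g4 | g4
  · exact chkURangeF_spec C relF_hyp 1237356000 tc_eq 2809856 2048 ck_1372 b (by omega) (by omega)
  rcases Nat.lt_or_ge b 2813952 with g5 | g5
  · exact chkURangeF_spec C relF_hyp 1237356000 tc_eq 2811904 2048 ck_1373 b (by omega) (by omega)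
  rcases Nat.lt_or_ge b 2816000 with g6 | g6
  · exact chkURangeF_spec C relF_hyp 1237356000 tc_eq 2813952 2048 ck_1374 b (by omega) (by omega)
  rcases Nat.lt_or_ge b 2818048 with g7 | g7
  · exact chkURangeF_spec C relF_hyp 1237356000 tc_eq 2816000 2048 ck_1375 b (by omega) (by omega)
  rcases Nat.lt_or_ge b 2820096 with g8 | g8
  · exact chkURangeF_spec C relF_hyp 1237356000 tc_eq 2818048 2048 ck_1376 b (by omega) (by omega)
  rcases Nat.lt_or_ge b 2822144 with g9 | g9
  · exact chkURangeF_spec C relF_hyp 1237356000 tc_eq 2820096 2048 ck_1377 b (by omega) (by omega)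
  rcases Nat.lt_or_ge b 2824192 with g10 | g10
  · exact chkURangeF_spec C relF_hyp 1237356000 tc_eq 2822144 2048 ck_1378 b (by omega) (by omega)
  rcases Nat.lt_or_ge b 2826240 with g11 | g11
  · exact chkURangeF_spec C relF_hyp 1237356000 tc_eq 2824192 2048 ck_1379 b (by omega) (by omega)
  rcases Nat.lt_or_ge b 2828288 with g12 | g12
  · exact chkURangeF_spec C relF_hyp 1237356000 tc_eq 2826240 2048 ck_1380 b (by omega) (by omega)
  rcases Nat.lt_or_ge b 2830336 with g13 | g13
  · exact chkURangeF_spec C relF_hyp 1237356000 tc_eq 2828288 2048 ck_1381 b (by omega) (by omega)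
  rcases Nat.lt_or_ge b 2832384 with g14 | g14
  · exact chkURangeF_spec C relF_hyp 1237356000 tc_eq 2830336 2048 ck_1382 b (by omega) (by omega)
  rcases Nat.lt_or_ge b 2834432 with g15 | g15
  · exact chkURangeF_spec C relF_hyp 1237356000 tc_eq 2832384 2048 ck_1383 b (by omega) (by omega)
  rcases Nat.lt_or_ge b 2836480 with g16 | g16
  · exact chkURangeF_spec C relF_hyp 1237356000 tc_eq 2834432 2048 ck_1384 b (by omega) (by omega)
  rcases Nat.lt_or_ge b 2838528 with g17 | g17
  · exact chkURangeF_spec C relF_hyp 1237356000 tc_eq 2836480 2048 ck_1385 b (by omega) (by omega)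
  rcases Nat.lt_or_ge b 2840576 with g18 | g18
  · exact chkURangeF_spec C relF_hyp 1237356000 tc_eq 2838528 2048 ck_1386 b (by omega) (by omega)
  rcases Nat.lt_or_ge b 2842624 with g19 | g19
  · exact chkURangeF_spec C relF_hyp 1237356000 tc_eq 2840576 2048 ck_1387 b (by omega) (by omega)
  rcases Nat.lt_or_ge b 2844672 with g20 | g20
  · exact chkURangeF_spec C relF_hyp 1237356000 tc_eq 2842624 2048 ck_1388 b (by omega) (by omega)
  rcases Nat.lt_or_ge b 2846720 with g21 | g21
  · exact chkURangeF_spec C relF_hyp 1237356000 tc_eq 2844672 2048 ck_1389 b (by omega) (by omega)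
  rcases Nat.lt_or_ge b 2848768 with g22 | g22
  · exact chkURangeF_spec C relF_hyp 1237356000 tc_eq 2846720 2048 ck_1390 b (by omega) (by omega)
  exact chkURangeF_spec C relF_hyp 1237356000 tc_eq 2848768 2048 ck_1391 b (by omega) (by omega)
end Cfsg.Agent.Lib.Helper2.HNMult.P3
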