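import Cfsg.Agent.Lib.Helper2.HNMult.P3.Cert
set_option autoImplicit false
set_option maxRecDepth 1000000
set_option Elab.async false
namespace Cfsg.Agent.Lib.Helper2.HNMult.P3
open Cfsg.Agent.Lib.Helper4.Sparse Cfsg.Agent.Lib.Helper2.SparseF
theorem ck_1392 : chkURangeF D C relF 796 1237356000 2850816 2048 = true := by decide +kernel
theorem ck_1393 : chkURangeF D C relF 796 1237356000 2852864 2048 = true := by decide +kernel
theorem ck_1394 : chkURangeF D C relF 796 1237356000 2854912 2048 = true := by decide +kernel
theorem ck_1395 : chkURangeF D C relF 796 1237356000 2856960 2048 = true := by decide +kernel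
theorem ck_1396 : chkURangeF D C relF 796 1237356000 2859008 2048 = true := by decide +kernel
theorem ck_1397 : chkURangeF D C relF 796 1237356000 2861056 2048 = true := by decide +kernel
theorem ck_1398 : chkURangeF D C relF 796 1237356000 2863104 2048 = true := by decide +kernel
theorem ck_1399 : chkURangeF D C relF 796 1237356000 2865152 2048 = true := by decide +kernel
theorem ck_1400 : chkURangeF D C relF 796 1237356000 2867200 2048 = true := by decide +kernel
theorem ck_1401 : chkURangeF D C relF 796 1237356000 2869248 2048 = true := by decide +kernel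
theorem ck_1402 : chkURangeF D C relF 796 1237356000 2871296 2048 = true := by decide +kernel
theorem ck_1403 : chkURangeF D C relF 796 1237356000 2873344 2048 = true := by decide +kernel
theorem ck_1404 : chkURangeF D C relF 796 1237356000 2875392 2048 = true := by decide +kernel
theorem ck_1405 : chkURangeF D C relF 796 1237356000 2877440 2048 = true := by decide +kernel
theorem ck_1406 : chkURangeF D C relF 796 1237356000 2879488 2048 = true := by decide +kernel
theorem ck_1407 : chkURangeF D C relF 796 1237356000 2881536 2048 = true := by decide +kernel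
theorem ck_1408 : chkURangeF D C relF 796 1237356000 2883584 2048 = true := by decide +kernel
theorem ck_1409 : chkURangeF D C relF 796 1237356000 2885632 2048 = true := by decide +kernel
theorem ck_1410 : chkURangeF D C relF 796 1237356000 2887680 2048 = true := by decide +kernel
theorem ck_1411 : chkURangeF D C relF 796 1237356000 2889728 2048 = true := by decide +kernel
theorem ck_1412 : chkURangeF D C relF 796 1237356000 2891776 2048 = true := by decide +kernel
theorem ck_1413 : chkURangeF D C relF 796 1237356000 2893824 2048 = true := by decide +kernel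
theorem ck_1414 : chkURangeF D C relF 796 1237356000 2895872 2048 = true := by decide +kernel
theorem ck_1415 : chkURangeF D C relF 796 1237356000 2897920 2048 = true := by decide +kernel
theorem chkU_58 (b : ℕ) (h1 : 2850816 ≤ b) (h2 : b < 2899968) : chkU D C b = true := by
  rcases Nat.lt_or_ge b 2852864 with g0 | g0
  · exact chkURangeF_spec C relF_hyp 1237356000 tc_eq 2850816 2048 ck_1392 b (by omega) (by omega)
  rcases Nat.lt_or_ge b 2854912 with g1 | g1
  · exact chkURangeF_spec C relF_hyp 1237356000 tc_eq 2852864 2048 ck_1393 b (by omega) (by omega)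
  rcases Nat.lt_or_ge b 2856960 with g2 | g2
  · exact chkURangeF_spec C relF_hyp 1237356000 tc_eq 2854912 2048 ck_1394 b (by omega) (by omega)
  rcases Nat.lt_or_ge b 2859008 with g3 | g3
  · exact chkURangeF_spec C relF_hyp 1237356000 tc_eq 2856960 2048 ck_1395 b (by omega) (by omega)
  rcases Nat.lt_or_ge b 2861056 with g4 | g4
  · exact chkURangeF_spec C relF_hyp 1237356000 tc_eq 2859008 2048 ck_1396 b (by omega) (by omega)
  rcases Nat.lt_or_ge b 2863104 with g5 | g5
  · exact chkURangeF_spec C relF_hyp 1237356000 tc_eq 2861056 2048 ck_1397 b (by omega) (by omega)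
  rcases Nat.lt_or_ge b 2865152 with g6 | g6
  · exact chkURangeF_spec C relF_hyp 1237356000 tc_eq 2863104 2048 ck_1398 b (by omega) (by omega)
  rcases Nat.lt_or_ge b 2867200 with g7 | g7
  · exact chkURangeF_spec C relF_hyp 1237356000 tc_eq 2865152 2048 ck_1399 b (by omega) (by omega)
  rcases Nat.lt_or_ge b 2869248 with g8 | g8
  · exact chkURangeF_spec C relF_hyp 1237356000 tc_eq 2867200 2048 ck_1400 b (by omega) (by omega)
  rcases Nat.lt_or_ge b 2871296 with g9 | g9
  · exact chkURangeF_spec C relF_hyp 1237356000 tc_eq 2869248 2048 ck_1401 b (by omega) (by omega)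
  rcases Nat.lt_or_ge b 2873344 with g10 | g10
  · exact chkURangeF_spec C relF_hyp 1237356000 tc_eq 2871296 2048 ck_1402 b (by omega) (by omega)
  rcases Nat.lt_or_ge b 2875392 with g11 | g11
  · exact chkURangeF_spec C relF_hyp 1237356000 tc_eq 2873344 2048 ck_1403 b (by omega) (by omega)
  rcases Nat.lt_or_ge b 2877440 with g12 | g12
  · exact chkURangeF_spec C relF_hyp 1237356000 tc_eq 2875392 2048 ck_1404 b (by omega) (by omega)
  rcases Nat.lt_or_ge b 2879488 with g13 | g13
  · exact chkURangeF_spec C relF_hyp 1237356000 tc_eq 2877440 2048 ck_1405 b (by omega) (by omega)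
  rcases Nat.lt_or_ge b 2881536 with g14 | g14
  · exact chkURangeF_spec C relF_hyp 1237356000 tc_eq 2879488 2048 ck_1406 b (by omega) (by omega)
  rcases Nat.lt_or_ge b 2883584 with g15 | g15
  · exact chkURangeF_spec C relF_hyp 1237356000 tc_eq 2881536 2048 ck_1407 b (by omega) (by omega)
  rcases Nat.lt_or_ge b 2885632 with g16 | g16
  · exact chkURangeF_spec C relF_hyp 1237356000 tc_eq 2883584 2048 ck_1408 b (by omega) (by omega)
  rcases Nat.lt_or_ge b 2887680 with g17 | g17
  · exact chkURangeF_spec C relF_hyp 1237356000 tc_eq 2885632 2048 ck_1409 b (by omega) (by omega)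
  rcases Nat.lt_or_ge b 2889728 with g18 | g18
  · exact chkURangeF_spec C relF_hyp 1237356000 tc_eq 2887680 2048 ck_1410 b (by omega) (by omega)
  rcases Nat.lt_or_ge b 2891776 with g19 | g19
  · exact chkURangeF_spec C relF_hyp 1237356000 tc_eq 2889728 2048 ck_1411 b (by omega) (by omega)
  rcases Nat.lt_or_ge b 2893824 with g20 | g20
  · exact chkURangeF_spec C relF_hyp 1237356000 tc_eq 2891776 2048 ck_1412 b (by omega) (by omega)
  rcases Nat.lt_or_ge b 2895872 with g21 | g21
  · exact chkURangeF_spec C relF_hyp 1237356000 tc_eq 2893824 2048 ck_1413 b (by omega) (by omega)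
  rcases Nat.lt_or_ge b 2897920 with g22 | g22
  · exact chkURangeF_spec C relF_hyp 1237356000 tc_eq 2895872 2048 ck_1414 b (by omega) (by omega)
  exact chkURangeF_spec C relF_hyp 1237356000 tc_eq 2897920 2048 ck_1415 b (by omega) (by omega)
end Cfsg.Agent.Lib.Helper2.HNMult.P3
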