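import Cfsg.Agent.Lib.Helper2.HNMult.P3.Cert
set_option autoImplicit false
set_option maxRecDepth 1000000
set_option Elab.async false
namespace Cfsg.Agent.Lib.Helper2.HNMult.P3
open Cfsg.Agent.Lib.Helper4.Sparse Cfsg.Agent.Lib.Helper2.SparseF
theorem ck_144 : chkURangeF D C relF 796 1237356000 294912 2048 = true := by decide +kernel
theorem ck_145 : chkURangeF D C relF 796 1237356000 296960 2048 = true := by decide +kernel
theorem ck_146 : chkURangeF D C relF 796 1237356000 299008 2048 = true := by decide +kernel
theorem ck_147 : chkURangeF D C relF 796 1237356000 301056 2048 = true := by decide +kernel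
theorem ck_148 : chkURangeF D C relF 796 1237356000 303104 2048 = true := by decide +kernel
theorem ck_149 : chkURangeF D C relF 796 1237356000 305152 2048 = true := by decide +kernel
theorem ck_150 : chkURangeF D C relF 796 1237356000 307200 2048 = true := by decide +kernel
theorem ck_151 : chkURangeF D C relF 796 1237356000 309248 2048 = true := by decide +kernel
theorem ck_152 : chkURangeF D C relF 796 1237356000 311296 2048 = true := by decide +kernel
theorem ck_153 : chkURangeF D C relF 796 1237356000 313344 2048 = true := by decide +kernel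
theorem ck_154 : chkURangeF D C relF 796 1237356000 315392 2048 = true := by decide +kernel
theorem ck_155 : chkURangeF D C relF 796 1237356000 317440 2048 = true := by decide +kernel
theorem ck_156 : chkURangeF D C relF 796 1237356000 319488 2048 = true := by decide +kernel
theorem ck_157 : chkURangeF D C relF 796 1237356000 321536 2048 = true := by decide +kernel
theorem ck_158 : chkURangeF D C relF 796 1237356000 323584 2048 = true := by decide +kernel
theorem ck_159 : chkURangeF D C relF 796 1237356000 325632 2048 = true := by decide +kernel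
theorem ck_160 : chkURangeF D C relF 796 1237356000 327680 2048 = true := by decide +kernel
theorem ck_161 : chkURangeF D C relF 796 1237356000 329728 2048 = true := by decide +kernel
theorem ck_162 : chkURangeF D C relF 796 1237356000 331776 2048 = true := by decide +kernel
theorem ck_163 : chkURangeF D C relF 796 1237356000 333824 2048 = true := by decide +kernel
theorem ck_164 : chkURangeF D C relF 796 1237356000 335872 2048 = true := by decide +kernel
theorem ck_165 : chkURangeF D C relF 796 1237356000 337920 2048 = true := by decide +kernel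
theorem ck_166 : chkURangeF D C relF 796 1237356000 339968 2048 = true := by decide +kernel
theorem ck_167 : chkURangeF D C relF 796 1237356000 342016 2048 = true := by decide +kernel
theorem chkU_6 (b : ℕ) (h1 : 294912 ≤ b) (h2 : b < 344064) : chkU D C b = true := by
  rcases Nat.lt_or_ge b 296960 with g0 | g0
  · exact chkURangeF_spec C relF_hyp 1237356000 tc_eq 294912 2048 ck_144 b (by omega) (by omega)
  rcases Nat.lt_or_ge b 299008 with g1 | g1
  · exact chkURangeF_spec C relF_hyp 1237356000 tc_eq 296960 2048 ck_145 b (by omega) (by omega)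
  rcases Nat.lt_or_ge b 301056 with g2 | g2
  · exact chkURangeF_spec C relF_hyp 1237356000 tc_eq 299008 2048 ck_146 b (by omega) (by omega)
  rcases Nat.lt_or_ge b 303104 with g3 | g3
  · exact chkURangeF_spec C relF_hyp 1237356000 tc_eq 301056 2048 ck_147 b (by omega) (by omega)
  rcases Nat.lt_or_ge b 305152 with g4 | g4
  · exact chkURangeF_spec C relF_hyp 1237356000 tc_eq 303104 2048 ck_148 b (by omega) (by omega)
  rcases Nat.lt_or_ge b 307200 with g5 | g5
  · exact chkURangeF_spec C relF_hyp 1237356000 tc_eq 305152 2048 ck_149 b (by omega) (by omega)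
  rcases Nat.lt_or_ge b 309248 with g6 | g6
  · exact chkURangeF_spec C relF_hyp 1237356000 tc_eq 307200 2048 ck_150 b (by omega) (by omega)
  rcases Nat.lt_or_ge b 311296 with g7 | g7
  · exact chkURangeF_spec C relF_hyp 1237356000 tc_eq 309248 2048 ck_151 b (by omega) (by omega)
  rcases Nat.lt_or_ge b 313344 with g8 | g8
  · exact chkURangeF_spec C relF_hyp 1237356000 tc_eq 311296 2048 ck_152 b (by omega) (by omega)
  rcases Nat.lt_or_ge b 315392 with g9 | g9
  · exact chkURangeF_spec C relF_hyp 1237356000 tc_eq 313344 2048 ck_153 b (by omega) (by omega)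
  rcases Nat.lt_or_ge b 317440 with g10 | g10
  · exact chkURangeF_spec C relF_hyp 1237356000 tc_eq 315392 2048 ck_154 b (by omega) (by omega)
  rcases Nat.lt_or_ge b 319488 with g11 | g11
  · exact chkURangeF_spec C relF_hyp 1237356000 tc_eq 317440 2048 ck_155 b (by omega) (by omega)
  rcases Nat.lt_or_ge b 321536 with g12 | g12
  · exact chkURangeF_spec C relF_hyp 1237356000 tc_eq 319488 2048 ck_156 b (by omega) (by omega)
  rcases Nat.lt_or_ge b 323584 with g13 | g13
  · exact chkURangeF_spec C relF_hyp 1237356000 tc_eq 321536 2048 ck_157 b (by omega) (by omega)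
  rcases Nat.lt_or_ge b 325632 with g14 | g14
  · exact chkURangeF_spec C relF_hyp 1237356000 tc_eq 323584 2048 ck_158 b (by omega) (by omega)
  rcases Nat.lt_or_ge b 327680 with g15 | g15
  · exact chkURangeF_spec C relF_hyp 1237356000 tc_eq 325632 2048 ck_159 b (by omega) (by omega)
  rcases Nat.lt_or_ge b 329728 with g16 | g16
  · exact chkURangeF_spec C relF_hyp 1237356000 tc_eq 327680 2048 ck_160 b (by omega) (by omega)
  rcases Nat.lt_or_ge b 331776 with g17 | g17
  · exact chkURangeF_spec C relF_hyp 1237356000 tc_eq 329728 2048 ck_161 b (by omega) (by omega)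
  rcases Nat.lt_or_ge b 333824 with g18 | g18
  · exact chkURangeF_spec C relF_hyp 1237356000 tc_eq 331776 2048 ck_162 b (by omega) (by omega)
  rcases Nat.lt_or_ge b 335872 with g19 | g19
  · exact chkURangeF_spec C relF_hyp 1237356000 tc_eq 333824 2048 ck_163 b (by omega) (by omega)
  rcases Nat.lt_or_ge b 337920 with g20 | g20
  · exact chkURangeF_spec C relF_hyp 1237356000 tc_eq 335872 2048 ck_164 b (by omega) (by omega)
  rcases Nat.lt_or_ge b 339968 with g21 | g21
  · exact chkURangeF_spec C relF_hyp 1237356000 tc_eq 337920 2048 ck_165 b (by omega) (by omega)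
  rcases Nat.lt_or_ge b 342016 with g22 | g22
  · exact chkURangeF_spec C relF_hyp 1237356000 tc_eq 339968 2048 ck_166 b (by omega) (by omega)
  exact chkURangeF_spec C relF_hyp 1237356000 tc_eq 342016 2048 ck_167 b (by omega) (by omega)
end Cfsg.Agent.Lib.Helper2.HNMult.P3
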