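import Cfsg.Agent.Lib.Helper2.HNMult.P3.Cert
set_option autoImplicit false
set_option maxRecDepth 1000000
set_option Elab.async false
namespace Cfsg.Agent.Lib.Helper2.HNMult.P3
open Cfsg.Agent.Lib.Helper4.Sparse Cfsg.Agent.Lib.Helper2.SparseF
theorem ck_1488 : chkURangeF D C relF 796 1237356000 3047424 2048 = true := by decide +kernel
theorem ck_1489 : chkURangeF D C relF 796 1237356000 3049472 2048 = true := by decide +kernel
theorem ck_1490 : chkURangeF D C relF 796 1237356000 3051520 2048 = true := by decide +kernel
theorem ck_1491 : chkURangeF D C relF 796 1237356000 3053568 2048 = true := by decide +kernel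
theorem ck_1492 : chkURangeF D C relF 796 1237356000 3055616 2048 = true := by decide +kernel
theorem ck_1493 : chkURangeF D C relF 796 1237356000 3057664 2048 = true := by decide +kernel
theorem ck_1494 : chkURangeF D C relF 796 1237356000 3059712 2048 = true := by decide +kernel
theorem ck_1495 : chkURangeF D C relF 796 1237356000 3061760 2048 = true := by decide +kernel
theorem ck_1496 : chkURangeF D C relF 796 1237356000 3063808 2048 = true := by decide +kernel
theorem ck_1497 : chkURangeF D C relF 796 1237356000 3065856 2048 = true := by decide +kernel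
theorem ck_1498 : chkURangeF D C relF 796 1237356000 3067904 2048 = true := by decide +kernel
theorem ck_1499 : chkURangeF D C relF 796 1237356000 3069952 2048 = true := by decide +kernel
theorem ck_1500 : chkURangeF D C relF 796 1237356000 3072000 2048 = true := by decide +kernel
theorem ck_1501 : chkURangeF D C relF 796 1237356000 3074048 2048 = true := by decide +kernel
theorem ck_1502 : chkURangeF D C relF 796 1237356000 3076096 2048 = true := by decide +kernel
theorem ck_1503 : chkURangeF D C relF 796 1237356000 3078144 2048 = true := by decide +kernel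
theorem ck_1504 : chkURangeF D C relF 796 1237356000 3080192 2048 = true := by decide +kernel
theorem ck_1505 : chkURangeF D C relF 796 1237356000 3082240 2048 = true := by decide +kernel
theorem ck_1506 : chkURangeF D C relF 796 1237356000 3084288 2048 = true := by decide +kernel
theorem ck_1507 : chkURangeF D C relF 796 1237356000 3086336 2048 = true := by decide +kernel
theorem ck_1508 : chkURangeF D C relF 796 1237356000 3088384 2048 = true := by decide +kernel
theorem ck_1509 : chkURangeF D C relF 796 1237356000 3090432 2048 = true := by decide +kernel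
theorem ck_1510 : chkURangeF D C relF 796 1237356000 3092480 2048 = true := by decide +kernel
theorem ck_1511 : chkURangeF D C relF 796 1237356000 3094528 2048 = true := by decide +kernel
theorem chkU_62 (b : ℕ) (h1 : 3047424 ≤ b) (h2 : b < 3096576) : chkU D C b = true := by
  rcases Nat.lt_or_ge b 3049472 with g0 | g0
  · exact chkURangeF_spec C relF_hyp 1237356000 tc_eq 3047424 2048 ck_1488 b (by omega) (by omega)
  rcases Nat.lt_or_ge b 3051520 with g1 | g1
  · exact chkURangeF_spec C relF_hyp 1237356000 tc_eq 3049472 2048 ck_1489 b (by omega) (by omega)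
  rcases Nat.lt_or_ge b 3053568 with g2 | g2
  · exact chkURangeF_spec C relF_hyp 1237356000 tc_eq 3051520 2048 ck_1490 b (by omega) (by omega)
  rcases Nat.lt_or_ge b 3055616 with g3 | g3
  · exact chkURangeF_spec C relF_hyp 1237356000 tc_eq 3053568 2048 ck_1491 b (by omega) (by omega)
  rcases Nat.lt_or_ge b 3057664 with g4 | g4
  · exact chkURangeF_spec C relF_hyp 1237356000 tc_eq 3055616 2048 ck_1492 b (by omega) (by omega)
  rcases Nat.lt_or_ge b 3059712 with g5 | g5
  · exact chkURangeF_spec C relF_hyp 1237356000 tc_eq 3057664 2048 ck_1493 b (by omega) (by omega)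
  rcases Nat.lt_or_ge b 3061760 with g6 | g6
  · exact chkURangeF_spec C relF_hyp 1237356000 tc_eq 3059712 2048 ck_1494 b (by omega) (by omega)
  rcases Nat.lt_or_ge b 3063808 with g7 | g7
  · exact chkURangeF_spec C relF_hyp 1237356000 tc_eq 3061760 2048 ck_1495 b (by omega) (by omega)
  rcases Nat.lt_or_ge b 3065856 with g8 | g8
  · exact chkURangeF_spec C relF_hyp 1237356000 tc_eq 3063808 2048 ck_1496 b (by omega) (by omega)
  rcases Nat.lt_or_ge b 3067904 with g9 | g9
  · exact chkURangeF_spec C relF_hyp 1237356000 tc_eq 3065856 2048 ck_1497 b (by omega) (by omega)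
  rcases Nat.lt_or_ge b 3069952 with g10 | g10
  · exact chkURangeF_spec C relF_hyp 1237356000 tc_eq 3067904 2048 ck_1498 b (by omega) (by omega)
  rcases Nat.lt_or_ge b 3072000 with g11 | g11
  · exact chkURangeF_spec C relF_hyp 1237356000 tc_eq 3069952 2048 ck_1499 b (by omega) (by omega)
  rcases Nat.lt_or_ge b 3074048 with g12 | g12
  · exact chkURangeF_spec C relF_hyp 1237356000 tc_eq 3072000 2048 ck_1500 b (by omega) (by omega)
  rcases Nat.lt_or_ge b 3076096 with g13 | g13
  · exact chkURangeF_spec C relF_hyp 1237356000 tc_eq 3074048 2048 ck_1501 b (by omega) (by omega)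
  rcases Nat.lt_or_ge b 3078144 with g14 | g14
  · exact chkURangeF_spec C relF_hyp 1237356000 tc_eq 3076096 2048 ck_1502 b (by omega) (by omega)
  rcases Nat.lt_or_ge b 3080192 with g15 | g15
  · exact chkURangeF_spec C relF_hyp 1237356000 tc_eq 3078144 2048 ck_1503 b (by omega) (by omega)
  rcases Nat.lt_or_ge b 3082240 with g16 | g16
  · exact chkURangeF_spec C relF_hyp 1237356000 tc_eq 3080192 2048 ck_1504 b (by omega) (by omega)
  rcases Nat.lt_or_ge b 3084288 with g17 | g17
  · exact chkURangeF_spec C relF_hyp 1237356000 tc_eq 3082240 2048 ck_1505 b (by omega) (by omega)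
  rcases Nat.lt_or_ge b 3086336 with g18 | g18
  · exact chkURangeF_spec C relF_hyp 1237356000 tc_eq 3084288 2048 ck_1506 b (by omega) (by omega)
  rcases Nat.lt_or_ge b 3088384 with g19 | g19
  · exact chkURangeF_spec C relF_hyp 1237356000 tc_eq 3086336 2048 ck_1507 b (by omega) (by omega)
  rcases Nat.lt_or_ge b 3090432 with g20 | g20
  · exact chkURangeF_spec C relF_hyp 1237356000 tc_eq 3088384 2048 ck_1508 b (by omega) (by omega)
  rcases Nat.lt_or_ge b 3092480 with g21 | g21
  · exact chkURangeF_spec C relF_hyp 1237356000 tc_eq 3090432 2048 ck_1509 b (by omega) (by omega)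
  rcases Nat.lt_or_ge b 3094528 with g22 | g22
  · exact chkURangeF_spec C relF_hyp 1237356000 tc_eq 3092480 2048 ck_1510 b (by omega) (by omega)
  exact chkURangeF_spec C relF_hyp 1237356000 tc_eq 3094528 2048 ck_1511 b (by omega) (by omega)
end Cfsg.Agent.Lib.Helper2.HNMult.P3
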