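import Cfsg.Agent.Lib.Helper2.HNMult.P3.Cert
set_option autoImplicit false
set_option maxRecDepth 1000000
set_option Elab.async false
namespace Cfsg.Agent.Lib.Helper2.HNMult.P3
open Cfsg.Agent.Lib.Helper4.Sparse Cfsg.Agent.Lib.Helper2.SparseF
theorem ck_1584 : chkURangeF D C relF 796 1237356000 3244032 2048 = true := by decide +kernel
theorem ck_1585 : chkURangeF D C relF 796 1237356000 3246080 2048 = true := by decide +kernel
theorem ck_1586 : chkURangeF D C relF 796 1237356000 3248128 2048 = true := by decide +kernel
theorem ck_1587 : chkURangeF D C relF 796 1237356000 3250176 2048 = true := by decide +kernel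
theorem ck_1588 : chkURangeF D C relF 796 1237356000 3252224 2048 = true := by decide +kernel
theorem ck_1589 : chkURangeF D C relF 796 1237356000 3254272 2048 = true := by decide +kernel
theorem ck_1590 : chkURangeF D C relF 796 1237356000 3256320 2048 = true := by decide +kernel
theorem ck_1591 : chkURangeF D C relF 796 1237356000 3258368 2048 = true := by decide +kernel
theorem ck_1592 : chkURangeF D C relF 796 1237356000 3260416 2048 = true := by decide +kernel
theorem ck_1593 : chkURangeF D C relF 796 1237356000 3262464 2048 = true := by decide +kernel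
theorem ck_1594 : chkURangeF D C relF 796 1237356000 3264512 2048 = true := by decide +kernel
theorem ck_1595 : chkURangeF D C relF 796 1237356000 3266560 2048 = true := by decide +kernel
theorem ck_1596 : chkURangeF D C relF 796 1237356000 3268608 2048 = true := by decide +kernel
theorem ck_1597 : chkURangeF D C relF 796 1237356000 3270656 2048 = true := by decide +kernel
theorem ck_1598 : chkURangeF D C relF 796 1237356000 3272704 2048 = true := by decide +kernel
theorem ck_1599 : chkURangeF D C relF 796 1237356000 3274752 2048 = true := by decide +kernel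
theorem ck_1600 : chkURangeF D C relF 796 1237356000 3276800 2048 = true := by decide +kernel
theorem ck_1601 : chkURangeF D C relF 796 1237356000 3278848 2048 = true := by decide +kernel
theorem ck_1602 : chkURangeF D C relF 796 1237356000 3280896 2048 = true := by decide +kernel
theorem ck_1603 : chkURangeF D C relF 796 1237356000 3282944 2048 = true := by decide +kernel
theorem ck_1604 : chkURangeF D C relF 796 1237356000 3284992 2048 = true := by decide +kernel
theorem ck_1605 : chkURangeF D C relF 796 1237356000 3287040 2048 = true := by decide +kernel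
theorem ck_1606 : chkURangeF D C relF 796 1237356000 3289088 2048 = true := by decide +kernel
theorem ck_1607 : chkURangeF D C relF 796 1237356000 3291136 2048 = true := by decide +kernel
theorem chkU_66 (b : ℕ) (h1 : 3244032 ≤ b) (h2 : b < 3293184) : chkU D C b = true := by
  rcases Nat.lt_or_ge b 3246080 with g0 | g0
  · exact chkURangeF_spec C relF_hyp 1237356000 tc_eq 3244032 2048 ck_1584 b (by omega) (by omega)
  rcases Nat.lt_or_ge b 3248128 with g1 | g1
  · exact chkURangeF_spec C relF_hyp 1237356000 tc_eq 3246080 2048 ck_1585 b (by omega) (by omega)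
  rcases Nat.lt_or_ge b 3250176 with g2 | g2
  · exact chkURangeF_spec C relF_hyp 1237356000 tc_eq 3248128 2048 ck_1586 b (by omega) (by omega)
  rcases Nat.lt_or_ge b 3252224 with g3 | g3
  · exact chkURangeF_spec C relF_hyp 1237356000 tc_eq 3250176 2048 ck_1587 b (by omega) (by omega)
  rcases Nat.lt_or_ge b 3254272 with g4 | g4
  · exact chkURangeF_spec C relF_hyp 1237356000 tc_eq 3252224 2048 ck_1588 b (by omega) (by omega)
  rcases Nat.lt_or_ge b 3256320 with g5 | g5
  · exact chkURangeF_spec C relF_hyp 1237356000 tc_eq 3254272 2048 ck_1589 b (by omega) (by omega)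
  rcases Nat.lt_or_ge b 3258368 with g6 | g6
  · exact chkURangeF_spec C relF_hyp 1237356000 tc_eq 3256320 2048 ck_1590 b (by omega) (by omega)
  rcases Nat.lt_or_ge b 3260416 with g7 | g7
  · exact chkURangeF_spec C relF_hyp 1237356000 tc_eq 3258368 2048 ck_1591 b (by omega) (by omega)
  rcases Nat.lt_or_ge b 3262464 with g8 | g8
  · exact chkURangeF_spec C relF_hyp 1237356000 tc_eq 3260416 2048 ck_1592 b (by omega) (by omega)
  rcases Nat.lt_or_ge b 3264512 with g9 | g9
  · exact chkURangeF_spec C relF_hyp 1237356000 tc_eq 3262464 2048 ck_1593 b (by omega) (by omega)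
  rcases Nat.lt_or_ge b 3266560 with g10 | g10
  · exact chkURangeF_spec C relF_hyp 1237356000 tc_eq 3264512 2048 ck_1594 b (by omega) (by omega)
  rcases Nat.lt_or_ge b 3268608 with g11 | g11
  · exact chkURangeF_spec C relF_hyp 1237356000 tc_eq 3266560 2048 ck_1595 b (by omega) (by omega)
  rcases Nat.lt_or_ge b 3270656 with g12 | g12
  · exact chkURangeF_spec C relF_hyp 1237356000 tc_eq 3268608 2048 ck_1596 b (by omega) (by omega)
  rcases Nat.lt_or_ge b 3272704 with g13 | g13
  · exact chkURangeF_spec C relF_hyp 1237356000 tc_eq 3270656 2048 ck_1597 b (by omega) (by omega)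
  rcases Nat.lt_or_ge b 3274752 with g14 | g14
  · exact chkURangeF_spec C relF_hyp 1237356000 tc_eq 3272704 2048 ck_1598 b (by omega) (by omega)
  rcases Nat.lt_or_ge b 3276800 with g15 | g15
  · exact chkURangeF_spec C relF_hyp 1237356000 tc_eq 3274752 2048 ck_1599 b (by omega) (by omega)
  rcases Nat.lt_or_ge b 3278848 with g16 | g16
  · exact chkURangeF_spec C relF_hyp 1237356000 tc_eq 3276800 2048 ck_1600 b (by omega) (by omega)
  rcases Nat.lt_or_ge b 3280896 with g17 | g17
  · exact chkURangeF_spec C relF_hyp 1237356000 tc_eq 3278848 2048 ck_1601 b (by omega) (by omega)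
  rcases Nat.lt_or_ge b 3282944 with g18 | g18
  · exact chkURangeF_spec C relF_hyp 1237356000 tc_eq 3280896 2048 ck_1602 b (by omega) (by omega)
  rcases Nat.lt_or_ge b 3284992 with g19 | g19
  · exact chkURangeF_spec C relF_hyp 1237356000 tc_eq 3282944 2048 ck_1603 b (by omega) (by omega)
  rcases Nat.lt_or_ge b 3287040 with g20 | g20
  · exact chkURangeF_spec C relF_hyp 1237356000 tc_eq 3284992 2048 ck_1604 b (by omega) (by omega)
  rcases Nat.lt_or_ge b 3289088 with g21 | g21
  · exact chkURangeF_spec C relF_hyp 1237356000 tc_eq 3287040 2048 ck_1605 b (by omega) (by omega)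
  rcases Nat.lt_or_ge b 3291136 with g22 | g22
  · exact chkURangeF_spec C relF_hyp 1237356000 tc_eq 3289088 2048 ck_1606 b (by omega) (by omega)
  exact chkURangeF_spec C relF_hyp 1237356000 tc_eq 3291136 2048 ck_1607 b (by omega) (by omega)
end Cfsg.Agent.Lib.Helper2.HNMult.P3
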