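import Cfsg.Agent.Lib.Helper2.HNMult.P3.Cert
set_option autoImplicit false
set_option maxRecDepth 1000000
set_option Elab.async false
namespace Cfsg.Agent.Lib.Helper2.HNMult.P3
open Cfsg.Agent.Lib.Helper4.Sparse Cfsg.Agent.Lib.Helper2.SparseF
theorem ck_1656 : chkURangeF D C relF 796 1237356000 3391488 2048 = true := by decide +kernel
theorem ck_1657 : chkURangeF D C relF 796 1237356000 3393536 2048 = true := by decide +kernel
theorem ck_1658 : chkURangeF D C relF 796 1237356000 3395584 2048 = true := by decide +kernel
theorem ck_1659 : chkURangeF D C relF 796 1237356000 3397632 2048 = true := by decide +kernel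
theorem ck_1660 : chkURangeF D C relF 796 1237356000 3399680 2048 = true := by decide +kernel
theorem ck_1661 : chkURangeF D C relF 796 1237356000 3401728 2048 = true := by decide +kernel
theorem ck_1662 : chkURangeF D C relF 796 1237356000 3403776 2048 = true := by decide +kernel
theorem ck_1663 : chkURangeF D C relF 796 1237356000 3405824 2048 = true := by decide +kernel
theorem ck_1664 : chkURangeF D C relF 796 1237356000 3407872 2048 = true := by decide +kernel
theorem ck_1665 : chkURangeF D C relF 796 1237356000 3409920 2048 = true := by decide +kernel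
theorem ck_1666 : chkURangeF D C relF 796 1237356000 3411968 2048 = true := by decide +kernel
theorem ck_1667 : chkURangeF D C relF 796 1237356000 3414016 2048 = true := by decide +kernel
theorem ck_1668 : chkURangeF D C relF 796 1237356000 3416064 2048 = true := by decide +kernel
theorem ck_1669 : chkURangeF D C relF 796 1237356000 3418112 2048 = true := by decide +kernel
theorem ck_1670 : chkURangeF D C relF 796 1237356000 3420160 2048 = true := by decide +kernel
theorem ck_1671 : chkURangeF D C relF 796 1237356000 3422208 2048 = true := by decide +kernel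
theorem ck_1672 : chkURangeF D C relF 796 1237356000 3424256 2048 = true := by decide +kernel
theorem ck_1673 : chkURangeF D C relF 796 1237356000 3426304 2048 = true := by decide +kernel
theorem ck_1674 : chkURangeF D C relF 796 1237356000 3428352 2048 = true := by decide +kernel
theorem ck_1675 : chkURangeF D C relF 796 1237356000 3430400 2048 = true := by decide +kernel
theorem ck_1676 : chkURangeF D C relF 796 1237356000 3432448 2048 = true := by decide +kernel
theorem ck_1677 : chkURangeF D C relF 796 1237356000 3434496 2048 = true := by decide +kernel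
theorem ck_1678 : chkURangeF D C relF 796 1237356000 3436544 2048 = true := by decide +kernel
theorem ck_1679 : chkURangeF D C relF 796 1237356000 3438592 2048 = true := by decide +kernel
theorem chkU_69 (b : ℕ) (h1 : 3391488 ≤ b) (h2 : b < 3440640) : chkU D C b = true := by
  rcases Nat.lt_or_ge b 3393536 with g0 | g0
  · exact chkURangeF_spec C relF_hyp 1237356000 tc_eq 3391488 2048 ck_1656 b (by omega) (by omega)
  rcases Nat.lt_or_ge b 3395584 with g1 | g1
  · exact chkURangeF_spec C relF_hyp 1237356000 tc_eq 3393536 2048 ck_1657 b (by omega) (by omega)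
  rcases Nat.lt_or_ge b 3397632 with g2 | g2
  · exact chkURangeF_spec C relF_hyp 1237356000 tc_eq 3395584 2048 ck_1658 b (by omega) (by omega)
  rcases Nat.lt_or_ge b 3399680 with g3 | g3
  · exact chkURangeF_spec C relF_hyp 1237356000 tc_eq 3397632 2048 ck_1659 b (by omega) (by omega)
  rcases Nat.lt_or_ge b 3401728 with g4 | g4
  · exact chkURangeF_spec C relF_hyp 1237356000 tc_eq 3399680 2048 ck_1660 b (by omega) (by omega)
  rcases Nat.lt_or_ge b 3403776 with g5 | g5
  · exact chkURangeF_spec C relF_hyp 1237356000 tc_eq 3401728 2048 ck_1661 b (by omega) (by omega)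
  rcases Nat.lt_or_ge b 3405824 with g6 | g6
  · exact chkURangeF_spec C relF_hyp 1237356000 tc_eq 3403776 2048 ck_1662 b (by omega) (by omega)
  rcases Nat.lt_or_ge b 3407872 with g7 | g7
  · exact chkURangeF_spec C relF_hyp 1237356000 tc_eq 3405824 2048 ck_1663 b (by omega) (by omega)
  rcases Nat.lt_or_ge b 3409920 with g8 | g8
  · exact chkURangeF_spec C relF_hyp 1237356000 tc_eq 3407872 2048 ck_1664 b (by omega) (by omega)
  rcases Nat.lt_or_ge b 3411968 with g9 | g9
  · exact chkURangeF_spec C relF_hyp 1237356000 tc_eq 3409920 2048 ck_1665 b (by omega) (by omega)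
  rcases Nat.lt_or_ge b 3414016 with g10 | g10
  · exact chkURangeF_spec C relF_hyp 1237356000 tc_eq 3411968 2048 ck_1666 b (by omega) (by omega)
  rcases Nat.lt_or_ge b 3416064 with g11 | g11
  · exact chkURangeF_spec C relF_hyp 1237356000 tc_eq 3414016 2048 ck_1667 b (by omega) (by omega)
  rcases Nat.lt_or_ge b 3418112 with g12 | g12
  · exact chkURangeF_spec C relF_hyp 1237356000 tc_eq 3416064 2048 ck_1668 b (by omega) (by omega)
  rcases Nat.lt_or_ge b 3420160 with g13 | g13
  · exact chkURangeF_spec C relF_hyp 1237356000 tc_eq 3418112 2048 ck_1669 b (by omega) (by omega)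
  rcases Nat.lt_or_ge b 3422208 with g14 | g14
  · exact chkURangeF_spec C relF_hyp 1237356000 tc_eq 3420160 2048 ck_1670 b (by omega) (by omega)
  rcases Nat.lt_or_ge b 3424256 with g15 | g15
  · exact chkURangeF_spec C relF_hyp 1237356000 tc_eq 3422208 2048 ck_1671 b (by omega) (by omega)
  rcases Nat.lt_or_ge b 3426304 with g16 | g16
  · exact chkURangeF_spec C relF_hyp 1237356000 tc_eq 3424256 2048 ck_1672 b (by omega) (by omega)
  rcases Nat.lt_or_ge b 3428352 with g17 | g17
  · exact chkURangeF_spec C relF_hyp 1237356000 tc_eq 3426304 2048 ck_1673 b (by omega) (by omega)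
  rcases Nat.lt_or_ge b 3430400 with g18 | g18
  · exact chkURangeF_spec C relF_hyp 1237356000 tc_eq 3428352 2048 ck_1674 b (by omega) (by omega)
  rcases Nat.lt_or_ge b 3432448 with g19 | g19
  · exact chkURangeF_spec C relF_hyp 1237356000 tc_eq 3430400 2048 ck_1675 b (by omega) (by omega)
  rcases Nat.lt_or_ge b 3434496 with g20 | g20
  · exact chkURangeF_spec C relF_hyp 1237356000 tc_eq 3432448 2048 ck_1676 b (by omega) (by omega)
  rcases Nat.lt_or_ge b 3436544 with g21 | g21
  · exact chkURangeF_spec C relF_hyp 1237356000 tc_eq 3434496 2048 ck_1677 b (by omega) (by omega)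
  rcases Nat.lt_or_ge b 3438592 with g22 | g22
  · exact chkURangeF_spec C relF_hyp 1237356000 tc_eq 3436544 2048 ck_1678 b (by omega) (by omega)
  exact chkURangeF_spec C relF_hyp 1237356000 tc_eq 3438592 2048 ck_1679 b (by omega) (by omega)
end Cfsg.Agent.Lib.Helper2.HNMult.P3
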