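import Cfsg.Agent.Lib.Helper2.HNMult.P3.Cert
set_option autoImplicit false
set_option maxRecDepth 1000000
set_option Elab.async false
namespace Cfsg.Agent.Lib.Helper2.HNMult.P3
open Cfsg.Agent.Lib.Helper4.Sparse Cfsg.Agent.Lib.Helper2.SparseF
theorem ck_168 : chkURangeF D C relF 796 1237356000 344064 2048 = true := by decide +kernel
theorem ck_169 : chkURangeF D C relF 796 1237356000 346112 2048 = true := by decide +kernel
theorem ck_170 : chkURangeF D C relF 796 1237356000 348160 2048 = true := by decide +kernel
theorem ck_171 : chkURangeF D C relF 796 1237356000 350208 2048 = true := by decide +kernel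
theorem ck_172 : chkURangeF D C relF 796 1237356000 352256 2048 = true := by decide +kernel
theorem ck_173 : chkURangeF D C relF 796 1237356000 354304 2048 = true := by decide +kernel
theorem ck_174 : chkURangeF D C relF 796 1237356000 356352 2048 = true := by decide +kernel
theorem ck_175 : chkURangeF D C relF 796 1237356000 358400 2048 = true := by decide +kernel
theorem ck_176 : chkURangeF D C relF 796 1237356000 360448 2048 = true := by decide +kernel
theorem ck_177 : chkURangeF D C relF 796 1237356000 362496 2048 = true := by decide +kernel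
theorem ck_178 : chkURangeF D C relF 796 1237356000 364544 2048 = true := by decide +kernel
theorem ck_179 : chkURangeF D C relF 796 1237356000 366592 2048 = true := by decide +kernel
theorem ck_180 : chkURangeF D C relF 796 1237356000 368640 2048 = true := by decide +kernel
theorem ck_181 : chkURangeF D C relF 796 1237356000 370688 2048 = true := by decide +kernel
theorem ck_182 : chkURangeF D C relF 796 1237356000 372736 2048 = true := by decide +kernel
theorem ck_183 : chkURangeF D C relF 796 1237356000 374784 2048 = true := by decide +kernel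
theorem ck_184 : chkURangeF D C relF 796 1237356000 376832 2048 = true := by decide +kernel
theorem ck_185 : chkURangeF D C relF 796 1237356000 378880 2048 = true := by decide +kernel
theorem ck_186 : chkURangeF D C relF 796 1237356000 380928 2048 = true := by decide +kernel
theorem ck_187 : chkURangeF D C relF 796 1237356000 382976 2048 = true := by decide +kernel
theorem ck_188 : chkURangeF D C relF 796 1237356000 385024 2048 = true := by decide +kernel
theorem ck_189 : chkURangeF D C relF 796 1237356000 387072 2048 = true := by decide +kernel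
theorem ck_190 : chkURangeF D C relF 796 1237356000 389120 2048 = true := by decide +kernel
theorem ck_191 : chkURangeF D C relF 796 1237356000 391168 2048 = true := by decide +kernel
theorem chkU_7 (b : ℕ) (h1 : 344064 ≤ b) (h2 : b < 393216) : chkU D C b = true := by
  rcases Nat.lt_or_ge b 346112 with g0 | g0
  · exact chkURangeF_spec C relF_hyp 1237356000 tc_eq 344064 2048 ck_168 b (by omega) (by omega)
  rcases Nat.lt_or_ge b 348160 with g1 | g1
  · exact chkURangeF_spec C relF_hyp 1237356000 tc_eq 346112 2048 ck_169 b (by omega) (by omega)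
  rcases Nat.lt_or_ge b 350208 with g2 | g2
  · exact chkURangeF_spec C relF_hyp 1237356000 tc_eq 348160 2048 ck_170 b (by omega) (by omega)
  rcases Nat.lt_or_ge b 352256 with g3 | g3
  · exact chkURangeF_spec C relF_hyp 1237356000 tc_eq 350208 2048 ck_171 b (by omega) (by omega)
  rcases Nat.lt_or_ge b 354304 with g4 | g4
  · exact chkURangeF_spec C relF_hyp 1237356000 tc_eq 352256 2048 ck_172 b (by omega) (by omega)
  rcases Nat.lt_or_ge b 356352 with g5 | g5
  · exact chkURangeF_spec C relF_hyp 1237356000 tc_eq 354304 2048 ck_173 b (by omega) (by omega)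
  rcases Nat.lt_or_ge b 358400 with g6 | g6
  · exact chkURangeF_spec C relF_hyp 1237356000 tc_eq 356352 2048 ck_174 b (by omega) (by omega)
  rcases Nat.lt_or_ge b 360448 with g7 | g7
  · exact chkURangeF_spec C relF_hyp 1237356000 tc_eq 358400 2048 ck_175 b (by omega) (by omega)
  rcases Nat.lt_or_ge b 362496 with g8 | g8
  · exact chkURangeF_spec C relF_hyp 1237356000 tc_eq 360448 2048 ck_176 b (by omega) (by omega)
  rcases Nat.lt_or_ge b 364544 with g9 | g9
  · exact chkURangeF_spec C relF_hyp 1237356000 tc_eq 362496 2048 ck_177 b (by omega) (by omega)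
  rcases Nat.lt_or_ge b 366592 with g10 | g10
  · exact chkURangeF_spec C relF_hyp 1237356000 tc_eq 364544 2048 ck_178 b (by omega) (by omega)
  rcases Nat.lt_or_ge b 368640 with g11 | g11
  · exact chkURangeF_spec C relF_hyp 1237356000 tc_eq 366592 2048 ck_179 b (by omega) (by omega)
  rcases Nat.lt_or_ge b 370688 with g12 | g12
  · exact chkURangeF_spec C relF_hyp 1237356000 tc_eq 368640 2048 ck_180 b (by omega) (by omega)
  rcases Nat.lt_or_ge b 372736 with g13 | g13
  · exact chkURangeF_spec C relF_hyp 1237356000 tc_eq 370688 2048 ck_181 b (by omega) (by omega)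
  rcases Nat.lt_or_ge b 374784 with g14 | g14
  · exact chkURangeF_spec C relF_hyp 1237356000 tc_eq 372736 2048 ck_182 b (by omega) (by omega)
  rcases Nat.lt_or_ge b 376832 with g15 | g15
  · exact chkURangeF_spec C relF_hyp 1237356000 tc_eq 374784 2048 ck_183 b (by omega) (by omega)
  rcases Nat.lt_or_ge b 378880 with g16 | g16
  · exact chkURangeF_spec C relF_hyp 1237356000 tc_eq 376832 2048 ck_184 b (by omega) (by omega)
  rcases Nat.lt_or_ge b 380928 with g17 | g17
  · exact chkURangeF_spec C relF_hyp 1237356000 tc_eq 378880 2048 ck_185 b (by omega) (by omega)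
  rcases Nat.lt_or_ge b 382976 with g18 | g18
  · exact chkURangeF_spec C relF_hyp 1237356000 tc_eq 380928 2048 ck_186 b (by omega) (by omega)
  rcases Nat.lt_or_ge b 385024 with g19 | g19
  · exact chkURangeF_spec C relF_hyp 1237356000 tc_eq 382976 2048 ck_187 b (by omega) (by omega)
  rcases Nat.lt_or_ge b 387072 with g20 | g20
  · exact chkURangeF_spec C relF_hyp 1237356000 tc_eq 385024 2048 ck_188 b (by omega) (by omega)
  rcases Nat.lt_or_ge b 389120 with g21 | g21
  · exact chkURangeF_spec C relF_hyp 1237356000 tc_eq 387072 2048 ck_189 b (by omega) (by omega)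
  rcases Nat.lt_or_ge b 391168 with g22 | g22
  · exact chkURangeF_spec C relF_hyp 1237356000 tc_eq 389120 2048 ck_190 b (by omega) (by omega)
  exact chkURangeF_spec C relF_hyp 1237356000 tc_eq 391168 2048 ck_191 b (by omega) (by omega)
end Cfsg.Agent.Lib.Helper2.HNMult.P3
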