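import Cfsg.Agent.Lib.Helper2.HNMult.P3.Cert
set_option autoImplicit false
set_option maxRecDepth 1000000
set_option Elab.async false
namespace Cfsg.Agent.Lib.Helper2.HNMult.P3
open Cfsg.Agent.Lib.Helper4.Sparse Cfsg.Agent.Lib.Helper2.SparseF
theorem ck_1728 : chkURangeF D C relF 796 1237356000 3538944 2048 = true := by decide +kernel
theorem ck_1729 : chkURangeF D C relF 796 1237356000 3540992 2048 = true := by decide +kernel
theorem ck_1730 : chkURangeF D C relF 796 1237356000 3543040 2048 = true := by decide +kernel
theorem ck_1731 : chkURangeF D C relF 796 1237356000 3545088 2048 = true := by decide +kernel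
theorem ck_1732 : chkURangeF D C relF 796 1237356000 3547136 2048 = true := by decide +kernel
theorem ck_1733 : chkURangeF D C relF 796 1237356000 3549184 2048 = true := by decide +kernel
theorem ck_1734 : chkURangeF D C relF 796 1237356000 3551232 2048 = true := by decide +kernel
theorem ck_1735 : chkURangeF D C relF 796 1237356000 3553280 2048 = true := by decide +kernel
theorem ck_1736 : chkURangeF D C relF 796 1237356000 3555328 2048 = true := by decide +kernel
theorem ck_1737 : chkURangeF D C relF 796 1237356000 3557376 2048 = true := by decide +kernel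
theorem ck_1738 : chkURangeF D C relF 796 1237356000 3559424 2048 = true := by decide +kernel
theorem ck_1739 : chkURangeF D C relF 796 1237356000 3561472 2048 = true := by decide +kernel
theorem ck_1740 : chkURangeF D C relF 796 1237356000 3563520 2048 = true := by decide +kernel
theorem ck_1741 : chkURangeF D C relF 796 1237356000 3565568 2048 = true := by decide +kernel
theorem ck_1742 : chkURangeF D C relF 796 1237356000 3567616 2048 = true := by decide +kernel
theorem ck_1743 : chkURangeF D C relF 796 1237356000 3569664 2048 = true := by decide +kernel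
theorem ck_1744 : chkURangeF D C relF 796 1237356000 3571712 2048 = true := by decide +kernel
theorem ck_1745 : chkURangeF D C relF 796 1237356000 3573760 2048 = true := by decide +kernel
theorem ck_1746 : chkURangeF D C relF 796 1237356000 3575808 2048 = true := by decide +kernel
theorem ck_1747 : chkURangeF D C relF 796 1237356000 3577856 2048 = true := by decide +kernel
theorem ck_1748 : chkURangeF D C relF 796 1237356000 3579904 2048 = true := by decide +kernel
theorem ck_1749 : chkURangeF D C relF 796 1237356000 3581952 2048 = true := by decide +kernel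
theorem ck_1750 : chkURangeF D C relF 796 1237356000 3584000 2048 = true := by decide +kernel
theorem ck_1751 : chkURangeF D C relF 796 1237356000 3586048 2048 = true := by decide +kernel
theorem chkU_72 (b : ℕ) (h1 : 3538944 ≤ b) (h2 : b < 3588096) : chkU D C b = true := by
  rcases Nat.lt_or_ge b 3540992 with g0 | g0
  · exact chkURangeF_spec C relF_hyp 1237356000 tc_eq 3538944 2048 ck_1728 b (by omega) (by omega)
  rcases Nat.lt_or_ge b 3543040 with g1 | g1
  · exact chkURangeF_spec C relF_hyp 1237356000 tc_eq 3540992 2048 ck_1729 b (by omega) (by omega)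
  rcases Nat.lt_or_ge b 3545088 with g2 | g2
  · exact chkURangeF_spec C relF_hyp 1237356000 tc_eq 3543040 2048 ck_1730 b (by omega) (by omega)
  rcases Nat.lt_or_ge b 3547136 with g3 | g3
  · exact chkURangeF_spec C relF_hyp 1237356000 tc_eq 3545088 2048 ck_1731 b (by omega) (by omega)
  rcases Nat.lt_or_ge b 3549184 with g4 | g4
  · exact chkURangeF_spec C relF_hyp 1237356000 tc_eq 3547136 2048 ck_1732 b (by omega) (by omega)
  rcases Nat.lt_or_ge b 3551232 with g5 | g5
  · exact chkURangeF_spec C relF_hyp 1237356000 tc_eq 3549184 2048 ck_1733 b (by omega) (by omega)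
  rcases Nat.lt_or_ge b 3553280 with g6 | g6
  · exact chkURangeF_spec C relF_hyp 1237356000 tc_eq 3551232 2048 ck_1734 b (by omega) (by omega)
  rcases Nat.lt_or_ge b 3555328 with g7 | g7
  · exact chkURangeF_spec C relF_hyp 1237356000 tc_eq 3553280 2048 ck_1735 b (by omega) (by omega)
  rcases Nat.lt_or_ge b 3557376 with g8 | g8
  · exact chkURangeF_spec C relF_hyp 1237356000 tc_eq 3555328 2048 ck_1736 b (by omega) (by omega)
  rcases Nat.lt_or_ge b 3559424 with g9 | g9
  · exact chkURangeF_spec C relF_hyp 1237356000 tc_eq 3557376 2048 ck_1737 b (by omega) (by omega)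
  rcases Nat.lt_or_ge b 3561472 with g10 | g10
  · exact chkURangeF_spec C relF_hyp 1237356000 tc_eq 3559424 2048 ck_1738 b (by omega) (by omega)
  rcases Nat.lt_or_ge b 3563520 with g11 | g11
  · exact chkURangeF_spec C relF_hyp 1237356000 tc_eq 3561472 2048 ck_1739 b (by omega) (by omega)
  rcases Nat.lt_or_ge b 3565568 with g12 | g12
  · exact chkURangeF_spec C relF_hyp 1237356000 tc_eq 3563520 2048 ck_1740 b (by omega) (by omega)
  rcases Nat.lt_or_ge b 3567616 with g13 | g13
  · exact chkURangeF_spec C relF_hyp 1237356000 tc_eq 3565568 2048 ck_1741 b (by omega) (by omega)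
  rcases Nat.lt_or_ge b 3569664 with g14 | g14
  · exact chkURangeF_spec C relF_hyp 1237356000 tc_eq 3567616 2048 ck_1742 b (by omega) (by omega)
  rcases Nat.lt_or_ge b 3571712 with g15 | g15
  · exact chkURangeF_spec C relF_hyp 1237356000 tc_eq 3569664 2048 ck_1743 b (by omega) (by omega)
  rcases Nat.lt_or_ge b 3573760 with g16 | g16
  · exact chkURangeF_spec C relF_hyp 1237356000 tc_eq 3571712 2048 ck_1744 b (by omega) (by omega)
  rcases Nat.lt_or_ge b 3575808 with g17 | g17
  · exact chkURangeF_spec C relF_hyp 1237356000 tc_eq 3573760 2048 ck_1745 b (by omega) (by omega)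
  rcases Nat.lt_or_ge b 3577856 with g18 | g18
  · exact chkURangeF_spec C relF_hyp 1237356000 tc_eq 3575808 2048 ck_1746 b (by omega) (by omega)
  rcases Nat.lt_or_ge b 3579904 with g19 | g19
  · exact chkURangeF_spec C relF_hyp 1237356000 tc_eq 3577856 2048 ck_1747 b (by omega) (by omega)
  rcases Nat.lt_or_ge b 3581952 with g20 | g20
  · exact chkURangeF_spec C relF_hyp 1237356000 tc_eq 3579904 2048 ck_1748 b (by omega) (by omega)
  rcases Nat.lt_or_ge b 3584000 with g21 | g21
  · exact chkURangeF_spec C relF_hyp 1237356000 tc_eq 3581952 2048 ck_1749 b (by omega) (by omega)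
  rcases Nat.lt_or_ge b 3586048 with g22 | g22
  · exact chkURangeF_spec C relF_hyp 1237356000 tc_eq 3584000 2048 ck_1750 b (by omega) (by omega)
  exact chkURangeF_spec C relF_hyp 1237356000 tc_eq 3586048 2048 ck_1751 b (by omega) (by omega)
end Cfsg.Agent.Lib.Helper2.HNMult.P3
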