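import Cfsg.Agent.Lib.Helper2.HNMult.P3.Cert
set_option autoImplicit false
set_option maxRecDepth 1000000
set_option Elab.async false
namespace Cfsg.Agent.Lib.Helper2.HNMult.P3
open Cfsg.Agent.Lib.Helper4.Sparse Cfsg.Agent.Lib.Helper2.SparseF
theorem ck_1752 : chkURangeF D C relF 796 1237356000 3588096 2048 = true := by decide +kernel
theorem ck_1753 : chkURangeF D C relF 796 1237356000 3590144 2048 = true := by decide +kernel
theorem ck_1754 : chkURangeF D C relF 796 1237356000 3592192 2048 = true := by decide +kernel
theorem ck_1755 : chkURangeF D C relF 796 1237356000 3594240 2048 = true := by decide +kernel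
theorem ck_1756 : chkURangeF D C relF 796 1237356000 3596288 2048 = true := by decide +kernel
theorem ck_1757 : chkURangeF D C relF 796 1237356000 3598336 2048 = true := by decide +kernel
theorem ck_1758 : chkURangeF D C relF 796 1237356000 3600384 2048 = true := by decide +kernel
theorem ck_1759 : chkURangeF D C relF 796 1237356000 3602432 2048 = true := by decide +kernel
theorem ck_1760 : chkURangeF D C relF 796 1237356000 3604480 2048 = true := by decide +kernel
theorem ck_1761 : chkURangeF D C relF 796 1237356000 3606528 2048 = true := by decide +kernel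
theorem ck_1762 : chkURangeF D C relF 796 1237356000 3608576 2048 = true := by decide +kernel
theorem ck_1763 : chkURangeF D C relF 796 1237356000 3610624 2048 = true := by decide +kernel
theorem ck_1764 : chkURangeF D C relF 796 1237356000 3612672 2048 = true := by decide +kernel
theorem ck_1765 : chkURangeF D C relF 796 1237356000 3614720 2048 = true := by decide +kernel
theorem ck_1766 : chkURangeF D C relF 796 1237356000 3616768 2048 = true := by decide +kernel
theorem ck_1767 : chkURangeF D C relF 796 1237356000 3618816 2048 = true := by decide +kernel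
theorem ck_1768 : chkURangeF D C relF 796 1237356000 3620864 2048 = true := by decide +kernel
theorem ck_1769 : chkURangeF D C relF 796 1237356000 3622912 2048 = true := by decide +kernel
theorem ck_1770 : chkURangeF D C relF 796 1237356000 3624960 2048 = true := by decide +kernel
theorem ck_1771 : chkURangeF D C relF 796 1237356000 3627008 2048 = true := by decide +kernel
theorem ck_1772 : chkURangeF D C relF 796 1237356000 3629056 2048 = true := by decide +kernel
theorem ck_1773 : chkURangeF D C relF 796 1237356000 3631104 2048 = true := by decide +kernel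
theorem ck_1774 : chkURangeF D C relF 796 1237356000 3633152 2048 = true := by decide +kernel
theorem ck_1775 : chkURangeF D C relF 796 1237356000 3635200 2048 = true := by decide +kernel
theorem chkU_73 (b : ℕ) (h1 : 3588096 ≤ b) (h2 : b < 3637248) : chkU D C b = true := by
  rcases Nat.lt_or_ge b 3590144 with g0 | g0
  · exact chkURangeF_spec C relF_hyp 1237356000 tc_eq 3588096 2048 ck_1752 b (by omega) (by omega)
  rcases Nat.lt_or_ge b 3592192 with g1 | g1
  · exact chkURangeF_spec C relF_hyp 1237356000 tc_eq 3590144 2048 ck_1753 b (by omega) (by omega)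
  rcases Nat.lt_or_ge b 3594240 with g2 | g2
  · exact chkURangeF_spec C relF_hyp 1237356000 tc_eq 3592192 2048 ck_1754 b (by omega) (by omega)
  rcases Nat.lt_or_ge b 3596288 with g3 | g3
  · exact chkURangeF_spec C relF_hyp 1237356000 tc_eq 3594240 2048 ck_1755 b (by omega) (by omega)
  rcases Nat.lt_or_ge b 3598336 with g4 | g4
  · exact chkURangeF_spec C relF_hyp 1237356000 tc_eq 3596288 2048 ck_1756 b (by omega) (by omega)
  rcases Nat.lt_or_ge b 3600384 with g5 | g5
  · exact chkURangeF_spec C relF_hyp 1237356000 tc_eq 3598336 2048 ck_1757 b (by omega) (by omega)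
  rcases Nat.lt_or_ge b 3602432 with g6 | g6
  · exact chkURangeF_spec C relF_hyp 1237356000 tc_eq 3600384 2048 ck_1758 b (by omega) (by omega)
  rcases Nat.lt_or_ge b 3604480 with g7 | g7
  · exact chkURangeF_spec C relF_hyp 1237356000 tc_eq 3602432 2048 ck_1759 b (by omega) (by omega)
  rcases Nat.lt_or_ge b 3606528 with g8 | g8
  · exact chkURangeF_spec C relF_hyp 1237356000 tc_eq 3604480 2048 ck_1760 b (by omega) (by omega)
  rcases Nat.lt_or_ge b 3608576 with g9 | g9
  · exact chkURangeF_spec C relF_hyp 1237356000 tc_eq 3606528 2048 ck_1761 b (by omega) (by omega)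
  rcases Nat.lt_or_ge b 3610624 with g10 | g10
  · exact chkURangeF_spec C relF_hyp 1237356000 tc_eq 3608576 2048 ck_1762 b (by omega) (by omega)
  rcases Nat.lt_or_ge b 3612672 with g11 | g11
  · exact chkURangeF_spec C relF_hyp 1237356000 tc_eq 3610624 2048 ck_1763 b (by omega) (by omega)
  rcases Nat.lt_or_ge b 3614720 with g12 | g12
  · exact chkURangeF_spec C relF_hyp 1237356000 tc_eq 3612672 2048 ck_1764 b (by omega) (by omega)
  rcases Nat.lt_or_ge b 3616768 with g13 | g13
  · exact chkURangeF_spec C relF_hyp 1237356000 tc_eq 3614720 2048 ck_1765 b (by omega) (by omega)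
  rcases Nat.lt_or_ge b 3618816 with g14 | g14
  · exact chkURangeF_spec C relF_hyp 1237356000 tc_eq 3616768 2048 ck_1766 b (by omega) (by omega)
  rcases Nat.lt_or_ge b 3620864 with g15 | g15
  · exact chkURangeF_spec C relF_hyp 1237356000 tc_eq 3618816 2048 ck_1767 b (by omega) (by omega)
  rcases Nat.lt_or_ge b 3622912 with g16 | g16
  · exact chkURangeF_spec C relF_hyp 1237356000 tc_eq 3620864 2048 ck_1768 b (by omega) (by omega)
  rcases Nat.lt_or_ge b 3624960 with g17 | g17
  · exact chkURangeF_spec C relF_hyp 1237356000 tc_eq 3622912 2048 ck_1769 b (by omega) (by omega)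
  rcases Nat.lt_or_ge b 3627008 with g18 | g18
  · exact chkURangeF_spec C relF_hyp 1237356000 tc_eq 3624960 2048 ck_1770 b (by omega) (by omega)
  rcases Nat.lt_or_ge b 3629056 with g19 | g19
  · exact chkURangeF_spec C relF_hyp 1237356000 tc_eq 3627008 2048 ck_1771 b (by omega) (by omega)
  rcases Nat.lt_or_ge b 3631104 with g20 | g20
  · exact chkURangeF_spec C relF_hyp 1237356000 tc_eq 3629056 2048 ck_1772 b (by omega) (by omega)
  rcases Nat.lt_or_ge b 3633152 with g21 | g21
  · exact chkURangeF_spec C relF_hyp 1237356000 tc_eq 3631104 2048 ck_1773 b (by omega) (by omega)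
  rcases Nat.lt_or_ge b 3635200 with g22 | g22
  · exact chkURangeF_spec C relF_hyp 1237356000 tc_eq 3633152 2048 ck_1774 b (by omega) (by omega)
  exact chkURangeF_spec C relF_hyp 1237356000 tc_eq 3635200 2048 ck_1775 b (by omega) (by omega)
end Cfsg.Agent.Lib.Helper2.HNMult.P3
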