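import Cfsg.Agent.Lib.Helper2.HNMult.P3.Cert
set_option autoImplicit false
set_option maxRecDepth 1000000
set_option Elab.async false
namespace Cfsg.Agent.Lib.Helper2.HNMult.P3
open Cfsg.Agent.Lib.Helper4.Sparse Cfsg.Agent.Lib.Helper2.SparseF
theorem ck_1776 : chkURangeF D C relF 796 1237356000 3637248 2048 = true := by decide +kernel
theorem ck_1777 : chkURangeF D C relF 796 1237356000 3639296 2048 = true := by decide +kernel
theorem ck_1778 : chkURangeF D C relF 796 1237356000 3641344 2048 = true := by decide +kernel
theorem ck_1779 : chkURangeF D C relF 796 1237356000 3643392 2048 = true := by decide +kernel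
theorem ck_1780 : chkURangeF D C relF 796 1237356000 3645440 2048 = true := by decide +kernel
theorem ck_1781 : chkURangeF D C relF 796 1237356000 3647488 2048 = true := by decide +kernel
theorem ck_1782 : chkURangeF D C relF 796 1237356000 3649536 2048 = true := by decide +kernel
theorem ck_1783 : chkURangeF D C relF 796 1237356000 3651584 2048 = true := by decide +kernel
theorem ck_1784 : chkURangeF D C relF 796 1237356000 3653632 2048 = true := by decide +kernel
theorem ck_1785 : chkURangeF D C relF 796 1237356000 3655680 2048 = true := by decide +kernel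
theorem ck_1786 : chkURangeF D C relF 796 1237356000 3657728 2048 = true := by decide +kernel
theorem ck_1787 : chkURangeF D C relF 796 1237356000 3659776 2048 = true := by decide +kernel
theorem ck_1788 : chkURangeF D C relF 796 1237356000 3661824 2048 = true := by decide +kernel
theorem ck_1789 : chkURangeF D C relF 796 1237356000 3663872 2048 = true := by decide +kernel
theorem ck_1790 : chkURangeF D C relF 796 1237356000 3665920 2048 = true := by decide +kernel
theorem ck_1791 : chkURangeF D C relF 796 1237356000 3667968 2048 = true := by decide +kernel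
theorem ck_1792 : chkURangeF D C relF 796 1237356000 3670016 2048 = true := by decide +kernel
theorem ck_1793 : chkURangeF D C relF 796 1237356000 3672064 2048 = true := by decide +kernel
theorem ck_1794 : chkURangeF D C relF 796 1237356000 3674112 2048 = true := by decide +kernel
theorem ck_1795 : chkURangeF D C relF 796 1237356000 3676160 2048 = true := by decide +kernel
theorem ck_1796 : chkURangeF D C relF 796 1237356000 3678208 2048 = true := by decide +kernel
theorem ck_1797 : chkURangeF D C relF 796 1237356000 3680256 2048 = true := by decide +kernel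
theorem ck_1798 : chkURangeF D C relF 796 1237356000 3682304 2048 = true := by decide +kernel
theorem ck_1799 : chkURangeF D C relF 796 1237356000 3684352 2048 = true := by decide +kernel
theorem chkU_74 (b : ℕ) (h1 : 3637248 ≤ b) (h2 : b < 3686400) : chkU D C b = true := by
  rcases Nat.lt_or_ge b 3639296 with g0 | g0
  · exact chkURangeF_spec C relF_hyp 1237356000 tc_eq 3637248 2048 ck_1776 b (by omega) (by omega)
  rcases Nat.lt_or_ge b 3641344 with g1 | g1
  · exact chkURangeF_spec C relF_hyp 1237356000 tc_eq 3639296 2048 ck_1777 b (by omega) (by omega)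
  rcases Nat.lt_or_ge b 3643392 with g2 | g2
  · exact chkURangeF_spec C relF_hyp 1237356000 tc_eq 3641344 2048 ck_1778 b (by omega) (by omega)
  rcases Nat.lt_or_ge b 3645440 with g3 | g3
  · exact chkURangeF_spec C relF_hyp 1237356000 tc_eq 3643392 2048 ck_1779 b (by omega) (by omega)
  rcases Nat.lt_or_ge b 3647488 with g4 | g4
  · exact chkURangeF_spec C relF_hyp 1237356000 tc_eq 3645440 2048 ck_1780 b (by omega) (by omega)
  rcases Nat.lt_or_ge b 3649536 with g5 | g5
  · exact chkURangeF_spec C relF_hyp 1237356000 tc_eq 3647488 2048 ck_1781 b (by omega) (by omega)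
  rcases Nat.lt_or_ge b 3651584 with g6 | g6
  · exact chkURangeF_spec C relF_hyp 1237356000 tc_eq 3649536 2048 ck_1782 b (by omega) (by omega)
  rcases Nat.lt_or_ge b 3653632 with g7 | g7
  · exact chkURangeF_spec C relF_hyp 1237356000 tc_eq 3651584 2048 ck_1783 b (by omega) (by omega)
  rcases Nat.lt_or_ge b 3655680 with g8 | g8
  · exact chkURangeF_spec C relF_hyp 1237356000 tc_eq 3653632 2048 ck_1784 b (by omega) (by omega)
  rcases Nat.lt_or_ge b 3657728 with g9 | g9
  · exact chkURangeF_spec C relF_hyp 1237356000 tc_eq 3655680 2048 ck_1785 b (by omega) (by omega)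
  rcases Nat.lt_or_ge b 3659776 with g10 | g10
  · exact chkURangeF_spec C relF_hyp 1237356000 tc_eq 3657728 2048 ck_1786 b (by omega) (by omega)
  rcases Nat.lt_or_ge b 3661824 with g11 | g11
  · exact chkURangeF_spec C relF_hyp 1237356000 tc_eq 3659776 2048 ck_1787 b (by omega) (by omega)
  rcases Nat.lt_or_ge b 3663872 with g12 | g12
  · exact chkURangeF_spec C relF_hyp 1237356000 tc_eq 3661824 2048 ck_1788 b (by omega) (by omega)
  rcases Nat.lt_or_ge b 3665920 with g13 | g13
  · exact chkURangeF_spec C relF_hyp 1237356000 tc_eq 3663872 2048 ck_1789 b (by omega) (by omega)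
  rcases Nat.lt_or_ge b 3667968 with g14 | g14
  · exact chkURangeF_spec C relF_hyp 1237356000 tc_eq 3665920 2048 ck_1790 b (by omega) (by omega)
  rcases Nat.lt_or_ge b 3670016 with g15 | g15
  · exact chkURangeF_spec C relF_hyp 1237356000 tc_eq 3667968 2048 ck_1791 b (by omega) (by omega)
  rcases Nat.lt_or_ge b 3672064 with g16 | g16
  · exact chkURangeF_spec C relF_hyp 1237356000 tc_eq 3670016 2048 ck_1792 b (by omega) (by omega)
  rcases Nat.lt_or_ge b 3674112 with g17 | g17
  · exact chkURangeF_spec C relF_hyp 1237356000 tc_eq 3672064 2048 ck_1793 b (by omega) (by omega)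
  rcases Nat.lt_or_ge b 3676160 with g18 | g18
  · exact chkURangeF_spec C relF_hyp 1237356000 tc_eq 3674112 2048 ck_1794 b (by omega) (by omega)
  rcases Nat.lt_or_ge b 3678208 with g19 | g19
  · exact chkURangeF_spec C relF_hyp 1237356000 tc_eq 3676160 2048 ck_1795 b (by omega) (by omega)
  rcases Nat.lt_or_ge b 3680256 with g20 | g20
  · exact chkURangeF_spec C relF_hyp 1237356000 tc_eq 3678208 2048 ck_1796 b (by omega) (by omega)
  rcases Nat.lt_or_ge b 3682304 with g21 | g21
  · exact chkURangeF_spec C relF_hyp 1237356000 tc_eq 3680256 2048 ck_1797 b (by omega) (by omega)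
  rcases Nat.lt_or_ge b 3684352 with g22 | g22
  · exact chkURangeF_spec C relF_hyp 1237356000 tc_eq 3682304 2048 ck_1798 b (by omega) (by omega)
  exact chkURangeF_spec C relF_hyp 1237356000 tc_eq 3684352 2048 ck_1799 b (by omega) (by omega)
end Cfsg.Agent.Lib.Helper2.HNMult.P3
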