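import Cfsg.Agent.Lib.Helper2.HNMult.P3.Cert
set_option autoImplicit false
set_option maxRecDepth 1000000
set_option Elab.async false
namespace Cfsg.Agent.Lib.Helper2.HNMult.P3
open Cfsg.Agent.Lib.Helper4.Sparse Cfsg.Agent.Lib.Helper2.SparseF
theorem ck_216 : chkURangeF D C relF 796 1237356000 442368 2048 = true := by decide +kernel
theorem ck_217 : chkURangeF D C relF 796 1237356000 444416 2048 = true := by decide +kernel
theorem ck_218 : chkURangeF D C relF 796 1237356000 446464 2048 = true := by decide +kernel
theorem ck_219 : chkURangeF D C relF 796 1237356000 448512 2048 = true := by decide +kernel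
theorem ck_220 : chkURangeF D C relF 796 1237356000 450560 2048 = true := by decide +kernel
theorem ck_221 : chkURangeF D C relF 796 1237356000 452608 2048 = true := by decide +kernel
theorem ck_222 : chkURangeF D C relF 796 1237356000 454656 2048 = true := by decide +kernel
theorem ck_223 : chkURangeF D C relF 796 1237356000 456704 2048 = true := by decide +kernel
theorem ck_224 : chkURangeF D C relF 796 1237356000 458752 2048 = true := by decide +kernel
theorem ck_225 : chkURangeF D C relF 796 1237356000 460800 2048 = true := by decide +kernel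
theorem ck_226 : chkURangeF D C relF 796 1237356000 462848 2048 = true := by decide +kernel
theorem ck_227 : chkURangeF D C relF 796 1237356000 464896 2048 = true := by decide +kernel
theorem ck_228 : chkURangeF D C relF 796 1237356000 466944 2048 = true := by decide +kernel
theorem ck_229 : chkURangeF D C relF 796 1237356000 468992 2048 = true := by decide +kernel
theorem ck_230 : chkURangeF D C relF 796 1237356000 471040 2048 = true := by decide +kernel
theorem ck_231 : chkURangeF D C relF 796 1237356000 473088 2048 = true := by decide +kernel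
theorem ck_232 : chkURangeF D C relF 796 1237356000 475136 2048 = true := by decide +kernel
theorem ck_233 : chkURangeF D C relF 796 1237356000 477184 2048 = true := by decide +kernel
theorem ck_234 : chkURangeF D C relF 796 1237356000 479232 2048 = true := by decide +kernel
theorem ck_235 : chkURangeF D C relF 796 1237356000 481280 2048 = true := by decide +kernel
theorem ck_236 : chkURangeF D C relF 796 1237356000 483328 2048 = true := by decide +kernel
theorem ck_237 : chkURangeF D C relF 796 1237356000 485376 2048 = true := by decide +kernel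
theorem ck_238 : chkURangeF D C relF 796 1237356000 487424 2048 = true := by decide +kernel
theorem ck_239 : chkURangeF D C relF 796 1237356000 489472 2048 = true := by decide +kernel
theorem chkU_9 (b : ℕ) (h1 : 442368 ≤ b) (h2 : b < 491520) : chkU D C b = true := by
  rcases Nat.lt_or_ge b 444416 with g0 | g0
  · exact chkURangeF_spec C relF_hyp 1237356000 tc_eq 442368 2048 ck_216 b (by omega) (by omega)
  rcases Nat.lt_or_ge b 446464 with g1 | g1
  · exact chkURangeF_spec C relF_hyp 1237356000 tc_eq 444416 2048 ck_217 b (by omega) (by omega)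
  rcases Nat.lt_or_ge b 448512 with g2 | g2
  · exact chkURangeF_spec C relF_hyp 1237356000 tc_eq 446464 2048 ck_218 b (by omega) (by omega)
  rcases Nat.lt_or_ge b 450560 with g3 | g3
  · exact chkURangeF_spec C relF_hyp 1237356000 tc_eq 448512 2048 ck_219 b (by omega) (by omega)
  rcases Nat.lt_or_ge b 452608 with g4 | g4
  · exact chkURangeF_spec C relF_hyp 1237356000 tc_eq 450560 2048 ck_220 b (by omega) (by omega)
  rcases Nat.lt_or_ge b 454656 with g5 | g5
  · exact chkURangeF_spec C relF_hyp 1237356000 tc_eq 452608 2048 ck_221 b (by omega) (by omega)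
  rcases Nat.lt_or_ge b 456704 with g6 | g6
  · exact chkURangeF_spec C relF_hyp 1237356000 tc_eq 454656 2048 ck_222 b (by omega) (by omega)
  rcases Nat.lt_or_ge b 458752 with g7 | g7
  · exact chkURangeF_spec C relF_hyp 1237356000 tc_eq 456704 2048 ck_223 b (by omega) (by omega)
  rcases Nat.lt_or_ge b 460800 with g8 | g8
  · exact chkURangeF_spec C relF_hyp 1237356000 tc_eq 458752 2048 ck_224 b (by omega) (by omega)
  rcases Nat.lt_or_ge b 462848 with g9 | g9
  · exact chkURangeF_spec C relF_hyp 1237356000 tc_eq 460800 2048 ck_225 b (by omega) (by omega)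
  rcases Nat.lt_or_ge b 464896 with g10 | g10
  · exact chkURangeF_spec C relF_hyp 1237356000 tc_eq 462848 2048 ck_226 b (by omega) (by omega)
  rcases Nat.lt_or_ge b 466944 with g11 | g11
  · exact chkURangeF_spec C relF_hyp 1237356000 tc_eq 464896 2048 ck_227 b (by omega) (by omega)
  rcases Nat.lt_or_ge b 468992 with g12 | g12
  · exact chkURangeF_spec C relF_hyp 1237356000 tc_eq 466944 2048 ck_228 b (by omega) (by omega)
  rcases Nat.lt_or_ge b 471040 with g13 | g13
  · exact chkURangeF_spec C relF_hyp 1237356000 tc_eq 468992 2048 ck_229 b (by omega) (by omega)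
  rcases Nat.lt_or_ge b 473088 with g14 | g14
  · exact chkURangeF_spec C relF_hyp 1237356000 tc_eq 471040 2048 ck_230 b (by omega) (by omega)
  rcases Nat.lt_or_ge b 475136 with g15 | g15
  · exact chkURangeF_spec C relF_hyp 1237356000 tc_eq 473088 2048 ck_231 b (by omega) (by omega)
  rcases Nat.lt_or_ge b 477184 with g16 | g16
  · exact chkURangeF_spec C relF_hyp 1237356000 tc_eq 475136 2048 ck_232 b (by omega) (by omega)
  rcases Nat.lt_or_ge b 479232 with g17 | g17
  · exact chkURangeF_spec C relF_hyp 1237356000 tc_eq 477184 2048 ck_233 b (by omega) (by omega)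
  rcases Nat.lt_or_ge b 481280 with g18 | g18
  · exact chkURangeF_spec C relF_hyp 1237356000 tc_eq 479232 2048 ck_234 b (by omega) (by omega)
  rcases Nat.lt_or_ge b 483328 with g19 | g19
  · exact chkURangeF_spec C relF_hyp 1237356000 tc_eq 481280 2048 ck_235 b (by omega) (by omega)
  rcases Nat.lt_or_ge b 485376 with g20 | g20
  · exact chkURangeF_spec C relF_hyp 1237356000 tc_eq 483328 2048 ck_236 b (by omega) (by omega)
  rcases Nat.lt_or_ge b 487424 with g21 | g21
  · exact chkURangeF_spec C relF_hyp 1237356000 tc_eq 485376 2048 ck_237 b (by omega) (by omega)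
  rcases Nat.lt_or_ge b 489472 with g22 | g22
  · exact chkURangeF_spec C relF_hyp 1237356000 tc_eq 487424 2048 ck_238 b (by omega) (by omega)
  exact chkURangeF_spec C relF_hyp 1237356000 tc_eq 489472 2048 ck_239 b (by omega) (by omega)
end Cfsg.Agent.Lib.Helper2.HNMult.P3
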