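import Cfsg.Agent.Lib.Helper2.HNMult.P3.Cert
set_option autoImplicit false
set_option maxRecDepth 1000000
set_option Elab.async false
namespace Cfsg.Agent.Lib.Helper2.HNMult.P3
open Cfsg.Agent.Lib.Helper4.Sparse Cfsg.Agent.Lib.Helper2.SparseF
theorem ck_2256 : chkURangeF D C relF 796 1237356000 4620288 2048 = true := by decide +kernel
theorem ck_2257 : chkURangeF D C relF 796 1237356000 4622336 2048 = true := by decide +kernel
theorem ck_2258 : chkURangeF D C relF 796 1237356000 4624384 2048 = true := by decide +kernel
theorem ck_2259 : chkURangeF D C relF 796 1237356000 4626432 2048 = true := by decide +kernel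
theorem ck_2260 : chkURangeF D C relF 796 1237356000 4628480 2048 = true := by decide +kernel
theorem ck_2261 : chkURangeF D C relF 796 1237356000 4630528 2048 = true := by decide +kernel
theorem ck_2262 : chkURangeF D C relF 796 1237356000 4632576 2048 = true := by decide +kernel
theorem ck_2263 : chkURangeF D C relF 796 1237356000 4634624 2048 = true := by decide +kernel
theorem ck_2264 : chkURangeF D C relF 796 1237356000 4636672 2048 = true := by decide +kernel
theorem ck_2265 : chkURangeF D C relF 796 1237356000 4638720 2048 = true := by decide +kernel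
theorem ck_2266 : chkURangeF D C relF 796 1237356000 4640768 2048 = true := by decide +kernel
theorem ck_2267 : chkURangeF D C relF 796 1237356000 4642816 2048 = true := by decide +kernel
theorem ck_2268 : chkURangeF D C relF 796 1237356000 4644864 2048 = true := by decide +kernel
theorem ck_2269 : chkURangeF D C relF 796 1237356000 4646912 2048 = true := by decide +kernel
theorem ck_2270 : chkURangeF D C relF 796 1237356000 4648960 2048 = true := by decide +kernel
theorem ck_2271 : chkURangeF D C relF 796 1237356000 4651008 2048 = true := by decide +kernel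
theorem ck_2272 : chkURangeF D C relF 796 1237356000 4653056 2048 = true := by decide +kernel
theorem ck_2273 : chkURangeF D C relF 796 1237356000 4655104 2048 = true := by decide +kernel
theorem ck_2274 : chkURangeF D C relF 796 1237356000 4657152 2048 = true := by decide +kernel
theorem ck_2275 : chkURangeF D C relF 796 1237356000 4659200 2048 = true := by decide +kernel
theorem ck_2276 : chkURangeF D C relF 796 1237356000 4661248 2048 = true := by decide +kernel
theorem ck_2277 : chkURangeF D C relF 796 1237356000 4663296 2048 = true := by decide +kernel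
theorem ck_2278 : chkURangeF D C relF 796 1237356000 4665344 2048 = true := by decide +kernel
theorem ck_2279 : chkURangeF D C relF 796 1237356000 4667392 2048 = true := by decide +kernel
theorem chkU_94 (b : ℕ) (h1 : 4620288 ≤ b) (h2 : b < 4669440) : chkU D C b = true := by
  rcases Nat.lt_or_ge b 4622336 with g0 | g0
  · exact chkURangeF_spec C relF_hyp 1237356000 tc_eq 4620288 2048 ck_2256 b (by omega) (by omega)
  rcases Nat.lt_or_ge b 4624384 with g1 | g1
  · exact chkURangeF_spec C relF_hyp 1237356000 tc_eq 4622336 2048 ck_2257 b (by omega) (by omega)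
  rcases Nat.lt_or_ge b 4626432 with g2 | g2
  · exact chkURangeF_spec C relF_hyp 1237356000 tc_eq 4624384 2048 ck_2258 b (by omega) (by omega)
  rcases Nat.lt_or_ge b 4628480 with g3 | g3
  · exact chkURangeF_spec C relF_hyp 1237356000 tc_eq 4626432 2048 ck_2259 b (by omega) (by omega)
  rcases Nat.lt_or_ge b 4630528 with g4 | g4
  · exact chkURangeF_spec C relF_hyp 1237356000 tc_eq 4628480 2048 ck_2260 b (by omega) (by omega)
  rcases Nat.lt_or_ge b 4632576 with g5 | g5
  · exact chkURangeF_spec C relF_hyp 1237356000 tc_eq 4630528 2048 ck_2261 b (by omega) (by omega)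
  rcases Nat.lt_or_ge b 4634624 with g6 | g6
  · exact chkURangeF_spec C relF_hyp 1237356000 tc_eq 4632576 2048 ck_2262 b (by omega) (by omega)
  rcases Nat.lt_or_ge b 4636672 with g7 | g7
  · exact chkURangeF_spec C relF_hyp 1237356000 tc_eq 4634624 2048 ck_2263 b (by omega) (by omega)
  rcases Nat.lt_or_ge b 4638720 with g8 | g8
  · exact chkURangeF_spec C relF_hyp 1237356000 tc_eq 4636672 2048 ck_2264 b (by omega) (by omega)
  rcases Nat.lt_or_ge b 4640768 with g9 | g9
  · exact chkURangeF_spec C relF_hyp 1237356000 tc_eq 4638720 2048 ck_2265 b (by omega) (by omega)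
  rcases Nat.lt_or_ge b 4642816 with g10 | g10
  · exact chkURangeF_spec C relF_hyp 1237356000 tc_eq 4640768 2048 ck_2266 b (by omega) (by omega)
  rcases Nat.lt_or_ge b 4644864 with g11 | g11
  · exact chkURangeF_spec C relF_hyp 1237356000 tc_eq 4642816 2048 ck_2267 b (by omega) (by omega)
  rcases Nat.lt_or_ge b 4646912 with g12 | g12
  · exact chkURangeF_spec C relF_hyp 1237356000 tc_eq 4644864 2048 ck_2268 b (by omega) (by omega)
  rcases Nat.lt_or_ge b 4648960 with g13 | g13
  · exact chkURangeF_spec C relF_hyp 1237356000 tc_eq 4646912 2048 ck_2269 b (by omega) (by omega)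
  rcases Nat.lt_or_ge b 4651008 with g14 | g14
  · exact chkURangeF_spec C relF_hyp 1237356000 tc_eq 4648960 2048 ck_2270 b (by omega) (by omega)
  rcases Nat.lt_or_ge b 4653056 with g15 | g15
  · exact chkURangeF_spec C relF_hyp 1237356000 tc_eq 4651008 2048 ck_2271 b (by omega) (by omega)
  rcases Nat.lt_or_ge b 4655104 with g16 | g16
  · exact chkURangeF_spec C relF_hyp 1237356000 tc_eq 4653056 2048 ck_2272 b (by omega) (by omega)
  rcases Nat.lt_or_ge b 4657152 with g17 | g17
  · exact chkURangeF_spec C relF_hyp 1237356000 tc_eq 4655104 2048 ck_2273 b (by omega) (by omega)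
  rcases Nat.lt_or_ge b 4659200 with g18 | g18
  · exact chkURangeF_spec C relF_hyp 1237356000 tc_eq 4657152 2048 ck_2274 b (by omega) (by omega)
  rcases Nat.lt_or_ge b 4661248 with g19 | g19
  · exact chkURangeF_spec C relF_hyp 1237356000 tc_eq 4659200 2048 ck_2275 b (by omega) (by omega)
  rcases Nat.lt_or_ge b 4663296 with g20 | g20
  · exact chkURangeF_spec C relF_hyp 1237356000 tc_eq 4661248 2048 ck_2276 b (by omega) (by omega)
  rcases Nat.lt_or_ge b 4665344 with g21 | g21
  · exact chkURangeF_spec C relF_hyp 1237356000 tc_eq 4663296 2048 ck_2277 b (by omega) (by omega)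
  rcases Nat.lt_or_ge b 4667392 with g22 | g22
  · exact chkURangeF_spec C relF_hyp 1237356000 tc_eq 4665344 2048 ck_2278 b (by omega) (by omega)
  exact chkURangeF_spec C relF_hyp 1237356000 tc_eq 4667392 2048 ck_2279 b (by omega) (by omega)
end Cfsg.Agent.Lib.Helper2.HNMult.P3
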