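import Cfsg.Agent.Lib.Helper2.HNMult.P3.Cert
set_option autoImplicit false
set_option maxRecDepth 1000000
set_option Elab.async false
namespace Cfsg.Agent.Lib.Helper2.HNMult.P3
open Cfsg.Agent.Lib.Helper4.Sparse Cfsg.Agent.Lib.Helper2.SparseF
theorem ck_2352 : chkURangeF D C relF 796 1237356000 4816896 2048 = true := by decide +kernel
theorem ck_2353 : chkURangeF D C relF 796 1237356000 4818944 2048 = true := by decide +kernel
theorem ck_2354 : chkURangeF D C relF 796 1237356000 4820992 2048 = true := by decide +kernel
theorem ck_2355 : chkURangeF D C relF 796 1237356000 4823040 2048 = true := by decide +kernel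
theorem ck_2356 : chkURangeF D C relF 796 1237356000 4825088 2048 = true := by decide +kernel
theorem ck_2357 : chkURangeF D C relF 796 1237356000 4827136 2048 = true := by decide +kernel
theorem ck_2358 : chkURangeF D C relF 796 1237356000 4829184 2048 = true := by decide +kernel
theorem ck_2359 : chkURangeF D C relF 796 1237356000 4831232 2048 = true := by decide +kernel
theorem ck_2360 : chkURangeF D C relF 796 1237356000 4833280 2048 = true := by decide +kernel
theorem ck_2361 : chkURangeF D C relF 796 1237356000 4835328 2048 = true := by decide +kernel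
theorem ck_2362 : chkURangeF D C relF 796 1237356000 4837376 2048 = true := by decide +kernel
theorem ck_2363 : chkURangeF D C relF 796 1237356000 4839424 2048 = true := by decide +kernel
theorem ck_2364 : chkURangeF D C relF 796 1237356000 4841472 2048 = true := by decide +kernel
theorem ck_2365 : chkURangeF D C relF 796 1237356000 4843520 2048 = true := by decide +kernel
theorem ck_2366 : chkURangeF D C relF 796 1237356000 4845568 2048 = true := by decide +kernel
theorem ck_2367 : chkURangeF D C relF 796 1237356000 4847616 2048 = true := by decide +kernel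
theorem ck_2368 : chkURangeF D C relF 796 1237356000 4849664 2048 = true := by decide +kernel
theorem ck_2369 : chkURangeF D C relF 796 1237356000 4851712 2048 = true := by decide +kernel
theorem ck_2370 : chkURangeF D C relF 796 1237356000 4853760 2048 = true := by decide +kernel
theorem ck_2371 : chkURangeF D C relF 796 1237356000 4855808 2048 = true := by decide +kernel
theorem ck_2372 : chkURangeF D C relF 796 1237356000 4857856 2048 = true := by decide +kernel
theorem ck_2373 : chkURangeF D C relF 796 1237356000 4859904 2048 = true := by decide +kernel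
theorem ck_2374 : chkURangeF D C relF 796 1237356000 4861952 2048 = true := by decide +kernel
theorem ck_2375 : chkURangeF D C relF 796 1237356000 4864000 2048 = true := by decide +kernel
theorem chkU_98 (b : ℕ) (h1 : 4816896 ≤ b) (h2 : b < 4866048) : chkU D C b = true := by
  rcases Nat.lt_or_ge b 4818944 with g0 | g0
  · exact chkURangeF_spec C relF_hyp 1237356000 tc_eq 4816896 2048 ck_2352 b (by omega) (by omega)
  rcases Nat.lt_or_ge b 4820992 with g1 | g1
  · exact chkURangeF_spec C relF_hyp 1237356000 tc_eq 4818944 2048 ck_2353 b (by omega) (by omega)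
  rcases Nat.lt_or_ge b 4823040 with g2 | g2
  · exact chkURangeF_spec C relF_hyp 1237356000 tc_eq 4820992 2048 ck_2354 b (by omega) (by omega)
  rcases Nat.lt_or_ge b 4825088 with g3 | g3
  · exact chkURangeF_spec C relF_hyp 1237356000 tc_eq 4823040 2048 ck_2355 b (by omega) (by omega)
  rcases Nat.lt_or_ge b 4827136 with g4 | g4
  · exact chkURangeF_spec C relF_hyp 1237356000 tc_eq 4825088 2048 ck_2356 b (by omega) (by omega)
  rcases Nat.lt_or_ge b 4829184 with g5 | g5
  · exact chkURangeF_spec C relF_hyp 1237356000 tc_eq 4827136 2048 ck_2357 b (by omega) (by omega)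
  rcases Nat.lt_or_ge b 4831232 with g6 | g6
  · exact chkURangeF_spec C relF_hyp 1237356000 tc_eq 4829184 2048 ck_2358 b (by omega) (by omega)
  rcases Nat.lt_or_ge b 4833280 with g7 | g7
  · exact chkURangeF_spec C relF_hyp 1237356000 tc_eq 4831232 2048 ck_2359 b (by omega) (by omega)
  rcases Nat.lt_or_ge b 4835328 with g8 | g8
  · exact chkURangeF_spec C relF_hyp 1237356000 tc_eq 4833280 2048 ck_2360 b (by omega) (by omega)
  rcases Nat.lt_or_ge b 4837376 with g9 | g9
  · exact chkURangeF_spec C relF_hyp 1237356000 tc_eq 4835328 2048 ck_2361 b (by omega) (by omega)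
  rcases Nat.lt_or_ge b 4839424 with g10 | g10
  · exact chkURangeF_spec C relF_hyp 1237356000 tc_eq 4837376 2048 ck_2362 b (by omega) (by omega)
  rcases Nat.lt_or_ge b 4841472 with g11 | g11
  · exact chkURangeF_spec C relF_hyp 1237356000 tc_eq 4839424 2048 ck_2363 b (by omega) (by omega)
  rcases Nat.lt_or_ge b 4843520 with g12 | g12
  · exact chkURangeF_spec C relF_hyp 1237356000 tc_eq 4841472 2048 ck_2364 b (by omega) (by omega)
  rcases Nat.lt_or_ge b 4845568 with g13 | g13
  · exact chkURangeF_spec C relF_hyp 1237356000 tc_eq 4843520 2048 ck_2365 b (by omega) (by omega)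
  rcases Nat.lt_or_ge b 4847616 with g14 | g14
  · exact chkURangeF_spec C relF_hyp 1237356000 tc_eq 4845568 2048 ck_2366 b (by omega) (by omega)
  rcases Nat.lt_or_ge b 4849664 with g15 | g15
  · exact chkURangeF_spec C relF_hyp 1237356000 tc_eq 4847616 2048 ck_2367 b (by omega) (by omega)
  rcases Nat.lt_or_ge b 4851712 with g16 | g16
  · exact chkURangeF_spec C relF_hyp 1237356000 tc_eq 4849664 2048 ck_2368 b (by omega) (by omega)
  rcases Nat.lt_or_ge b 4853760 with g17 | g17
  · exact chkURangeF_spec C relF_hyp 1237356000 tc_eq 4851712 2048 ck_2369 b (by omega) (by omega)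
  rcases Nat.lt_or_ge b 4855808 with g18 | g18
  · exact chkURangeF_spec C relF_hyp 1237356000 tc_eq 4853760 2048 ck_2370 b (by omega) (by omega)
  rcases Nat.lt_or_ge b 4857856 with g19 | g19
  · exact chkURangeF_spec C relF_hyp 1237356000 tc_eq 4855808 2048 ck_2371 b (by omega) (by omega)
  rcases Nat.lt_or_ge b 4859904 with g20 | g20
  · exact chkURangeF_spec C relF_hyp 1237356000 tc_eq 4857856 2048 ck_2372 b (by omega) (by omega)
  rcases Nat.lt_or_ge b 4861952 with g21 | g21
  · exact chkURangeF_spec C relF_hyp 1237356000 tc_eq 4859904 2048 ck_2373 b (by omega) (by omega)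
  rcases Nat.lt_or_ge b 4864000 with g22 | g22
  · exact chkURangeF_spec C relF_hyp 1237356000 tc_eq 4861952 2048 ck_2374 b (by omega) (by omega)
  exact chkURangeF_spec C relF_hyp 1237356000 tc_eq 4864000 2048 ck_2375 b (by omega) (by omega)
end Cfsg.Agent.Lib.Helper2.HNMult.P3
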