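import Cfsg.Agent.Lib.Helper2.HNMult.P3.K0
import Cfsg.Agent.Lib.Helper2.HNMult.P3.K1
import Cfsg.Agent.Lib.Helper2.HNMult.P3.K2
import Cfsg.Agent.Lib.Helper2.HNMult.P3.K3
import Cfsg.Agent.Lib.Helper2.HNMult.P3.K4
import Cfsg.Agent.Lib.Helper2.HNMult.P3.K5
import Cfsg.Agent.Lib.Helper2.HNMult.P3.K6
import Cfsg.Agent.Lib.Helper2.HNMult.P3.K7
import Cfsg.Agent.Lib.Helper2.HNMult.P3.K8
import Cfsg.Agent.Lib.Helper2.HNMult.P3.K9
import Cfsg.Agent.Lib.Helper2.HNMult.P3.K10
import Cfsg.Agent.Lib.Helper2.HNMult.P3.K11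
import Cfsg.Agent.Lib.Helper2.HNMult.P3.K12
import Cfsg.Agent.Lib.Helper2.HNMult.P3.K13
import Cfsg.Agent.Lib.Helper2.HNMult.P3.K14
import Cfsg.Agent.Lib.Helper2.HNMult.P3.K15
import Cfsg.Agent.Lib.Helper2.HNMult.P3.K16
import Cfsg.Agent.Lib.Helper2.HNMult.P3.K17
import Cfsg.Agent.Lib.Helper2.HNMult.P3.K18
import Cfsg.Agent.Lib.Helper2.HNMult.P3.K19
import Cfsg.Agent.Lib.Helper2.HNMult.P3.K20
import Cfsg.Agent.Lib.Helper2.HNMult.P3.K21
import Cfsg.Agent.Lib.Helper2.HNMult.P3.K22
import Cfsg.Agent.Lib.Helper2.HNMult.P3.K23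
import Cfsg.Agent.Lib.Helper2.HNMult.P3.K24
import Cfsg.Agent.Lib.Helper2.HNMult.P3.K25
import Cfsg.Agent.Lib.Helper2.HNMult.P3.K26
import Cfsg.Agent.Lib.Helper2.HNMult.P3.K27
import Cfsg.Agent.Lib.Helper2.HNMult.P3.K28
import Cfsg.Agent.Lib.Helper2.HNMult.P3.K29
import Cfsg.Agent.Lib.Helper2.HNMult.P3.K30
import Cfsg.Agent.Lib.Helper2.HNMult.P3.K31
import Cfsg.Agent.Lib.Helper2.HNMult.P3.K32
import Cfsg.Agent.Lib.Helper2.HNMult.P3.K33
import Cfsg.Agent.Lib.Helper2.HNMult.P3.K34
import Cfsg.Agent.Lib.Helper2.HNMult.P3.K35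
import Cfsg.Agent.Lib.Helper2.HNMult.P3.K36
import Cfsg.Agent.Lib.Helper2.HNMult.P3.K37
import Cfsg.Agent.Lib.Helper2.HNMult.P3.K38
import Cfsg.Agent.Lib.Helper2.HNMult.P3.K39
import Cfsg.Agent.Lib.Helper2.HNMult.P3.K40
import Cfsg.Agent.Lib.Helper2.HNMult.P3.K41
import Cfsg.Agent.Lib.Helper2.HNMult.P3.K42
import Cfsg.Agent.Lib.Helper2.HNMult.P3.K43
import Cfsg.Agent.Lib.Helper2.HNMult.P3.K44
import Cfsg.Agent.Lib.Helper2.HNMult.P3.K45
import Cfsg.Agent.Lib.Helper2.HNMult.P3.K46
import Cfsg.Agent.Lib.Helper2.HNMult.P3.K47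
import Cfsg.Agent.Lib.Helper2.HNMult.P3.K48
import Cfsg.Agent.Lib.Helper2.HNMult.P3.K49
import Cfsg.Agent.Lib.Helper2.HNMult.P3.K50
import Cfsg.Agent.Lib.Helper2.HNMult.P3.K51
import Cfsg.Agent.Lib.Helper2.HNMult.P3.K52
import Cfsg.Agent.Lib.Helper2.HNMult.P3.K53
import Cfsg.Agent.Lib.Helper2.HNMult.P3.K54
import Cfsg.Agent.Lib.Helper2.HNMult.P3.K55
import Cfsg.Agent.Lib.Helper2.HNMult.P3.K56
import Cfsg.Agent.Lib.Helper2.HNMult.P3.K57
import Cfsg.Agent.Lib.Helper2.HNMult.P3.K58
import Cfsg.Agent.Lib.Helper2.HNMult.P3.K59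
import Cfsg.Agent.Lib.Helper2.HNMult.P3.K60
import Cfsg.Agent.Lib.Helper2.HNMult.P3.K61
import Cfsg.Agent.Lib.Helper2.HNMult.P3.K62
import Cfsg.Agent.Lib.Helper2.HNMult.P3.K63
import Cfsg.Agent.Lib.Helper2.HNMult.P3.K64
import Cfsg.Agent.Lib.Helper2.HNMult.P3.K65
import Cfsg.Agent.Lib.Helper2.HNMult.P3.K66
import Cfsg.Agent.Lib.Helper2.HNMult.P3.K67
import Cfsg.Agent.Lib.Helper2.HNMult.P3.K68
import Cfsg.Agent.Lib.Helper2.HNMult.P3.K69
import Cfsg.Agent.Lib.Helper2.HNMult.P3.K70
import Cfsg.Agent.Lib.Helper2.HNMult.P3.K71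
import Cfsg.Agent.Lib.Helper2.HNMult.P3.K72
import Cfsg.Agent.Lib.Helper2.HNMult.P3.K73
import Cfsg.Agent.Lib.Helper2.HNMult.P3.K74
import Cfsg.Agent.Lib.Helper2.HNMult.P3.K75
import Cfsg.Agent.Lib.Helper2.HNMult.P3.K76
import Cfsg.Agent.Lib.Helper2.HNMult.P3.K77
import Cfsg.Agent.Lib.Helper2.HNMult.P3.K78
import Cfsg.Agent.Lib.Helper2.HNMult.P3.K79
import Cfsg.Agent.Lib.Helper2.HNMult.P3.K80
import Cfsg.Agent.Lib.Helper2.HNMult.P3.K81
import Cfsg.Agent.Lib.Helper2.HNMult.P3.K82
import Cfsg.Agent.Lib.Helper2.HNMult.P3.K83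
import Cfsg.Agent.Lib.Helper2.HNMult.P3.K84
import Cfsg.Agent.Lib.Helper2.HNMult.P3.K85
import Cfsg.Agent.Lib.Helper2.HNMult.P3.K86
import Cfsg.Agent.Lib.Helper2.HNMult.P3.K87
import Cfsg.Agent.Lib.Helper2.HNMult.P3.K88
import Cfsg.Agent.Lib.Helper2.HNMult.P3.K89
import Cfsg.Agent.Lib.Helper2.HNMult.P3.K90
import Cfsg.Agent.Lib.Helper2.HNMult.P3.K91
import Cfsg.Agent.Lib.Helper2.HNMult.P3.K92
import Cfsg.Agent.Lib.Helper2.HNMult.P3.K93
import Cfsg.Agent.Lib.Helper2.HNMult.P3.K94
import Cfsg.Agent.Lib.Helper2.HNMult.P3.K95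
import Cfsg.Agent.Lib.Helper2.HNMult.P3.K96
import Cfsg.Agent.Lib.Helper2.HNMult.P3.K97
import Cfsg.Agent.Lib.Helper2.HNMult.P3.K98
import Cfsg.Agent.Lib.Helper2.HNMult.P3.K99
import Cfsg.Agent.Lib.Helper2.HNMult.P3.K100
import Cfsg.Agent.Lib.Helper2.HNMult.P3.K101
import Cfsg.Agent.Lib.Helper2.HNMult.P3.K102
import Cfsg.Agent.Lib.Helper2.HNMult.P3.K103
import Cfsg.Agent.Lib.Helper2.HNMult.P3.K104
import Cfsg.Agent.Lib.Helper2.HNMult.P3.K105
import Cfsg.Agent.Lib.Helper2.HNMult.P3.K106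
import Cfsg.Agent.Lib.Helper2.HNMult.P3.K107
import Cfsg.Agent.Lib.Helper2.HNMult.P3.K108
import Cfsg.Agent.Lib.Helper2.HNMult.P3.K109
import Cfsg.Agent.Lib.Helper2.HNMult.P3.K110
import Cfsg.Agent.Lib.Helper2.HNMult.P3.K111
import Cfsg.Agent.Lib.Helper2.HNMult.P3.K112
import Cfsg.Agent.Lib.Helper2.HNMult.P3.K113
import Cfsg.Agent.Lib.Helper2.HNMult.P3.K114
import Cfsg.Agent.Lib.Helper2.HNMult.P3.K115
import Cfsg.Agent.Lib.Helper2.HNMult.P3.K116
import Cfsg.Agent.Lib.Helper2.HNMult.P3.K117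
import Cfsg.Agent.Lib.Helper2.HNMult.P3.K118
import Cfsg.Agent.Lib.Helper2.HNMult.P3.K119
import Cfsg.Agent.Lib.Helper2.HNMult.P3.K120
import Cfsg.Agent.Lib.Helper2.HNMult.P3.K121
import Cfsg.Agent.Lib.Helper2.HNMult.P3.K122
import Cfsg.Agent.Lib.Helper2.HNMult.P3.K123
import Cfsg.Agent.Lib.Helper2.HNMult.P3.K124
import Cfsg.Agent.Lib.Helper2.HNMult.P3.K125
import Cfsg.Agent.Lib.Helper2.HNMult.P3.K126
import Cfsg.Agent.Lib.Helper2.HNMult.P3.K127
import Cfsg.Agent.Lib.Helper2.HNMult.P3.K128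
import Cfsg.Agent.Lib.Helper2.HNMult.P3.K129
import Cfsg.Agent.Lib.Helper2.HNMult.P3.K130
import Cfsg.Agent.Lib.Helper2.HNMult.P3.K131
import Cfsg.Agent.Lib.Helper2.HNMult.P3.K132
import Cfsg.Agent.Lib.Helper2.HNMult.P3.K133
import Cfsg.Agent.Lib.Helper2.HNMult.P3.K134
import Cfsg.Agent.Lib.Helper2.HNMult.P3.K135
import Cfsg.Agent.Lib.Helper2.HNMult.P3.K136
import Cfsg.Agent.Lib.Helper2.HNMult.P3.K137
import Cfsg.Agent.Lib.Helper2.HNMult.P3.K138
import Cfsg.Agent.Lib.Helper2.HNMult.P3.K139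
import Cfsg.Agent.Lib.Helper2.HNMult.P3.K140
import Cfsg.Agent.Lib.Helper2.HNMult.P3.K141
import Cfsg.Agent.Lib.Helper2.HNMult.P3.K142
import Cfsg.Agent.Lib.Helper2.HNMult.P3.K143
import Cfsg.Agent.Lib.Helper2.HNMult.P3.K144
import Cfsg.Agent.Lib.Helper2.HNMult.P3.K145
import Cfsg.Agent.Lib.Helper2.HNMult.P3.K146
import Cfsg.Agent.Lib.Helper2.HNMult.P3.K147
import Cfsg.Agent.Lib.Helper2.HNMult.P3.K148
import Cfsg.Agent.Lib.Helper2.HNMult.P3.K149
import Cfsg.Agent.Lib.Helper2.HNMult.P3.K150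
import Cfsg.Agent.Lib.Helper2.HNMult.P3.K151
import Cfsg.Agent.Lib.Helper2.HNMult.P3.K152
import Cfsg.Agent.Lib.Helper2.HNMult.P3.K153
import Cfsg.Agent.Lib.Helper2.HNMult.P3.K154
import Cfsg.Agent.Lib.Helper2.HNMult.P3.K155
import Cfsg.Agent.Lib.Helper2.HNMult.P3.K156
import Cfsg.Agent.Lib.Helper2.HNMult.P3.K157
import Cfsg.Agent.Lib.Helper2.HNMult.P3.K158
import Cfsg.Agent.Lib.Helper2.HNMult.P3.K159
import Cfsg.Agent.Lib.Helper2.HNMult.P3.K160
import Cfsg.Agent.Lib.Helper2.HNMult.P3.K161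
import Cfsg.Agent.Lib.Helper2.HNMult.P3.K162
import Cfsg.Agent.Lib.Helper2.HNMult.P3.K163
import Cfsg.Agent.Lib.Helper2.HNMult.P3.K164
import Cfsg.Agent.Lib.Helper2.HNMult.P3.K165
import Cfsg.Agent.Lib.Helper2.HNMult.P3.K166
import Cfsg.Agent.Lib.Helper2.HNMult.P3.K167
import Cfsg.Agent.Lib.Helper2.HNMult.P3.K168
import Cfsg.Agent.Lib.Helper2.HNMult.P3.K169
import Cfsg.Agent.Lib.Helper2.HNMult.P3.K170
import Cfsg.Agent.Lib.Helper2.HNMult.P3.K171
import Cfsg.Agent.Lib.Helper2.HNMult.P3.K172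
import Cfsg.Agent.Lib.Helper2.HNMult.P3.K173
import Cfsg.Agent.Lib.Helper2.HNMult.P3.K174
import Cfsg.Agent.Lib.Helper2.HNMult.P3.K175
import Cfsg.Agent.Lib.Helper2.HNMult.P3.K176
import Cfsg.Agent.Lib.Helper2.HNMult.P3.K177
import Cfsg.Agent.Lib.Helper2.HNMult.P3.K178
import Cfsg.Agent.Lib.Helper2.HNMult.P3.K179
import Cfsg.Agent.Lib.Helper2.HNMult.P3.K180
import Cfsg.Agent.Lib.Helper2.HNMult.P3.K181
import Cfsg.Agent.Lib.Helper2.HNMult.P3.K182
import Cfsg.Agent.Lib.Helper2.HNMult.P3.K183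
import Cfsg.Agent.Lib.Helper2.HNMult.P3.K184
import Cfsg.Agent.Lib.Helper2.HNMult.P3.K185
import Cfsg.Agent.Lib.Helper2.HNMult.P3.K186
import Cfsg.Agent.Lib.Helper2.HNMult.P3.K187
import Cfsg.Agent.Lib.Helper2.HNMult.P3.K188
import Cfsg.Agent.Lib.Helper2.HNMult.P3.K189
import Cfsg.Agent.Lib.Helper2.HNMult.P3.K190
import Cfsg.Agent.Lib.Helper2.HNMult.P3.K191
import Cfsg.Agent.Lib.Helper2.HNMult.P3.K192
import Cfsg.Agent.Lib.Helper2.HNMult.P3.K193
import Cfsg.Agent.Lib.Helper2.HNMult.P3.K194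
import Cfsg.Agent.Lib.Helper2.HNMult.P3.K195
import Cfsg.Agent.Lib.Helper2.HNMult.P3.K196
import Cfsg.Agent.Lib.Helper2.HNMult.P3.K197
import Cfsg.Agent.Lib.Helper2.HNMult.P3.K198
import Cfsg.Agent.Lib.Helper2.HNMult.P3.K199
import Cfsg.Agent.Lib.Helper2.HNMult.P3.K200
import Cfsg.Agent.Lib.Helper2.HNMult.P3.K201
import Cfsg.Agent.Lib.Helper2.HNMult.P3.K202
import Cfsg.Agent.Lib.Helper2.HNMult.P3.K203
import Cfsg.Agent.Lib.Helper2.HNMult.P3.K204
import Cfsg.Agent.Lib.Helper2.HNMult.P3.K205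
import Cfsg.Agent.Lib.Helper2.HNMult.P3.K206
import Cfsg.Agent.Lib.Helper2.HNMult.P3.K207
import Cfsg.Agent.Lib.Helper2.HNMult.P3.K208
import Cfsg.Agent.Lib.Helper2.HNMult.P3.K209
import Cfsg.Agent.Lib.Helper2.HNMult.P3.K210
import Cfsg.Agent.Lib.Helper2.HNMult.P3.K211
import Cfsg.Agent.Lib.Helper2.HNMult.P3.K212
import Cfsg.Agent.Lib.Helper2.HNMult.P3.K213
import Cfsg.Agent.Lib.Helper2.HNMult.P3.K214
import Cfsg.Agent.Lib.Helper2.HNMult.P3.K215
import Cfsg.Agent.Lib.Helper2.HNMult.P3.K216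
import Cfsg.Agent.Lib.Helper2.HNMult.P3.K217
import Cfsg.Agent.Lib.Helper2.HNMult.P3.K218
import Cfsg.Agent.Lib.Helper2.HNMult.P3.K219
set_option autoImplicit false

/-! # All the unknowns pass the check -/

namespace Cfsg.Agent.Lib.Helper2.HNMult.P3
open Cfsg.Agent.Lib.Helper4.Sparse

theorem chkU_all (b : ℕ) (hb : b < 10773796) : chkU D C b = true := by
  rcases Nat.lt_or_ge b 49152 with g0 | g0
  · exact chkU_0 b (by omega) g0
  rcases Nat.lt_or_ge b 98304 with g1 | g1
  · exact chkU_1 b (by omega) g1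
  rcases Nat.lt_or_ge b 147456 with g2 | g2
  · exact chkU_2 b (by omega) g2
  rcases Nat.lt_or_ge b 196608 with g3 | g3
  · exact chkU_3 b (by omega) g3
  rcases Nat.lt_or_ge b 245760 with g4 | g4
  · exact chkU_4 b (by omega) g4
  rcases Nat.lt_or_ge b 294912 with g5 | g5
  · exact chkU_5 b (by omega) g5
  rcases Nat.lt_or_ge b 344064 with g6 | g6
  · exact chkU_6 b (by omega) g6
  rcases Nat.lt_or_ge b 393216 with g7 | g7
  · exact chkU_7 b (by omega) g7
  rcases Nat.lt_or_ge b 442368 with g8 | g8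
  · exact chkU_8 b (by omega) g8
  rcases Nat.lt_or_ge b 491520 with g9 | g9
  · exact chkU_9 b (by omega) g9
  rcases Nat.lt_or_ge b 540672 with g10 | g10
  · exact chkU_10 b (by omega) g10
  rcases Nat.lt_or_ge b 589824 with g11 | g11
  · exact chkU_11 b (by omega) g11
  rcases Nat.lt_or_ge b 638976 with g12 | g12
  · exact chkU_12 b (by omega) g12
  rcases Nat.lt_or_ge b 688128 with g13 | g13
  · exact chkU_13 b (by omega) g13
  rcases Nat.lt_or_ge b 737280 with g14 | g14
  · exact chkU_14 b (by omega) g14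
  rcases Nat.lt_or_ge b 786432 with g15 | g15
  · exact chkU_15 b (by omega) g15
  rcases Nat.lt_or_ge b 835584 with g16 | g16
  · exact chkU_16 b (by omega) g16
  rcases Nat.lt_or_ge b 884736 with g17 | g17
  · exact chkU_17 b (by omega) g17
  rcases Nat.lt_or_ge b 933888 with g18 | g18
  · exact chkU_18 b (by omega) g18
  rcases Nat.lt_or_ge b 983040 with g19 | g19
  · exact chkU_19 b (by omega) g19
  rcases Nat.lt_or_ge b 1032192 with g20 | g20
  · exact chkU_20 b (by omega) g20
  rcases Nat.lt_or_ge b 1081344 with g21 | g21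
  · exact chkU_21 b (by omega) g21
  rcases Nat.lt_or_ge b 1130496 with g22 | g22
  · exact chkU_22 b (by omega) g22
  rcases Nat.lt_or_ge b 1179648 with g23 | g23
  · exact chkU_23 b (by omega) g23
  rcases Nat.lt_or_ge b 1228800 with g24 | g24
  · exact chkU_24 b (by omega) g24
  rcases Nat.lt_or_ge b 1277952 with g25 | g25
  · exact chkU_25 b (by omega) g25
  rcases Nat.lt_or_ge b 1327104 with g26 | g26
  · exact chkU_26 b (by omega) g26
  rcases Nat.lt_or_ge b 1376256 with g27 | g27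
  · exact chkU_27 b (by omega) g27
  rcases Nat.lt_or_ge b 1425408 with g28 | g28
  · exact chkU_28 b (by omega) g28
  rcases Nat.lt_or_ge b 1474560 with g29 | g29
  · exact chkU_29 b (by omega) g29
  rcases Nat.lt_or_ge b 1523712 with g30 | g30
  · exact chkU_30 b (by omega) g30
  rcases Nat.lt_or_ge b 1572864 with g31 | g31
  · exact chkU_31 b (by omega) g31
  rcases Nat.lt_or_ge b 1622016 with g32 | g32
  · exact chkU_32 b (by omega) g32
  rcases Nat.lt_or_ge b 1671168 with g33 | g33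
  · exact chkU_33 b (by omega) g33
  rcases Nat.lt_or_ge b 1720320 with g34 | g34
  · exact chkU_34 b (by omega) g34
  rcases Nat.lt_or_ge b 1769472 with g35 | g35
  · exact chkU_35 b (by omega) g35
  rcases Nat.lt_or_ge b 1818624 with g36 | g36
  · exact chkU_36 b (by omega) g36
  rcases Nat.lt_or_ge b 1867776 with g37 | g37
  · exact chkU_37 b (by omega) g37
  rcases Nat.lt_or_ge b 1916928 with g38 | g38
  · exact chkU_38 b (by omega) g38
  rcases Nat.lt_or_ge b 1966080 with g39 | g39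
  · exact chkU_39 b (by omega) g39
  rcases Nat.lt_or_ge b 2015232 with g40 | g40
  · exact chkU_40 b (by omega) g40
  rcases Nat.lt_or_ge b 2064384 with g41 | g41
  · exact chkU_41 b (by omega) g41
  rcases Nat.lt_or_ge b 2113536 with g42 | g42
  · exact chkU_42 b (by omega) g42
  rcases Nat.lt_or_ge b 2162688 with g43 | g43
  · exact chkU_43 b (by omega) g43
  rcases Nat.lt_or_ge b 2211840 with g44 | g44
  · exact chkU_44 b (by omega) g44
  rcases Nat.lt_or_ge b 2260992 with g45 | g45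
  · exact chkU_45 b (by omega) g45
  rcases Nat.lt_or_ge b 2310144 with g46 | g46
  · exact chkU_46 b (by omega) g46
  rcases Nat.lt_or_ge b 2359296 with g47 | g47
  · exact chkU_47 b (by omega) g47
  rcases Nat.lt_or_ge b 2408448 with g48 | g48
  · exact chkU_48 b (by omega) g48
  rcases Nat.lt_or_ge b 2457600 with g49 | g49
  · exact chkU_49 b (by omega) g49
  rcases Nat.lt_or_ge b 2506752 with g50 | g50
  · exact chkU_50 b (by omega) g50
  rcases Nat.lt_or_ge b 2555904 with g51 | g51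
  · exact chkU_51 b (by omega) g51
  rcases Nat.lt_or_ge b 2605056 with g52 | g52
  · exact chkU_52 b (by omega) g52
  rcases Nat.lt_or_ge b 2654208 with g53 | g53
  · exact chkU_53 b (by omega) g53
  rcases Nat.lt_or_ge b 2703360 with g54 | g54
  · exact chkU_54 b (by omega) g54
  rcases Nat.lt_or_ge b 2752512 with g55 | g55
  · exact chkU_55 b (by omega) g55
  rcases Nat.lt_or_ge b 2801664 with g56 | g56
  · exact chkU_56 b (by omega) g56
  rcases Nat.lt_or_ge b 2850816 with g57 | g57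
  · exact chkU_57 b (by omega) g57
  rcases Nat.lt_or_ge b 2899968 with g58 | g58
  · exact chkU_58 b (by omega) g58
  rcases Nat.lt_or_ge b 2949120 with g59 | g59
  · exact chkU_59 b (by omega) g59
  rcases Nat.lt_or_ge b 2998272 with g60 | g60
  · exact chkU_60 b (by omega) g60
  rcases Nat.lt_or_ge b 3047424 with g61 | g61
  · exact chkU_61 b (by omega) g61
  rcases Nat.lt_or_ge b 3096576 with g62 | g62
  · exact chkU_62 b (by omega) g62
  rcases Nat.lt_or_ge b 3145728 with g63 | g63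
  · exact chkU_63 b (by omega) g63
  rcases Nat.lt_or_ge b 3194880 with g64 | g64
  · exact chkU_64 b (by omega) g64
  rcases Nat.lt_or_ge b 3244032 with g65 | g65
  · exact chkU_65 b (by omega) g65
  rcases Nat.lt_or_ge b 3293184 with g66 | g66
  · exact chkU_66 b (by omega) g66
  rcases Nat.lt_or_ge b 3342336 with g67 | g67
  · exact chkU_67 b (by omega) g67
  rcases Nat.lt_or_ge b 3391488 with g68 | g68
  · exact chkU_68 b (by omega) g68
  rcases Nat.lt_or_ge b 3440640 with g69 | g69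
  · exact chkU_69 b (by omega) g69
  rcases Nat.lt_or_ge b 3489792 with g70 | g70
  · exact chkU_70 b (by omega) g70
  rcases Nat.lt_or_ge b 3538944 with g71 | g71
  · exact chkU_71 b (by omega) g71
  rcases Nat.lt_or_ge b 3588096 with g72 | g72
  · exact chkU_72 b (by omega) g72
  rcases Nat.lt_or_ge b 3637248 with g73 | g73
  · exact chkU_73 b (by omega) g73
  rcases Nat.lt_or_ge b 3686400 with g74 | g74
  · exact chkU_74 b (by omega) g74
  rcases Nat.lt_or_ge b 3735552 with g75 | g75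
  · exact chkU_75 b (by omega) g75
  rcases Nat.lt_or_ge b 3784704 with g76 | g76
  · exact chkU_76 b (by omega) g76
  rcases Nat.lt_or_ge b 3833856 with g77 | g77
  · exact chkU_77 b (by omega) g77
  rcases Nat.lt_or_ge b 3883008 with g78 | g78
  · exact chkU_78 b (by omega) g78
  rcases Nat.lt_or_ge b 3932160 with g79 | g79
  · exact chkU_79 b (by omega) g79
  rcases Nat.lt_or_ge b 3981312 with g80 | g80
  · exact chkU_80 b (by omega) g80
  rcases Nat.lt_or_ge b 4030464 with g81 | g81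
  · exact chkU_81 b (by omega) g81
  rcases Nat.lt_or_ge b 4079616 with g82 | g82
  · exact chkU_82 b (by omega) g82
  rcases Nat.lt_or_ge b 4128768 with g83 | g83
  · exact chkU_83 b (by omega) g83
  rcases Nat.lt_or_ge b 4177920 with g84 | g84
  · exact chkU_84 b (by omega) g84
  rcases Nat.lt_or_ge b 4227072 with g85 | g85
  · exact chkU_85 b (by omega) g85
  rcases Nat.lt_or_ge b 4276224 with g86 | g86
  · exact chkU_86 b (by omega) g86
  rcases Nat.lt_or_ge b 4325376 with g87 | g87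
  · exact chkU_87 b (by omega) g87
  rcases Nat.lt_or_ge b 4374528 with g88 | g88
  · exact chkU_88 b (by omega) g88
  rcases Nat.lt_or_ge b 4423680 with g89 | g89
  · exact chkU_89 b (by omega) g89
  rcases Nat.lt_or_ge b 4472832 with g90 | g90
  · exact chkU_90 b (by omega) g90
  rcases Nat.lt_or_ge b 4521984 with g91 | g91
  · exact chkU_91 b (by omega) g91
  rcases Nat.lt_or_ge b 4571136 with g92 | g92
  · exact chkU_92 b (by omega) g92
  rcases Nat.lt_or_ge b 4620288 with g93 | g93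
  · exact chkU_93 b (by omega) g93
  rcases Nat.lt_or_ge b 4669440 with g94 | g94
  · exact chkU_94 b (by omega) g94
  rcases Nat.lt_or_ge b 4718592 with g95 | g95
  · exact chkU_95 b (by omega) g95
  rcases Nat.lt_or_ge b 4767744 with g96 | g96
  · exact chkU_96 b (by omega) g96
  rcases Nat.lt_or_ge b 4816896 with g97 | g97
  · exact chkU_97 b (by omega) g97
  rcases Nat.lt_or_ge b 4866048 with g98 | g98
  · exact chkU_98 b (by omega) g98
  rcases Nat.lt_or_ge b 4915200 with g99 | g99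
  · exact chkU_99 b (by omega) g99
  rcases Nat.lt_or_ge b 4964352 with g100 | g100
  · exact chkU_100 b (by omega) g100
  rcases Nat.lt_or_ge b 5013504 with g101 | g101
  · exact chkU_101 b (by omega) g101
  rcases Nat.lt_or_ge b 5062656 with g102 | g102
  · exact chkU_102 b (by omega) g102
  rcases Nat.lt_or_ge b 5111808 with g103 | g103
  · exact chkU_103 b (by omega) g103
  rcases Nat.lt_or_ge b 5160960 with g104 | g104
  · exact chkU_104 b (by omega) g104
  rcases Nat.lt_or_ge b 5210112 with g105 | g105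
  · exact chkU_105 b (by omega) g105
  rcases Nat.lt_or_ge b 5259264 with g106 | g106
  · exact chkU_106 b (by omega) g106
  rcases Nat.lt_or_ge b 5308416 with g107 | g107
  · exact chkU_107 b (by omega) g107
  rcases Nat.lt_or_ge b 5357568 with g108 | g108
  · exact chkU_108 b (by omega) g108
  rcases Nat.lt_or_ge b 5406720 with g109 | g109
  · exact chkU_109 b (by omega) g109
  rcases Nat.lt_or_ge b 5455872 with g110 | g110
  · exact chkU_110 b (by omega) g110
  rcases Nat.lt_or_ge b 5505024 with g111 | g111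
  · exact chkU_111 b (by omega) g111
  rcases Nat.lt_or_ge b 5554176 with g112 | g112
  · exact chkU_112 b (by omega) g112
  rcases Nat.lt_or_ge b 5603328 with g113 | g113
  · exact chkU_113 b (by omega) g113
  rcases Nat.lt_or_ge b 5652480 with g114 | g114
  · exact chkU_114 b (by omega) g114
  rcases Nat.lt_or_ge b 5701632 with g115 | g115
  · exact chkU_115 b (by omega) g115
  rcases Nat.lt_or_ge b 5750784 with g116 | g116
  · exact chkU_116 b (by omega) g116
  rcases Nat.lt_or_ge b 5799936 with g117 | g117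
  · exact chkU_117 b (by omega) g117
  rcases Nat.lt_or_ge b 5849088 with g118 | g118
  · exact chkU_118 b (by omega) g118
  rcases Nat.lt_or_ge b 5898240 with g119 | g119
  · exact chkU_119 b (by omega) g119
  rcases Nat.lt_or_ge b 5947392 with g120 | g120
  · exact chkU_120 b (by omega) g120
  rcases Nat.lt_or_ge b 5996544 with g121 | g121
  · exact chkU_121 b (by omega) g121
  rcases Nat.lt_or_ge b 6045696 with g122 | g122
  · exact chkU_122 b (by omega) g122
  rcases Nat.lt_or_ge b 6094848 with g123 | g123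
  · exact chkU_123 b (by omega) g123
  rcases Nat.lt_or_ge b 6144000 with g124 | g124
  · exact chkU_124 b (by omega) g124
  rcases Nat.lt_or_ge b 6193152 with g125 | g125
  · exact chkU_125 b (by omega) g125
  rcases Nat.lt_or_ge b 6242304 with g126 | g126
  · exact chkU_126 b (by omega) g126
  rcases Nat.lt_or_ge b 6291456 with g127 | g127
  · exact chkU_127 b (by omega) g127
  rcases Nat.lt_or_ge b 6340608 with g128 | g128
  · exact chkU_128 b (by omega) g128
  rcases Nat.lt_or_ge b 6389760 with g129 | g129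
  · exact chkU_129 b (by omega) g129
  rcases Nat.lt_or_ge b 6438912 with g130 | g130
  · exact chkU_130 b (by omega) g130
  rcases Nat.lt_or_ge b 6488064 with g131 | g131
  · exact chkU_131 b (by omega) g131
  rcases Nat.lt_or_ge b 6537216 with g132 | g132
  · exact chkU_132 b (by omega) g132
  rcases Nat.lt_or_ge b 6586368 with g133 | g133
  · exact chkU_133 b (by omega) g133
  rcases Nat.lt_or_ge b 6635520 with g134 | g134
  · exact chkU_134 b (by omega) g134
  rcases Nat.lt_or_ge b 6684672 with g135 | g135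
  · exact chkU_135 b (by omega) g135
  rcases Nat.lt_or_ge b 6733824 with g136 | g136
  · exact chkU_136 b (by omega) g136
  rcases Nat.lt_or_ge b 6782976 with g137 | g137
  · exact chkU_137 b (by omega) g137
  rcases Nat.lt_or_ge b 6832128 with g138 | g138
  · exact chkU_138 b (by omega) g138
  rcases Nat.lt_or_ge b 6881280 with g139 | g139
  · exact chkU_139 b (by omega) g139
  rcases Nat.lt_or_ge b 6930432 with g140 | g140
  · exact chkU_140 b (by omega) g140
  rcases Nat.lt_or_ge b 6979584 with g141 | g141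
  · exact chkU_141 b (by omega) g141
  rcases Nat.lt_or_ge b 7028736 with g142 | g142
  · exact chkU_142 b (by omega) g142
  rcases Nat.lt_or_ge b 7077888 with g143 | g143
  · exact chkU_143 b (by omega) g143
  rcases Nat.lt_or_ge b 7127040 with g144 | g144
  · exact chkU_144 b (by omega) g144
  rcases Nat.lt_or_ge b 7176192 with g145 | g145
  · exact chkU_145 b (by omega) g145
  rcases Nat.lt_or_ge b 7225344 with g146 | g146
  · exact chkU_146 b (by omega) g146
  rcases Nat.lt_or_ge b 7274496 with g147 | g147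
  · exact chkU_147 b (by omega) g147
  rcases Nat.lt_or_ge b 7323648 with g148 | g148
  · exact chkU_148 b (by omega) g148
  rcases Nat.lt_or_ge b 7372800 with g149 | g149
  · exact chkU_149 b (by omega) g149
  rcases Nat.lt_or_ge b 7421952 with g150 | g150
  · exact chkU_150 b (by omega) g150
  rcases Nat.lt_or_ge b 7471104 with g151 | g151
  · exact chkU_151 b (by omega) g151
  rcases Nat.lt_or_ge b 7520256 with g152 | g152
  · exact chkU_152 b (by omega) g152
  rcases Nat.lt_or_ge b 7569408 with g153 | g153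
  · exact chkU_153 b (by omega) g153
  rcases Nat.lt_or_ge b 7618560 with g154 | g154
  · exact chkU_154 b (by omega) g154
  rcases Nat.lt_or_ge b 7667712 with g155 | g155
  · exact chkU_155 b (by omega) g155
  rcases Nat.lt_or_ge b 7716864 with g156 | g156
  · exact chkU_156 b (by omega) g156
  rcases Nat.lt_or_ge b 7766016 with g157 | g157
  · exact chkU_157 b (by omega) g157
  rcases Nat.lt_or_ge b 7815168 with g158 | g158
  · exact chkU_158 b (by omega) g158
  rcases Nat.lt_or_ge b 7864320 with g159 | g159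
  · exact chkU_159 b (by omega) g159
  rcases Nat.lt_or_ge b 7913472 with g160 | g160
  · exact chkU_160 b (by omega) g160
  rcases Nat.lt_or_ge b 7962624 with g161 | g161
  · exact chkU_161 b (by omega) g161
  rcases Nat.lt_or_ge b 8011776 with g162 | g162
  · exact chkU_162 b (by omega) g162
  rcases Nat.lt_or_ge b 8060928 with g163 | g163
  · exact chkU_163 b (by omega) g163
  rcases Nat.lt_or_ge b 8110080 with g164 | g164
  · exact chkU_164 b (by omega) g164
  rcases Nat.lt_or_ge b 8159232 with g165 | g165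
  · exact chkU_165 b (by omega) g165
  rcases Nat.lt_or_ge b 8208384 with g166 | g166
  · exact chkU_166 b (by omega) g166
  rcases Nat.lt_or_ge b 8257536 with g167 | g167
  · exact chkU_167 b (by omega) g167
  rcases Nat.lt_or_ge b 8306688 with g168 | g168
  · exact chkU_168 b (by omega) g168
  rcases Nat.lt_or_ge b 8355840 with g169 | g169
  · exact chkU_169 b (by omega) g169
  rcases Nat.lt_or_ge b 8404992 with g170 | g170
  · exact chkU_170 b (by omega) g170
  rcases Nat.lt_or_ge b 8454144 with g171 | g171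
  · exact chkU_171 b (by omega) g171
  rcases Nat.lt_or_ge b 8503296 with g172 | g172
  · exact chkU_172 b (by omega) g172
  rcases Nat.lt_or_ge b 8552448 with g173 | g173
  · exact chkU_173 b (by omega) g173
  rcases Nat.lt_or_ge b 8601600 with g174 | g174
  · exact chkU_174 b (by omega) g174
  rcases Nat.lt_or_ge b 8650752 with g175 | g175
  · exact chkU_175 b (by omega) g175
  rcases Nat.lt_or_ge b 8699904 with g176 | g176
  · exact chkU_176 b (by omega) g176
  rcases Nat.lt_or_ge b 8749056 with g177 | g177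
  · exact chkU_177 b (by omega) g177
  rcases Nat.lt_or_ge b 8798208 with g178 | g178
  · exact chkU_178 b (by omega) g178
  rcases Nat.lt_or_ge b 8847360 with g179 | g179
  · exact chkU_179 b (by omega) g179
  rcases Nat.lt_or_ge b 8896512 with g180 | g180
  · exact chkU_180 b (by omega) g180
  rcases Nat.lt_or_ge b 8945664 with g181 | g181
  · exact chkU_181 b (by omega) g181
  rcases Nat.lt_or_ge b 8994816 with g182 | g182
  · exact chkU_182 b (by omega) g182
  rcases Nat.lt_or_ge b 9043968 with g183 | g183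
  · exact chkU_183 b (by omega) g183
  rcases Nat.lt_or_ge b 9093120 with g184 | g184
  · exact chkU_184 b (by omega) g184
  rcases Nat.lt_or_ge b 9142272 with g185 | g185
  · exact chkU_185 b (by omega) g185
  rcases Nat.lt_or_ge b 9191424 with g186 | g186
  · exact chkU_186 b (by omega) g186
  rcases Nat.lt_or_ge b 9240576 with g187 | g187
  · exact chkU_187 b (by omega) g187
  rcases Nat.lt_or_ge b 9289728 with g188 | g188
  · exact chkU_188 b (by omega) g188
  rcases Nat.lt_or_ge b 9338880 with g189 | g189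
  · exact chkU_189 b (by omega) g189
  rcases Nat.lt_or_ge b 9388032 with g190 | g190
  · exact chkU_190 b (by omega) g190
  rcases Nat.lt_or_ge b 9437184 with g191 | g191
  · exact chkU_191 b (by omega) g191
  rcases Nat.lt_or_ge b 9486336 with g192 | g192
  · exact chkU_192 b (by omega) g192
  rcases Nat.lt_or_ge b 9535488 with g193 | g193
  · exact chkU_193 b (by omega) g193
  rcases Nat.lt_or_ge b 9584640 with g194 | g194
  · exact chkU_194 b (by omega) g194
  rcases Nat.lt_or_ge b 9633792 with g195 | g195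
  · exact chkU_195 b (by omega) g195
  rcases Nat.lt_or_ge b 9682944 with g196 | g196
  · exact chkU_196 b (by omega) g196
  rcases Nat.lt_or_ge b 9732096 with g197 | g197
  · exact chkU_197 b (by omega) g197
  rcases Nat.lt_or_ge b 9781248 with g198 | g198
  · exact chkU_198 b (by omega) g198
  rcases Nat.lt_or_ge b 9830400 with g199 | g199
  · exact chkU_199 b (by omega) g199
  rcases Nat.lt_or_ge b 9879552 with g200 | g200
  · exact chkU_200 b (by omega) g200
  rcases Nat.lt_or_ge b 9928704 with g201 | g201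
  · exact chkU_201 b (by omega) g201
  rcases Nat.lt_or_ge b 9977856 with g202 | g202
  · exact chkU_202 b (by omega) g202
  rcases Nat.lt_or_ge b 10027008 with g203 | g203
  · exact chkU_203 b (by omega) g203
  rcases Nat.lt_or_ge b 10076160 with g204 | g204
  · exact chkU_204 b (by omega) g204
  rcases Nat.lt_or_ge b 10125312 with g205 | g205
  · exact chkU_205 b (by omega) g205
  rcases Nat.lt_or_ge b 10174464 with g206 | g206
  · exact chkU_206 b (by omega) g206
  rcases Nat.lt_or_ge b 10223616 with g207 | g207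
  · exact chkU_207 b (by omega) g207
  rcases Nat.lt_or_ge b 10272768 with g208 | g208
  · exact chkU_208 b (by omega) g208
  rcases Nat.lt_or_ge b 10321920 with g209 | g209
  · exact chkU_209 b (by omega) g209
  rcases Nat.lt_or_ge b 10371072 with g210 | g210
  · exact chkU_210 b (by omega) g210
  rcases Nat.lt_or_ge b 10420224 with g211 | g211
  · exact chkU_211 b (by omega) g211
  rcases Nat.lt_or_ge b 10469376 with g212 | g212
  · exact chkU_212 b (by omega) g212
  rcases Nat.lt_or_ge b 10518528 with g213 | g213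
  · exact chkU_213 b (by omega) g213
  rcases Nat.lt_or_ge b 10567680 with g214 | g214
  · exact chkU_214 b (by omega) g214
  rcases Nat.lt_or_ge b 10616832 with g215 | g215
  · exact chkU_215 b (by omega) g215
  rcases Nat.lt_or_ge b 10665984 with g216 | g216
  · exact chkU_216 b (by omega) g216
  rcases Nat.lt_or_ge b 10715136 with g217 | g217
  · exact chkU_217 b (by omega) g217
  rcases Nat.lt_or_ge b 10764288 with g218 | g218
  · exact chkU_218 b (by omega) g218
  exact chkU_219 b (by omega) hb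

end Cfsg.Agent.Lib.Helper2.HNMult.P3
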