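import Cfsg.Agent.Lib.Helper2.HNMult.Pi
import Cfsg.Agent.Lib.Helper4.Sparse.Tree
import Cfsg.Agent.Lib.Helper2.HNMult.SparseF
import Cfsg.Agent.Lib.Helper2.HNMult.P3.ParT
import Cfsg.Agent.Lib.Helper2.HNMult.P3.Ent
set_option autoImplicit false
set_option maxRecDepth 1000000

/-! # The sparse certificate P3 (prime 3, modulo 3): the relations (the first 7 normalise the lifts of the letters), the data, the certificate -/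

namespace Cfsg.Agent.Lib.Helper2.HNMult.P3

open Cfsg.Agent.Lib.Helper1.StemSA Cfsg.Agent.Lib.Helper4.Sparse

/-- the tables -/
noncomputable def piT : ℕ → ℕ → ℕ := Cfsg.Agent.Lib.Helper2.HNMult.piHN

/-- the relations -/
def rels : List (List ℕ × List ℕ) :=
  [([0, 2, 0, 2, 0, 2, 0, 2, 0, 2, 0, 2, 0, 2, 0, 2], []),
  ([4, 4], []),
  ([4, 0, 4, 0], []),
  ([5, 5, 5, 5, 5], []),
  ([0, 1], []),
  ([2, 3], []),
  ([5, 6], []),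
  ([1, 0], []),
  ([3, 2], []),
  ([6, 5], []),
  ([0, 0, 0], [1]),
  ([1, 1], [0, 0]),
  ([4, 0], [1, 4]),
  ([4, 1], [0, 4]),
  ([5, 2], [2, 5]),
  ([5, 3], [3, 5]),
  ([6, 2], [2, 6]),
  ([6, 3], [3, 6]),
  ([6, 3, 5, 2], []),
  ([0, 5, 1], [5, 5]),
  ([0, 5, 5], [6, 0]),
  ([0, 6, 1], [6, 6]),
  ([0, 6, 6], [5, 0]),
  ([1, 5, 0], [6, 6]),
  ([1, 5, 0, 5, 5], []),
  ([1, 5, 5], [5, 1]),
  ([1, 6, 0], [5, 5]),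
  ([1, 6, 6], [6, 1]),
  ([5, 0, 5], [0, 6]),
  ([5, 0, 6], [6, 0]),
  ([5, 1, 5], [6, 1]),
  ([5, 1, 6], [1, 5]),
  ([5, 5, 0], [0, 5]),
  ([5, 5, 1], [1, 6]),
  ([5, 5, 5], [6, 6]),
  ([6, 0, 5], [5, 0]),
  ([6, 0, 6], [0, 5]),
  ([6, 1, 5], [1, 6]),
  ([6, 1, 6], [5, 1]),
  ([6, 6, 0], [0, 6]),
  ([6, 6, 1], [1, 5]),
  ([6, 6, 6], [5, 5]),
  ([0, 0, 2, 0], [2, 1]),
  ([0, 0, 2, 0, 0, 3], []),
  ([0, 0, 2, 1], [2, 0]),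
  ([0, 0, 3, 0], [3, 1]),
  ([0, 0, 3, 1], [3, 0]),
  ([0, 0, 5, 0], [6, 1]),
  ([0, 0, 6, 0], [5, 1]),
  ([1, 2, 0], [0, 2, 1]),
  ([1, 2, 1], [0, 2, 0]),
  ([1, 3, 0], [0, 3, 1]),
  ([1, 3, 1], [0, 3, 0]),
  ([1, 5, 1], [0, 6, 0]),
  ([1, 6, 1], [0, 5, 0]),
  ([2, 0, 0], [0, 0, 2]),
  ([2, 2, 2, 2], [3, 3]),
  ([2, 2, 2, 2, 2, 2], []),
  ([3, 0, 0], [0, 0, 3]),
  ([3, 3, 3], [2, 2, 2]),
  ([4, 5, 4, 5, 4, 5], []),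
  ([5, 0, 0], [0, 0, 6]),
  ([5, 4, 5], [4, 6, 4]),
  ([6, 0, 0], [0, 0, 5]),
  ([6, 4, 6], [4, 5, 4]),
  ([0, 2, 5, 5], [6, 0, 2]),
  ([0, 2, 6, 6], [5, 0, 2]),
  ([0, 3, 5, 5], [6, 0, 3]),
  ([0, 3, 6, 6], [5, 0, 3]),
  ([0, 4, 5, 0], [4, 6, 6]),
  ([0, 4, 5, 5], [4, 5, 1]),
  ([0, 4, 6, 0], [4, 5, 5]),
  ([0, 4, 6, 6], [4, 6, 1]),
  ([1, 2, 5, 5], [5, 1, 2]),
  ([1, 2, 6, 6], [6, 1, 2]),
  ([1, 3, 5, 5], [5, 1, 3]),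
  ([1, 3, 6, 6], [6, 1, 3]),
  ([1, 4, 5, 1], [4, 5, 5]),
  ([1, 4, 5, 5], [4, 6, 0]),
  ([1, 4, 6, 1], [4, 6, 6]),
  ([1, 4, 6, 6], [4, 5, 0]),
  ([5, 0, 2, 5], [0, 2, 6]),
  ([5, 0, 2, 6], [6, 0, 2]),
  ([5, 0, 3, 5], [0, 3, 6]),
  ([5, 0, 3, 6], [6, 0, 3]),
  ([5, 1, 2, 5], [6, 1, 2]),
  ([5, 1, 2, 6], [1, 2, 5]),
  ([5, 1, 3, 5], [6, 1, 3]),
  ([5, 1, 3, 6], [1, 3, 5]),
  ([6, 0, 2, 5], [5, 0, 2]),
  ([6, 0, 2, 6], [0, 2, 5]),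
  ([6, 0, 3, 5], [5, 0, 3]),
  ([6, 0, 3, 6], [0, 3, 5]),
  ([6, 1, 2, 5], [1, 2, 6]),
  ([6, 1, 2, 6], [5, 1, 2]),
  ([6, 1, 3, 5], [1, 3, 6]),
  ([6, 1, 3, 6], [5, 1, 3]),
  ([0, 0, 2, 2, 0], [2, 2, 1]),
  ([0, 0, 2, 2, 1], [2, 2, 0]),
  ([0, 0, 2, 5, 0], [2, 6, 1]),
  ([0, 0, 2, 5, 1], [2, 6, 0]),
  ([0, 0, 2, 6, 0], [2, 5, 1]),
  ([0, 0, 2, 6, 1], [2, 5, 0]),
  ([0, 0, 3, 3, 0], [3, 3, 1]),
  ([0, 0, 3, 3, 1], [3, 3, 0]),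
  ([0, 0, 3, 5, 0], [3, 6, 1]),
  ([0, 0, 3, 5, 1], [3, 6, 0]),
  ([0, 0, 3, 6, 0], [3, 5, 1]),
  ([0, 0, 3, 6, 1], [3, 5, 0]),
  ([0, 0, 4, 2, 0], [4, 2, 1]),
  ([0, 0, 4, 2, 1], [4, 2, 0]),
  ([0, 0, 4, 3, 0], [4, 3, 1]),
  ([0, 0, 4, 3, 1], [4, 3, 0]),
  ([0, 0, 4, 5, 1], [4, 6, 0]),
  ([0, 0, 4, 6, 1], [4, 5, 0]),
  ([1, 2, 2, 0], [0, 2, 2, 1]),
  ([1, 2, 2, 1], [0, 2, 2, 0]),
  ([1, 2, 5, 0], [0, 2, 6, 1]),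
  ([1, 2, 5, 1], [0, 2, 6, 0]),
  ([1, 2, 6, 0], [0, 2, 5, 1]),
  ([1, 2, 6, 1], [0, 2, 5, 0]),
  ([1, 3, 3, 0], [0, 3, 3, 1]),
  ([1, 3, 3, 1], [0, 3, 3, 0]),
  ([1, 3, 5, 0], [0, 3, 6, 1]),
  ([1, 3, 5, 1], [0, 3, 6, 0]),
  ([1, 3, 6, 0], [0, 3, 5, 1]),
  ([1, 3, 6, 1], [0, 3, 5, 0]),
  ([1, 4, 2, 0], [0, 4, 2, 1]),
  ([1, 4, 2, 1], [0, 4, 2, 0]),
  ([1, 4, 3, 0], [0, 4, 3, 1]),
  ([1, 4, 3, 1], [0, 4, 3, 0]),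
  ([1, 4, 5, 0], [0, 4, 6, 1]),
  ([1, 4, 6, 0], [0, 4, 5, 1]),
  ([2, 0, 5, 0], [0, 5, 0, 2]),
  ([2, 0, 6, 0], [0, 6, 0, 2]),
  ([3, 0, 5, 0], [0, 5, 0, 3]),
  ([3, 0, 6, 0], [0, 6, 0, 3]),
  ([5, 0, 2, 0], [0, 2, 0, 6]),
  ([5, 0, 2, 1], [0, 2, 1, 5]),
  ([5, 0, 3, 0], [0, 3, 0, 6]),
  ([5, 0, 3, 1], [0, 3, 1, 5]),
  ([5, 4, 2, 5], [4, 6, 4, 2]),
  ([5, 4, 3, 5], [4, 6, 4, 3]),
  ([6, 0, 2, 0], [0, 2, 0, 5]),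
  ([6, 0, 2, 1], [0, 2, 1, 6]),
  ([6, 0, 3, 0], [0, 3, 0, 5]),
  ([6, 0, 3, 1], [0, 3, 1, 6]),
  ([6, 4, 2, 6], [4, 5, 4, 2]),
  ([6, 4, 3, 6], [4, 5, 4, 3]),
  ([0, 2, 2, 5, 5], [6, 0, 2, 2]),
  ([0, 2, 2, 6, 6], [5, 0, 2, 2]),
  ([0, 3, 3, 5, 5], [6, 0, 3, 3]),
  ([0, 3, 3, 6, 6], [5, 0, 3, 3]),
  ([0, 4, 2, 5, 5], [4, 5, 1, 2]),
  ([0, 4, 2, 6, 6], [4, 6, 1, 2]),
  ([0, 4, 3, 5, 5], [4, 5, 1, 3]),
  ([0, 4, 3, 6, 6], [4, 6, 1, 3]),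
  ([0, 5, 4, 6, 4], [6, 0, 4, 5]),
  ([0, 6, 4, 5, 4], [5, 0, 4, 6]),
  ([1, 2, 2, 5, 5], [5, 1, 2, 2]),
  ([1, 2, 2, 6, 6], [6, 1, 2, 2]),
  ([1, 3, 3, 5, 5], [5, 1, 3, 3]),
  ([1, 3, 3, 6, 6], [6, 1, 3, 3]),
  ([1, 4, 2, 5, 5], [4, 6, 0, 2]),
  ([1, 4, 2, 6, 6], [4, 5, 0, 2]),
  ([1, 4, 3, 5, 5], [4, 6, 0, 3]),
  ([1, 4, 3, 6, 6], [4, 5, 0, 3]),
  ([1, 5, 4, 6, 4], [5, 1, 4, 5]),
  ([1, 6, 4, 5, 4], [6, 1, 4, 6]),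
  ([4, 5, 0, 4, 5], [6, 0, 4, 6]),
  ([4, 5, 0, 4, 6], [6, 4, 5, 1]),
  ([4, 5, 1, 4, 5], [6, 4, 5, 0]),
  ([4, 5, 1, 4, 6], [6, 1, 4, 5]),
  ([4, 5, 4, 6, 0], [6, 1, 4, 6]),
  ([4, 5, 4, 6, 1], [6, 0, 4, 5]),
  ([4, 5, 4, 6, 6], [6, 4, 5, 5]),
  ([4, 6, 0, 4, 5], [5, 4, 6, 1]),
  ([4, 6, 0, 4, 6], [5, 0, 4, 5]),
  ([4, 6, 1, 4, 5], [5, 1, 4, 6]),
  ([4, 6, 1, 4, 6], [5, 4, 6, 0]),
  ([4, 6, 4, 5, 0], [5, 1, 4, 5]),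
  ([4, 6, 4, 5, 1], [5, 0, 4, 6]),
  ([4, 6, 4, 5, 5], [5, 4, 6, 6]),
  ([5, 0, 2, 2, 5], [0, 2, 2, 6]),
  ([5, 0, 2, 2, 6], [6, 0, 2, 2]),
  ([5, 0, 3, 3, 5], [0, 3, 3, 6]),
  ([5, 0, 3, 3, 6], [6, 0, 3, 3]),
  ([5, 0, 4, 5, 4], [6, 0, 4, 6]),
  ([5, 0, 4, 6, 4], [0, 6, 4, 5]),
  ([5, 1, 2, 2, 5], [6, 1, 2, 2]),
  ([5, 1, 2, 2, 6], [1, 2, 2, 5]),
  ([5, 1, 3, 3, 5], [6, 1, 3, 3]),
  ([5, 1, 3, 3, 6], [1, 3, 3, 5]),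
  ([5, 1, 4, 5, 4], [1, 5, 4, 6]),
  ([5, 1, 4, 6, 4], [6, 1, 4, 5]),
  ([5, 5, 4, 6, 4], [6, 6, 4, 5]),
  ([6, 0, 2, 2, 5], [5, 0, 2, 2]),
  ([6, 0, 2, 2, 6], [0, 2, 2, 5]),
  ([6, 0, 3, 3, 5], [5, 0, 3, 3]),
  ([6, 0, 3, 3, 6], [0, 3, 3, 5]),
  ([6, 0, 4, 5, 4], [0, 5, 4, 6]),
  ([6, 0, 4, 6, 4], [5, 0, 4, 5]),
  ([6, 1, 2, 2, 5], [1, 2, 2, 6]),
  ([6, 1, 2, 2, 6], [5, 1, 2, 2]),
  ([6, 1, 3, 3, 5], [1, 3, 3, 6]),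
  ([6, 1, 3, 3, 6], [5, 1, 3, 3]),
  ([6, 1, 4, 5, 4], [5, 1, 4, 6]),
  ([6, 1, 4, 6, 4], [1, 6, 4, 5]),
  ([6, 6, 4, 5, 4], [5, 5, 4, 6]),
  ([0, 0, 2, 2, 2, 0], [2, 2, 2, 1]),
  ([0, 0, 2, 2, 2, 1], [2, 2, 2, 0]),
  ([0, 0, 2, 2, 5, 0], [2, 2, 6, 1]),
  ([0, 0, 2, 2, 5, 1], [2, 2, 6, 0]),
  ([0, 0, 2, 2, 6, 0], [2, 2, 5, 1]),
  ([0, 0, 2, 2, 6, 1], [2, 2, 5, 0]),
  ([0, 0, 2, 4, 2, 0], [2, 4, 2, 1]),
  ([0, 0, 2, 4, 2, 1], [2, 4, 2, 0]),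
  ([0, 0, 2, 4, 3, 0], [2, 4, 3, 1]),
  ([0, 0, 2, 4, 3, 1], [2, 4, 3, 0]),
  ([0, 0, 2, 4, 5, 0], [2, 4, 6, 1]),
  ([0, 0, 2, 4, 5, 1], [2, 4, 6, 0]),
  ([0, 0, 2, 4, 6, 0], [2, 4, 5, 1]),
  ([0, 0, 2, 4, 6, 1], [2, 4, 5, 0]),
  ([0, 0, 3, 3, 5, 0], [3, 3, 6, 1]),
  ([0, 0, 3, 3, 5, 1], [3, 3, 6, 0]),
  ([0, 0, 3, 3, 6, 0], [3, 3, 5, 1]),
  ([0, 0, 3, 3, 6, 1], [3, 3, 5, 0]),
  ([0, 0, 3, 4, 2, 0], [3, 4, 2, 1]),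
  ([0, 0, 3, 4, 2, 1], [3, 4, 2, 0]),
  ([0, 0, 3, 4, 3, 0], [3, 4, 3, 1]),
  ([0, 0, 3, 4, 3, 1], [3, 4, 3, 0]),
  ([0, 0, 3, 4, 5, 0], [3, 4, 6, 1]),
  ([0, 0, 3, 4, 5, 1], [3, 4, 6, 0]),
  ([0, 0, 3, 4, 6, 0], [3, 4, 5, 1]),
  ([0, 0, 3, 4, 6, 1], [3, 4, 5, 0]),
  ([0, 0, 4, 2, 2, 0], [4, 2, 2, 1]),
  ([0, 0, 4, 2, 2, 1], [4, 2, 2, 0]),
  ([0, 0, 4, 2, 5, 0], [4, 2, 6, 1]),
  ([0, 0, 4, 2, 5, 1], [4, 2, 6, 0]),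
  ([0, 0, 4, 2, 6, 0], [4, 2, 5, 1]),
  ([0, 0, 4, 2, 6, 1], [4, 2, 5, 0]),
  ([0, 0, 4, 3, 3, 0], [4, 3, 3, 1]),
  ([0, 0, 4, 3, 3, 1], [4, 3, 3, 0]),
  ([0, 0, 4, 3, 5, 0], [4, 3, 6, 1]),
  ([0, 0, 4, 3, 5, 1], [4, 3, 6, 0]),
  ([0, 0, 4, 3, 6, 0], [4, 3, 5, 1]),
  ([0, 0, 4, 3, 6, 1], [4, 3, 5, 0]),
  ([0, 0, 5, 4, 2, 0], [6, 4, 2, 1]),
  ([0, 0, 5, 4, 2, 1], [6, 4, 2, 0]),
  ([0, 0, 5, 4, 3, 0], [6, 4, 3, 1]),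
  ([0, 0, 5, 4, 3, 1], [6, 4, 3, 0]),
  ([0, 0, 5, 4, 6, 0], [6, 4, 5, 1]),
  ([0, 0, 5, 4, 6, 1], [6, 4, 5, 0]),
  ([0, 0, 6, 4, 2, 0], [5, 4, 2, 1]),
  ([0, 0, 6, 4, 2, 1], [5, 4, 2, 0]),
  ([0, 0, 6, 4, 3, 0], [5, 4, 3, 1]),
  ([0, 0, 6, 4, 3, 1], [5, 4, 3, 0]),
  ([0, 0, 6, 4, 5, 0], [5, 4, 6, 1]),
  ([0, 0, 6, 4, 5, 1], [5, 4, 6, 0]),
  ([1, 2, 2, 2, 0], [0, 2, 2, 2, 1]),
  ([1, 2, 2, 2, 1], [0, 2, 2, 2, 0]),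
  ([1, 2, 2, 5, 0], [0, 2, 2, 6, 1]),
  ([1, 2, 2, 5, 1], [0, 2, 2, 6, 0]),
  ([1, 2, 2, 6, 0], [0, 2, 2, 5, 1]),
  ([1, 2, 2, 6, 1], [0, 2, 2, 5, 0]),
  ([1, 2, 4, 2, 0], [0, 2, 4, 2, 1]),
  ([1, 2, 4, 2, 1], [0, 2, 4, 2, 0]),
  ([1, 2, 4, 3, 0], [0, 2, 4, 3, 1]),
  ([1, 2, 4, 3, 1], [0, 2, 4, 3, 0]),
  ([1, 2, 4, 5, 0], [0, 2, 4, 6, 1]),
  ([1, 2, 4, 5, 1], [0, 2, 4, 6, 0]),
  ([1, 2, 4, 6, 0], [0, 2, 4, 5, 1]),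
  ([1, 2, 4, 6, 1], [0, 2, 4, 5, 0]),
  ([1, 3, 3, 5, 0], [0, 3, 3, 6, 1]),
  ([1, 3, 3, 5, 1], [0, 3, 3, 6, 0]),
  ([1, 3, 3, 6, 0], [0, 3, 3, 5, 1]),
  ([1, 3, 3, 6, 1], [0, 3, 3, 5, 0]),
  ([1, 3, 4, 2, 0], [0, 3, 4, 2, 1]),
  ([1, 3, 4, 2, 1], [0, 3, 4, 2, 0]),
  ([1, 3, 4, 3, 0], [0, 3, 4, 3, 1]),
  ([1, 3, 4, 3, 1], [0, 3, 4, 3, 0]),
  ([1, 3, 4, 5, 0], [0, 3, 4, 6, 1]),
  ([1, 3, 4, 5, 1], [0, 3, 4, 6, 0]),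
  ([1, 3, 4, 6, 0], [0, 3, 4, 5, 1]),
  ([1, 3, 4, 6, 1], [0, 3, 4, 5, 0]),
  ([1, 4, 2, 2, 0], [0, 4, 2, 2, 1]),
  ([1, 4, 2, 2, 1], [0, 4, 2, 2, 0]),
  ([1, 4, 2, 5, 0], [0, 4, 2, 6, 1]),
  ([1, 4, 2, 5, 1], [0, 4, 2, 6, 0]),
  ([1, 4, 2, 6, 0], [0, 4, 2, 5, 1]),
  ([1, 4, 2, 6, 1], [0, 4, 2, 5, 0]),
  ([1, 4, 3, 3, 0], [0, 4, 3, 3, 1]),
  ([1, 4, 3, 3, 1], [0, 4, 3, 3, 0]),
  ([1, 4, 3, 5, 0], [0, 4, 3, 6, 1]),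
  ([1, 4, 3, 5, 1], [0, 4, 3, 6, 0]),
  ([1, 4, 3, 6, 0], [0, 4, 3, 5, 1]),
  ([1, 4, 3, 6, 1], [0, 4, 3, 5, 0]),
  ([1, 5, 4, 2, 0], [0, 6, 4, 2, 1]),
  ([1, 5, 4, 2, 1], [0, 6, 4, 2, 0]),
  ([1, 5, 4, 3, 0], [0, 6, 4, 3, 1]),
  ([1, 5, 4, 3, 1], [0, 6, 4, 3, 0]),
  ([1, 5, 4, 6, 0], [0, 6, 4, 5, 1]),
  ([1, 5, 4, 6, 1], [0, 6, 4, 5, 0]),
  ([1, 6, 4, 2, 0], [0, 5, 4, 2, 1]),
  ([1, 6, 4, 2, 1], [0, 5, 4, 2, 0]),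
  ([1, 6, 4, 3, 0], [0, 5, 4, 3, 1]),
  ([1, 6, 4, 3, 1], [0, 5, 4, 3, 0]),
  ([1, 6, 4, 5, 0], [0, 5, 4, 6, 1]),
  ([1, 6, 4, 5, 1], [0, 5, 4, 6, 0]),
  ([4, 5, 4, 6, 4], [0, 5, 4, 6, 1]),
  ([4, 5, 5, 4, 6], [0, 5, 0, 4, 5]),
  ([4, 6, 4, 5, 4], [0, 6, 4, 5, 1]),
  ([4, 6, 6, 4, 5], [0, 6, 0, 4, 6]),
  ([5, 0, 2, 2, 0], [0, 2, 2, 0, 6]),
  ([5, 0, 2, 2, 1], [0, 2, 2, 1, 5]),
  ([5, 0, 3, 3, 0], [0, 3, 3, 0, 6]),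
  ([5, 0, 3, 3, 1], [0, 3, 3, 1, 5]),
  ([5, 0, 4, 5, 1, 4], [6, 4, 5, 5]),
  ([5, 4, 2, 2, 5], [4, 6, 4, 2, 2]),
  ([5, 4, 3, 3, 5], [4, 6, 4, 3, 3]),
  ([5, 4, 6, 0, 4], [0, 4, 6, 4, 5]),
  ([5, 4, 6, 1, 4], [1, 4, 5, 4, 6]),
  ([5, 4, 6, 4, 5], [0, 5, 4, 6, 0]),
  ([5, 5, 4, 6, 0], [1, 6, 4, 5, 5]),
  ([5, 5, 4, 6, 1], [0, 5, 4, 6, 6]),
  ([5, 5, 4, 6, 6], [0, 4, 6, 1, 4]),
  ([6, 0, 2, 2, 0], [0, 2, 2, 0, 5]),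
  ([6, 0, 2, 2, 1], [0, 2, 2, 1, 6]),
  ([6, 0, 3, 3, 0], [0, 3, 3, 0, 5]),
  ([6, 0, 3, 3, 1], [0, 3, 3, 1, 6]),
  ([6, 0, 4, 6, 1], [5, 4, 6, 6, 4]),
  ([6, 4, 2, 2, 6], [4, 5, 4, 2, 2]),
  ([6, 4, 3, 3, 6], [4, 5, 4, 3, 3]),
  ([6, 4, 5, 0, 4], [0, 4, 5, 4, 6]),
  ([6, 4, 5, 1, 4], [1, 4, 6, 4, 5]),
  ([6, 4, 5, 4, 6], [0, 6, 4, 5, 0]),
  ([6, 4, 5, 5, 4], [5, 0, 4, 5, 1]),
  ([6, 6, 4, 5, 0], [1, 5, 4, 6, 6]),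
  ([6, 6, 4, 5, 1], [0, 6, 4, 5, 5]),
  ([6, 6, 4, 5, 5], [0, 4, 5, 1, 4]),
  ([0, 0, 2, 4, 5, 5], [2, 0, 4, 5, 1]),
  ([0, 0, 2, 4, 6, 6], [2, 0, 4, 6, 1]),
  ([0, 0, 3, 4, 5, 5], [3, 0, 4, 5, 1]),
  ([0, 0, 3, 4, 6, 6], [3, 0, 4, 6, 1]),
  ([0, 0, 4, 5, 4, 6], [5, 0, 4, 6, 1]),
  ([0, 0, 4, 6, 4, 5], [6, 0, 4, 5, 1]),
  ([0, 0, 5, 4, 6, 6], [5, 4, 6, 6, 4]),
  ([0, 0, 6, 4, 5, 5], [5, 0, 4, 5, 1]),
  ([0, 2, 0, 4, 5, 1], [1, 2, 4, 5, 5]),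
  ([0, 2, 0, 4, 6, 1], [1, 2, 4, 6, 6]),
  ([0, 2, 2, 2, 5, 5], [6, 0, 2, 2, 2]),
  ([0, 2, 2, 2, 6, 6], [5, 0, 2, 2, 2]),
  ([0, 2, 5, 4, 6, 4], [6, 0, 2, 4, 5]),
  ([0, 2, 6, 4, 5, 4], [5, 0, 2, 4, 6]),
  ([0, 3, 0, 4, 5, 1], [1, 3, 4, 5, 5]),
  ([0, 3, 0, 4, 6, 1], [1, 3, 4, 6, 6]),
  ([0, 3, 5, 4, 6, 4], [6, 0, 3, 4, 5]),
  ([0, 3, 6, 4, 5, 4], [5, 0, 3, 4, 6]),
  ([0, 4, 2, 2, 5, 5], [4, 5, 1, 2, 2]),
  ([0, 4, 2, 2, 6, 6], [4, 6, 1, 2, 2]),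
  ([0, 4, 3, 3, 5, 5], [4, 5, 1, 3, 3]),
  ([0, 4, 3, 3, 6, 6], [4, 6, 1, 3, 3]),
  ([0, 5, 0, 4, 2, 0], [5, 5, 4, 2, 1]),
  ([0, 5, 0, 4, 2, 1], [5, 5, 4, 2, 0]),
  ([0, 5, 0, 4, 3, 0], [5, 5, 4, 3, 1]),
  ([0, 5, 0, 4, 3, 1], [5, 5, 4, 3, 0]),
  ([0, 5, 0, 4, 5, 1], [1, 6, 4, 5, 5]),
  ([0, 5, 0, 4, 6, 1], [1, 4, 5, 4, 6]),
  ([0, 5, 4, 6, 6, 4], [1, 5, 4, 6, 6]),
  ([0, 6, 0, 4, 2, 0], [6, 6, 4, 2, 1]),
  ([0, 6, 0, 4, 2, 1], [6, 6, 4, 2, 0]),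
  ([0, 6, 0, 4, 3, 0], [6, 6, 4, 3, 1]),
  ([0, 6, 0, 4, 3, 1], [6, 6, 4, 3, 0]),
  ([0, 6, 0, 4, 5, 1], [1, 4, 6, 4, 5]),
  ([1, 2, 2, 2, 5, 5], [5, 1, 2, 2, 2]),
  ([1, 2, 2, 2, 6, 6], [6, 1, 2, 2, 2]),
  ([1, 2, 5, 4, 6, 4], [5, 1, 2, 4, 5]),
  ([1, 2, 6, 4, 5, 4], [6, 1, 2, 4, 6]),
  ([1, 3, 5, 4, 6, 4], [5, 1, 3, 4, 5]),
  ([1, 3, 6, 4, 5, 4], [6, 1, 3, 4, 6]),
  ([1, 4, 2, 2, 5, 5], [4, 6, 0, 2, 2]),
  ([1, 4, 2, 2, 6, 6], [4, 5, 0, 2, 2]),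
  ([1, 4, 3, 3, 5, 5], [4, 6, 0, 3, 3]),
  ([1, 4, 3, 3, 6, 6], [4, 5, 0, 3, 3]),
  ([1, 5, 4, 6, 6, 4], [0, 5, 4, 6, 6]),
  ([4, 5, 0, 4, 2, 5], [6, 0, 4, 2, 6]),
  ([4, 5, 0, 4, 2, 6], [6, 4, 5, 1, 2]),
  ([4, 5, 0, 4, 3, 5], [6, 0, 4, 3, 6]),
  ([4, 5, 0, 4, 3, 6], [6, 4, 5, 1, 3]),
  ([4, 5, 1, 4, 2, 5], [6, 4, 5, 0, 2]),
  ([4, 5, 1, 4, 2, 6], [6, 1, 4, 2, 5]),
  ([4, 5, 1, 4, 3, 5], [6, 4, 5, 0, 3]),
  ([4, 5, 1, 4, 3, 6], [6, 1, 4, 3, 5]),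
  ([4, 5, 4, 2, 0, 5], [6, 4, 2, 5, 0]),
  ([4, 5, 4, 2, 0, 6], [6, 4, 2, 0, 5]),
  ([4, 5, 4, 2, 1, 5], [6, 4, 2, 1, 6]),
  ([4, 5, 4, 2, 1, 6], [6, 4, 2, 5, 1]),
  ([4, 5, 4, 2, 6, 0], [6, 4, 2, 0, 6]),
  ([4, 5, 4, 2, 6, 1], [6, 4, 2, 1, 5]),
  ([4, 5, 4, 2, 6, 6], [6, 4, 2, 5, 5]),
  ([4, 5, 4, 3, 0, 5], [6, 4, 3, 5, 0]),
  ([4, 5, 4, 3, 0, 6], [6, 4, 3, 0, 5]),
  ([4, 5, 4, 3, 1, 5], [6, 4, 3, 1, 6]),
  ([4, 5, 4, 3, 1, 6], [6, 4, 3, 5, 1]),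
  ([4, 5, 4, 3, 6, 0], [6, 4, 3, 0, 6]),
  ([4, 5, 4, 3, 6, 1], [6, 4, 3, 1, 5]),
  ([4, 5, 4, 3, 6, 6], [6, 4, 3, 5, 5]),
  ([4, 6, 0, 4, 2, 5], [5, 4, 6, 1, 2]),
  ([4, 6, 0, 4, 2, 6], [5, 0, 4, 2, 5]),
  ([4, 6, 0, 4, 3, 5], [5, 4, 6, 1, 3]),
  ([4, 6, 0, 4, 3, 6], [5, 0, 4, 3, 5]),
  ([4, 6, 1, 4, 2, 5], [5, 1, 4, 2, 6]),
  ([4, 6, 1, 4, 2, 6], [5, 4, 6, 0, 2]),
  ([4, 6, 1, 4, 3, 5], [5, 1, 4, 3, 6]),
  ([4, 6, 1, 4, 3, 6], [5, 4, 6, 0, 3]),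
  ([4, 6, 4, 2, 0, 5], [5, 4, 2, 0, 6]),
  ([4, 6, 4, 2, 0, 6], [5, 4, 2, 6, 0]),
  ([4, 6, 4, 2, 1, 5], [5, 4, 2, 6, 1]),
  ([4, 6, 4, 2, 1, 6], [5, 4, 2, 1, 5]),
  ([4, 6, 4, 2, 5, 0], [5, 4, 2, 0, 5]),
  ([4, 6, 4, 2, 5, 1], [5, 4, 2, 1, 6]),
  ([4, 6, 4, 2, 5, 5], [5, 4, 2, 6, 6]),
  ([4, 6, 4, 3, 0, 5], [5, 4, 3, 0, 6]),
  ([4, 6, 4, 3, 0, 6], [5, 4, 3, 6, 0]),
  ([4, 6, 4, 3, 1, 5], [5, 4, 3, 6, 1]),
  ([4, 6, 4, 3, 1, 6], [5, 4, 3, 1, 5]),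
  ([4, 6, 4, 3, 5, 0], [5, 4, 3, 0, 5]),
  ([4, 6, 4, 3, 5, 1], [5, 4, 3, 1, 6]),
  ([4, 6, 4, 3, 5, 5], [5, 4, 3, 6, 6]),
  ([5, 0, 2, 2, 2, 5], [0, 2, 2, 2, 6]),
  ([5, 0, 2, 2, 2, 6], [6, 0, 2, 2, 2]),
  ([5, 0, 2, 4, 5, 4], [6, 0, 2, 4, 6]),
  ([5, 0, 2, 4, 6, 4], [0, 2, 6, 4, 5]),
  ([5, 0, 3, 4, 5, 4], [6, 0, 3, 4, 6]),
  ([5, 0, 3, 4, 6, 4], [0, 3, 6, 4, 5]),
  ([5, 0, 4, 6, 1, 4], [0, 6, 4, 5, 0]),
  ([5, 1, 2, 2, 2, 5], [6, 1, 2, 2, 2]),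
  ([5, 1, 2, 2, 2, 6], [1, 2, 2, 2, 5]),
  ([5, 1, 2, 4, 5, 4], [1, 2, 5, 4, 6]),
  ([5, 1, 2, 4, 6, 4], [6, 1, 2, 4, 5]),
  ([5, 1, 3, 4, 5, 4], [1, 3, 5, 4, 6]),
  ([5, 1, 3, 4, 6, 4], [6, 1, 3, 4, 5]),
  ([6, 0, 2, 2, 2, 5], [5, 0, 2, 2, 2]),
  ([6, 0, 2, 2, 2, 6], [0, 2, 2, 2, 5]),
  ([6, 0, 2, 4, 5, 4], [0, 2, 5, 4, 6]),
  ([6, 0, 2, 4, 6, 4], [5, 0, 2, 4, 5]),
  ([6, 0, 3, 4, 5, 4], [0, 3, 5, 4, 6]),
  ([6, 0, 3, 4, 6, 4], [5, 0, 3, 4, 5]),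
  ([6, 0, 4, 5, 1, 4], [0, 5, 4, 6, 0]),
  ([6, 1, 2, 2, 2, 5], [1, 2, 2, 2, 6]),
  ([6, 1, 2, 2, 2, 6], [5, 1, 2, 2, 2]),
  ([6, 1, 2, 4, 5, 4], [5, 1, 2, 4, 6]),
  ([6, 1, 2, 4, 6, 4], [1, 2, 6, 4, 5]),
  ([6, 1, 3, 4, 5, 4], [5, 1, 3, 4, 6]),
  ([6, 1, 3, 4, 6, 4], [1, 3, 6, 4, 5]),
  ([0, 0, 2, 2, 2, 5, 0], [2, 2, 2, 6, 1]),
  ([0, 0, 2, 2, 2, 5, 1], [2, 2, 2, 6, 0]),
  ([0, 0, 2, 2, 2, 6, 0], [2, 2, 2, 5, 1]),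
  ([0, 0, 2, 2, 2, 6, 1], [2, 2, 2, 5, 0]),
  ([0, 0, 2, 2, 4, 2, 0], [2, 2, 4, 2, 1]),
  ([0, 0, 2, 2, 4, 2, 1], [2, 2, 4, 2, 0]),
  ([0, 0, 2, 2, 4, 3, 0], [2, 2, 4, 3, 1]),
  ([0, 0, 2, 2, 4, 3, 1], [2, 2, 4, 3, 0]),
  ([0, 0, 2, 2, 4, 5, 0], [2, 2, 4, 6, 1]),
  ([0, 0, 2, 2, 4, 5, 1], [2, 2, 4, 6, 0]),
  ([0, 0, 2, 2, 4, 6, 0], [2, 2, 4, 5, 1]),
  ([0, 0, 2, 2, 4, 6, 1], [2, 2, 4, 5, 0]),
  ([0, 0, 2, 4, 2, 2, 0], [2, 4, 2, 2, 1]),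
  ([0, 0, 2, 4, 2, 2, 1], [2, 4, 2, 2, 0]),
  ([0, 0, 2, 4, 2, 5, 0], [2, 4, 2, 6, 1]),
  ([0, 0, 2, 4, 2, 5, 1], [2, 4, 2, 6, 0]),
  ([0, 0, 2, 4, 2, 6, 0], [2, 4, 2, 5, 1]),
  ([0, 0, 2, 4, 2, 6, 1], [2, 4, 2, 5, 0]),
  ([0, 0, 2, 4, 3, 3, 0], [2, 4, 3, 3, 1]),
  ([0, 0, 2, 4, 3, 3, 1], [2, 4, 3, 3, 0]),
  ([0, 0, 2, 4, 3, 5, 0], [2, 4, 3, 6, 1]),
  ([0, 0, 2, 4, 3, 5, 1], [2, 4, 3, 6, 0]),
  ([0, 0, 2, 4, 3, 6, 0], [2, 4, 3, 5, 1]),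
  ([0, 0, 2, 4, 3, 6, 1], [2, 4, 3, 5, 0]),
  ([0, 0, 2, 5, 4, 2, 0], [2, 6, 4, 2, 1]),
  ([0, 0, 2, 5, 4, 2, 1], [2, 6, 4, 2, 0]),
  ([0, 0, 2, 5, 4, 3, 0], [2, 6, 4, 3, 1]),
  ([0, 0, 2, 5, 4, 3, 1], [2, 6, 4, 3, 0]),
  ([0, 0, 2, 5, 4, 6, 0], [2, 6, 4, 5, 1]),
  ([0, 0, 2, 5, 4, 6, 1], [2, 6, 4, 5, 0]),
  ([0, 0, 2, 6, 4, 2, 0], [2, 5, 4, 2, 1]),
  ([0, 0, 2, 6, 4, 2, 1], [2, 5, 4, 2, 0]),
  ([0, 0, 2, 6, 4, 3, 0], [2, 5, 4, 3, 1]),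
  ([0, 0, 2, 6, 4, 3, 1], [2, 5, 4, 3, 0]),
  ([0, 0, 2, 6, 4, 5, 0], [2, 5, 4, 6, 1]),
  ([0, 0, 2, 6, 4, 5, 1], [2, 5, 4, 6, 0]),
  ([0, 0, 3, 3, 4, 2, 0], [3, 3, 4, 2, 1]),
  ([0, 0, 3, 3, 4, 2, 1], [3, 3, 4, 2, 0]),
  ([0, 0, 3, 3, 4, 3, 0], [3, 3, 4, 3, 1]),
  ([0, 0, 3, 3, 4, 3, 1], [3, 3, 4, 3, 0]),
  ([0, 0, 3, 3, 4, 5, 0], [3, 3, 4, 6, 1]),
  ([0, 0, 3, 3, 4, 5, 1], [3, 3, 4, 6, 0]),
  ([0, 0, 3, 3, 4, 6, 0], [3, 3, 4, 5, 1]),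
  ([0, 0, 3, 3, 4, 6, 1], [3, 3, 4, 5, 0]),
  ([0, 0, 3, 4, 2, 2, 0], [3, 4, 2, 2, 1]),
  ([0, 0, 3, 4, 2, 2, 1], [3, 4, 2, 2, 0]),
  ([0, 0, 3, 4, 2, 5, 0], [3, 4, 2, 6, 1]),
  ([0, 0, 3, 4, 2, 5, 1], [3, 4, 2, 6, 0]),
  ([0, 0, 3, 4, 2, 6, 0], [3, 4, 2, 5, 1]),
  ([0, 0, 3, 4, 2, 6, 1], [3, 4, 2, 5, 0]),
  ([0, 0, 3, 4, 3, 3, 0], [3, 4, 3, 3, 1]),
  ([0, 0, 3, 4, 3, 3, 1], [3, 4, 3, 3, 0]),
  ([0, 0, 3, 4, 3, 5, 0], [3, 4, 3, 6, 1]),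
  ([0, 0, 3, 4, 3, 5, 1], [3, 4, 3, 6, 0]),
  ([0, 0, 3, 4, 3, 6, 0], [3, 4, 3, 5, 1]),
  ([0, 0, 3, 4, 3, 6, 1], [3, 4, 3, 5, 0]),
  ([0, 0, 3, 5, 4, 2, 0], [3, 6, 4, 2, 1]),
  ([0, 0, 3, 5, 4, 2, 1], [3, 6, 4, 2, 0]),
  ([0, 0, 3, 5, 4, 3, 0], [3, 6, 4, 3, 1]),
  ([0, 0, 3, 5, 4, 3, 1], [3, 6, 4, 3, 0]),
  ([0, 0, 3, 5, 4, 6, 0], [3, 6, 4, 5, 1]),
  ([0, 0, 3, 5, 4, 6, 1], [3, 6, 4, 5, 0]),
  ([0, 0, 3, 6, 4, 2, 0], [3, 5, 4, 2, 1]),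
  ([0, 0, 3, 6, 4, 2, 1], [3, 5, 4, 2, 0]),
  ([0, 0, 3, 6, 4, 3, 0], [3, 5, 4, 3, 1]),
  ([0, 0, 3, 6, 4, 3, 1], [3, 5, 4, 3, 0]),
  ([0, 0, 3, 6, 4, 5, 0], [3, 5, 4, 6, 1]),
  ([0, 0, 3, 6, 4, 5, 1], [3, 5, 4, 6, 0]),
  ([0, 0, 4, 2, 2, 2, 0], [4, 2, 2, 2, 1]),
  ([0, 0, 4, 2, 2, 2, 1], [4, 2, 2, 2, 0]),
  ([0, 0, 4, 2, 2, 5, 0], [4, 2, 2, 6, 1]),
  ([0, 0, 4, 2, 2, 5, 1], [4, 2, 2, 6, 0]),
  ([0, 0, 4, 2, 2, 6, 0], [4, 2, 2, 5, 1]),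
  ([0, 0, 4, 2, 2, 6, 1], [4, 2, 2, 5, 0]),
  ([0, 0, 4, 2, 4, 2, 0], [4, 2, 4, 2, 1]),
  ([0, 0, 4, 2, 4, 2, 1], [4, 2, 4, 2, 0]),
  ([0, 0, 4, 2, 4, 3, 0], [4, 2, 4, 3, 1]),
  ([0, 0, 4, 2, 4, 3, 1], [4, 2, 4, 3, 0]),
  ([0, 0, 4, 2, 4, 5, 0], [4, 2, 4, 6, 1]),
  ([0, 0, 4, 2, 4, 5, 1], [4, 2, 4, 6, 0]),
  ([0, 0, 4, 2, 4, 6, 0], [4, 2, 4, 5, 1]),
  ([0, 0, 4, 2, 4, 6, 1], [4, 2, 4, 5, 0]),
  ([0, 0, 4, 3, 3, 5, 0], [4, 3, 3, 6, 1]),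
  ([0, 0, 4, 3, 3, 5, 1], [4, 3, 3, 6, 0]),
  ([0, 0, 4, 3, 3, 6, 0], [4, 3, 3, 5, 1]),
  ([0, 0, 4, 3, 3, 6, 1], [4, 3, 3, 5, 0]),
  ([0, 0, 4, 3, 4, 2, 0], [4, 3, 4, 2, 1]),
  ([0, 0, 4, 3, 4, 2, 1], [4, 3, 4, 2, 0]),
  ([0, 0, 4, 3, 4, 3, 0], [4, 3, 4, 3, 1]),
  ([0, 0, 4, 3, 4, 3, 1], [4, 3, 4, 3, 0]),
  ([0, 0, 4, 3, 4, 5, 0], [4, 3, 4, 6, 1]),
  ([0, 0, 4, 3, 4, 5, 1], [4, 3, 4, 6, 0]),
  ([0, 0, 4, 3, 4, 6, 0], [4, 3, 4, 5, 1]),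
  ([0, 0, 4, 3, 4, 6, 1], [4, 3, 4, 5, 0]),
  ([0, 0, 4, 5, 4, 2, 0], [4, 6, 4, 2, 1]),
  ([0, 0, 4, 5, 4, 2, 1], [4, 6, 4, 2, 0]),
  ([0, 0, 4, 5, 4, 3, 0], [4, 6, 4, 3, 1]),
  ([0, 0, 4, 5, 4, 3, 1], [4, 6, 4, 3, 0]),
  ([0, 0, 4, 6, 4, 2, 0], [4, 5, 4, 2, 1]),
  ([0, 0, 4, 6, 4, 2, 1], [4, 5, 4, 2, 0]),
  ([0, 0, 4, 6, 4, 3, 0], [4, 5, 4, 3, 1]),
  ([0, 0, 4, 6, 4, 3, 1], [4, 5, 4, 3, 0]),
  ([0, 0, 5, 4, 2, 2, 0], [6, 4, 2, 2, 1]),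
  ([0, 0, 5, 4, 2, 2, 1], [6, 4, 2, 2, 0]),
  ([0, 0, 5, 4, 2, 6, 0], [6, 4, 2, 5, 1]),
  ([0, 0, 5, 4, 2, 6, 1], [6, 4, 2, 5, 0]),
  ([0, 0, 5, 4, 3, 3, 0], [6, 4, 3, 3, 1]),
  ([0, 0, 5, 4, 3, 3, 1], [6, 4, 3, 3, 0]),
  ([0, 0, 5, 4, 3, 6, 0], [6, 4, 3, 5, 1]),
  ([0, 0, 5, 4, 3, 6, 1], [6, 4, 3, 5, 0]),
  ([0, 0, 6, 4, 2, 2, 0], [5, 4, 2, 2, 1]),
  ([0, 0, 6, 4, 2, 2, 1], [5, 4, 2, 2, 0]),
  ([0, 0, 6, 4, 2, 5, 0], [5, 4, 2, 6, 1]),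
  ([0, 0, 6, 4, 2, 5, 1], [5, 4, 2, 6, 0]),
  ([0, 0, 6, 4, 3, 3, 0], [5, 4, 3, 3, 1]),
  ([0, 0, 6, 4, 3, 3, 1], [5, 4, 3, 3, 0]),
  ([0, 0, 6, 4, 3, 5, 0], [5, 4, 3, 6, 1]),
  ([0, 0, 6, 4, 3, 5, 1], [5, 4, 3, 6, 0]),
  ([1, 2, 2, 2, 5, 0], [0, 2, 2, 2, 6, 1]),
  ([1, 2, 2, 2, 5, 1], [0, 2, 2, 2, 6, 0]),
  ([1, 2, 2, 2, 6, 0], [0, 2, 2, 2, 5, 1]),
  ([1, 2, 2, 2, 6, 1], [0, 2, 2, 2, 5, 0]),
  ([1, 2, 2, 4, 2, 0], [0, 2, 2, 4, 2, 1]),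
  ([1, 2, 2, 4, 2, 1], [0, 2, 2, 4, 2, 0]),
  ([1, 2, 2, 4, 3, 0], [0, 2, 2, 4, 3, 1]),
  ([1, 2, 2, 4, 3, 1], [0, 2, 2, 4, 3, 0]),
  ([1, 2, 2, 4, 5, 0], [0, 2, 2, 4, 6, 1]),
  ([1, 2, 2, 4, 5, 1], [0, 2, 2, 4, 6, 0]),
  ([1, 2, 2, 4, 6, 0], [0, 2, 2, 4, 5, 1]),
  ([1, 2, 2, 4, 6, 1], [0, 2, 2, 4, 5, 0]),
  ([1, 2, 4, 2, 2, 0], [0, 2, 4, 2, 2, 1]),
  ([1, 2, 4, 2, 2, 1], [0, 2, 4, 2, 2, 0]),
  ([1, 2, 4, 2, 5, 0], [0, 2, 4, 2, 6, 1]),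
  ([1, 2, 4, 2, 5, 1], [0, 2, 4, 2, 6, 0]),
  ([1, 2, 4, 2, 6, 0], [0, 2, 4, 2, 5, 1]),
  ([1, 2, 4, 2, 6, 1], [0, 2, 4, 2, 5, 0]),
  ([1, 2, 4, 3, 3, 0], [0, 2, 4, 3, 3, 1]),
  ([1, 2, 4, 3, 3, 1], [0, 2, 4, 3, 3, 0]),
  ([1, 2, 4, 3, 5, 0], [0, 2, 4, 3, 6, 1]),
  ([1, 2, 4, 3, 5, 1], [0, 2, 4, 3, 6, 0]),
  ([1, 2, 4, 3, 6, 0], [0, 2, 4, 3, 5, 1]),
  ([1, 2, 4, 3, 6, 1], [0, 2, 4, 3, 5, 0]),
  ([1, 2, 5, 4, 2, 0], [0, 2, 6, 4, 2, 1]),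
  ([1, 2, 5, 4, 2, 1], [0, 2, 6, 4, 2, 0]),
  ([1, 2, 5, 4, 3, 0], [0, 2, 6, 4, 3, 1]),
  ([1, 2, 5, 4, 3, 1], [0, 2, 6, 4, 3, 0]),
  ([1, 2, 5, 4, 6, 0], [0, 2, 6, 4, 5, 1]),
  ([1, 2, 5, 4, 6, 1], [0, 2, 6, 4, 5, 0]),
  ([1, 2, 6, 4, 2, 0], [0, 2, 5, 4, 2, 1]),
  ([1, 2, 6, 4, 2, 1], [0, 2, 5, 4, 2, 0]),
  ([1, 2, 6, 4, 3, 0], [0, 2, 5, 4, 3, 1]),
  ([1, 2, 6, 4, 3, 1], [0, 2, 5, 4, 3, 0]),
  ([1, 2, 6, 4, 5, 0], [0, 2, 5, 4, 6, 1]),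
  ([1, 2, 6, 4, 5, 1], [0, 2, 5, 4, 6, 0]),
  ([1, 3, 0, 2, 1, 3, 0, 2, 1, 3, 0, 2], []),
  ([1, 3, 3, 4, 2, 0], [0, 3, 3, 4, 2, 1]),
  ([1, 3, 3, 4, 2, 1], [0, 3, 3, 4, 2, 0]),
  ([1, 3, 3, 4, 3, 0], [0, 3, 3, 4, 3, 1]),
  ([1, 3, 3, 4, 3, 1], [0, 3, 3, 4, 3, 0]),
  ([1, 3, 3, 4, 5, 0], [0, 3, 3, 4, 6, 1]),
  ([1, 3, 3, 4, 5, 1], [0, 3, 3, 4, 6, 0]),
  ([1, 3, 3, 4, 6, 0], [0, 3, 3, 4, 5, 1]),
  ([1, 3, 3, 4, 6, 1], [0, 3, 3, 4, 5, 0]),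
  ([1, 3, 4, 2, 2, 0], [0, 3, 4, 2, 2, 1]),
  ([1, 3, 4, 2, 2, 1], [0, 3, 4, 2, 2, 0]),
  ([1, 3, 4, 2, 5, 0], [0, 3, 4, 2, 6, 1]),
  ([1, 3, 4, 2, 5, 1], [0, 3, 4, 2, 6, 0]),
  ([1, 3, 4, 2, 6, 0], [0, 3, 4, 2, 5, 1]),
  ([1, 3, 4, 2, 6, 1], [0, 3, 4, 2, 5, 0]),
  ([1, 3, 4, 3, 3, 0], [0, 3, 4, 3, 3, 1]),
  ([1, 3, 4, 3, 3, 1], [0, 3, 4, 3, 3, 0]),
  ([1, 3, 4, 3, 5, 0], [0, 3, 4, 3, 6, 1]),
  ([1, 3, 4, 3, 5, 1], [0, 3, 4, 3, 6, 0]),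
  ([1, 3, 4, 3, 6, 0], [0, 3, 4, 3, 5, 1]),
  ([1, 3, 4, 3, 6, 1], [0, 3, 4, 3, 5, 0]),
  ([1, 3, 5, 4, 2, 0], [0, 3, 6, 4, 2, 1]),
  ([1, 3, 5, 4, 2, 1], [0, 3, 6, 4, 2, 0]),
  ([1, 3, 5, 4, 3, 0], [0, 3, 6, 4, 3, 1]),
  ([1, 3, 5, 4, 3, 1], [0, 3, 6, 4, 3, 0]),
  ([1, 3, 5, 4, 6, 0], [0, 3, 6, 4, 5, 1]),
  ([1, 3, 5, 4, 6, 1], [0, 3, 6, 4, 5, 0]),
  ([1, 3, 6, 4, 2, 0], [0, 3, 5, 4, 2, 1]),
  ([1, 3, 6, 4, 2, 1], [0, 3, 5, 4, 2, 0]),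
  ([1, 3, 6, 4, 3, 0], [0, 3, 5, 4, 3, 1]),
  ([1, 3, 6, 4, 3, 1], [0, 3, 5, 4, 3, 0]),
  ([1, 3, 6, 4, 5, 0], [0, 3, 5, 4, 6, 1]),
  ([1, 3, 6, 4, 5, 1], [0, 3, 5, 4, 6, 0]),
  ([1, 4, 2, 2, 2, 0], [0, 4, 2, 2, 2, 1]),
  ([1, 4, 2, 2, 2, 1], [0, 4, 2, 2, 2, 0]),
  ([1, 4, 2, 2, 5, 0], [0, 4, 2, 2, 6, 1]),
  ([1, 4, 2, 2, 5, 1], [0, 4, 2, 2, 6, 0]),
  ([1, 4, 2, 2, 6, 0], [0, 4, 2, 2, 5, 1]),
  ([1, 4, 2, 2, 6, 1], [0, 4, 2, 2, 5, 0]),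
  ([1, 4, 2, 4, 2, 0], [0, 4, 2, 4, 2, 1]),
  ([1, 4, 2, 4, 2, 1], [0, 4, 2, 4, 2, 0]),
  ([1, 4, 2, 4, 3, 0], [0, 4, 2, 4, 3, 1]),
  ([1, 4, 2, 4, 3, 1], [0, 4, 2, 4, 3, 0]),
  ([1, 4, 2, 4, 5, 0], [0, 4, 2, 4, 6, 1]),
  ([1, 4, 2, 4, 5, 1], [0, 4, 2, 4, 6, 0]),
  ([1, 4, 2, 4, 6, 0], [0, 4, 2, 4, 5, 1]),
  ([1, 4, 2, 4, 6, 1], [0, 4, 2, 4, 5, 0]),
  ([1, 4, 3, 3, 5, 0], [0, 4, 3, 3, 6, 1]),
  ([1, 4, 3, 3, 5, 1], [0, 4, 3, 3, 6, 0]),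
  ([1, 4, 3, 3, 6, 0], [0, 4, 3, 3, 5, 1]),
  ([1, 4, 3, 3, 6, 1], [0, 4, 3, 3, 5, 0]),
  ([1, 4, 3, 4, 2, 0], [0, 4, 3, 4, 2, 1]),
  ([1, 4, 3, 4, 2, 1], [0, 4, 3, 4, 2, 0]),
  ([1, 4, 3, 4, 3, 0], [0, 4, 3, 4, 3, 1]),
  ([1, 4, 3, 4, 3, 1], [0, 4, 3, 4, 3, 0]),
  ([1, 4, 3, 4, 5, 0], [0, 4, 3, 4, 6, 1]),
  ([1, 4, 3, 4, 5, 1], [0, 4, 3, 4, 6, 0]),
  ([1, 4, 3, 4, 6, 0], [0, 4, 3, 4, 5, 1]),
  ([1, 4, 3, 4, 6, 1], [0, 4, 3, 4, 5, 0]),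
  ([1, 4, 5, 4, 2, 0], [0, 4, 6, 4, 2, 1]),
  ([1, 4, 5, 4, 2, 1], [0, 4, 6, 4, 2, 0]),
  ([1, 4, 5, 4, 3, 0], [0, 4, 6, 4, 3, 1]),
  ([1, 4, 5, 4, 3, 1], [0, 4, 6, 4, 3, 0]),
  ([1, 4, 6, 4, 2, 0], [0, 4, 5, 4, 2, 1]),
  ([1, 4, 6, 4, 2, 1], [0, 4, 5, 4, 2, 0]),
  ([1, 4, 6, 4, 3, 0], [0, 4, 5, 4, 3, 1]),
  ([1, 4, 6, 4, 3, 1], [0, 4, 5, 4, 3, 0]),
  ([1, 5, 4, 2, 2, 0], [0, 6, 4, 2, 2, 1]),
  ([1, 5, 4, 2, 2, 1], [0, 6, 4, 2, 2, 0]),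
  ([1, 5, 4, 2, 6, 0], [0, 6, 4, 2, 5, 1]),
  ([1, 5, 4, 2, 6, 1], [0, 6, 4, 2, 5, 0]),
  ([1, 5, 4, 3, 3, 0], [0, 6, 4, 3, 3, 1]),
  ([1, 5, 4, 3, 3, 1], [0, 6, 4, 3, 3, 0]),
  ([1, 5, 4, 3, 6, 0], [0, 6, 4, 3, 5, 1]),
  ([1, 5, 4, 3, 6, 1], [0, 6, 4, 3, 5, 0]),
  ([1, 6, 4, 2, 2, 0], [0, 5, 4, 2, 2, 1]),
  ([1, 6, 4, 2, 2, 1], [0, 5, 4, 2, 2, 0]),
  ([1, 6, 4, 2, 5, 0], [0, 5, 4, 2, 6, 1]),
  ([1, 6, 4, 2, 5, 1], [0, 5, 4, 2, 6, 0]),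
  ([1, 6, 4, 3, 3, 0], [0, 5, 4, 3, 3, 1]),
  ([1, 6, 4, 3, 3, 1], [0, 5, 4, 3, 3, 0]),
  ([1, 6, 4, 3, 5, 0], [0, 5, 4, 3, 6, 1]),
  ([1, 6, 4, 3, 5, 1], [0, 5, 4, 3, 6, 0]),
  ([2, 0, 3, 0, 2, 0], [0, 2, 0, 3, 0, 2]),
  ([2, 0, 3, 0, 2, 1], [0, 2, 0, 3, 1, 2]),
  ([2, 0, 3, 0, 2, 4, 3], [4, 2, 0, 3, 0]),
  ([2, 0, 3, 1, 2, 4, 3], [4, 2, 0, 3, 1]),
  ([2, 0, 3, 4, 2, 0], [0, 2, 4, 3, 0, 2]),
  ([2, 0, 3, 4, 2, 1], [0, 2, 4, 3, 1, 2]),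
  ([2, 0, 3, 4, 2, 4, 3], [4, 2, 4, 3, 0]),
  ([2, 0, 4, 3, 0, 4], [0, 4, 2, 0, 4, 3]),
  ([2, 0, 4, 3, 1, 4], [0, 4, 2, 1, 4, 3]),
  ([2, 1, 3, 4, 2, 4, 3], [4, 2, 4, 3, 1]),
  ([2, 4, 3, 0, 2, 0], [0, 2, 0, 3, 4, 2]),
  ([2, 4, 3, 0, 2, 1], [0, 2, 1, 3, 4, 2]),
  ([2, 4, 3, 4, 2, 0], [0, 2, 4, 3, 4, 2]),
  ([2, 4, 3, 4, 2, 1], [1, 2, 4, 3, 4, 2]),
  ([3, 0, 2, 0, 3, 0], [0, 3, 0, 2, 0, 3]),
  ([3, 0, 2, 0, 3, 1], [0, 3, 0, 2, 1, 3]),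
  ([3, 0, 2, 0, 3, 4, 2], [4, 3, 0, 2, 0]),
  ([3, 0, 2, 1, 3, 4, 2], [4, 3, 0, 2, 1]),
  ([3, 0, 2, 4, 3, 0], [0, 3, 4, 2, 0, 3]),
  ([3, 0, 2, 4, 3, 1], [0, 3, 4, 2, 1, 3]),
  ([3, 0, 2, 4, 3, 4, 2], [4, 3, 4, 2, 0]),
  ([3, 0, 4, 2, 0, 4], [0, 4, 3, 0, 4, 2]),
  ([3, 0, 4, 2, 1, 4], [0, 4, 3, 1, 4, 2]),
  ([3, 1, 2, 4, 3, 4, 2], [4, 3, 4, 2, 1]),
  ([3, 4, 2, 0, 3, 0], [0, 3, 0, 2, 4, 3]),
  ([3, 4, 2, 0, 3, 1], [0, 3, 1, 2, 4, 3]),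
  ([3, 4, 2, 4, 3, 0], [0, 3, 4, 2, 4, 3]),
  ([3, 4, 2, 4, 3, 1], [1, 3, 4, 2, 4, 3]),
  ([4, 2, 0, 3, 0, 2], [2, 0, 3, 0, 2, 4]),
  ([4, 2, 0, 3, 1, 2], [2, 0, 3, 1, 2, 4]),
  ([4, 2, 0, 3, 4, 2], [2, 4, 3, 0, 2, 4]),
  ([4, 2, 0, 4, 3, 0], [0, 2, 1, 4, 3, 4]),
  ([4, 2, 0, 4, 3, 1], [0, 2, 0, 4, 3, 4]),
  ([4, 2, 0, 4, 3, 4], [0, 2, 0, 4, 3, 1]),
  ([4, 2, 1, 3, 4, 2], [2, 4, 3, 1, 2, 4]),
  ([4, 2, 1, 4, 3, 4], [0, 2, 0, 4, 3, 0]),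
  ([4, 2, 4, 3, 0, 2], [2, 0, 3, 4, 2, 4]),
  ([4, 2, 4, 3, 1, 2], [2, 1, 3, 4, 2, 4]),
  ([4, 2, 4, 3, 4, 2], [2, 4, 3, 4, 2, 4]),
  ([4, 3, 0, 2, 0, 3], [3, 0, 2, 0, 3, 4]),
  ([4, 3, 0, 2, 1, 3], [3, 0, 2, 1, 3, 4]),
  ([4, 3, 0, 2, 4, 3], [3, 4, 2, 0, 3, 4]),
  ([4, 3, 0, 4, 2, 0], [0, 3, 1, 4, 2, 4]),
  ([4, 3, 0, 4, 2, 1], [0, 3, 0, 4, 2, 4]),
  ([4, 3, 0, 4, 2, 4], [0, 3, 0, 4, 2, 1]),
  ([4, 3, 1, 2, 4, 3], [3, 4, 2, 1, 3, 4]),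
  ([4, 3, 1, 4, 2, 4], [0, 3, 0, 4, 2, 0]),
  ([4, 3, 4, 2, 0, 3], [3, 0, 2, 4, 3, 4]),
  ([4, 3, 4, 2, 1, 3], [3, 1, 2, 4, 3, 4]),
  ([4, 3, 4, 2, 4, 3], [3, 4, 2, 4, 3, 4]),
  ([4, 5, 5, 4, 2, 6], [0, 5, 0, 4, 2, 5]),
  ([4, 5, 5, 4, 3, 6], [0, 5, 0, 4, 3, 5]),
  ([4, 6, 6, 4, 2, 5], [0, 6, 0, 4, 2, 6]),
  ([4, 6, 6, 4, 3, 5], [0, 6, 0, 4, 3, 6]),
  ([5, 0, 2, 2, 2, 0], [0, 2, 2, 2, 0, 6]),
  ([5, 0, 2, 2, 2, 1], [0, 2, 2, 2, 1, 5]),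
  ([5, 0, 2, 4, 5, 5], [1, 2, 4, 5, 5, 4]),
  ([5, 0, 3, 4, 5, 5], [1, 3, 4, 5, 5, 4]),
  ([5, 0, 4, 2, 0, 5], [4, 6, 0, 4, 2, 0]),
  ([5, 0, 4, 2, 1, 6], [4, 6, 0, 4, 2, 1]),
  ([5, 0, 4, 3, 0, 5], [4, 6, 0, 4, 3, 0]),
  ([5, 0, 4, 3, 1, 6], [4, 6, 0, 4, 3, 1]),
  ([5, 1, 2, 4, 6, 6], [0, 2, 4, 6, 6, 4]),
  ([5, 1, 3, 4, 6, 6], [0, 3, 4, 6, 6, 4]),
  ([5, 4, 2, 2, 2, 5], [4, 6, 4, 2, 2, 2]),
  ([5, 4, 2, 4, 6, 4], [4, 6, 4, 2, 4, 5]),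
  ([5, 4, 3, 4, 6, 4], [4, 6, 4, 3, 4, 5]),
  ([5, 4, 6, 4, 2, 5], [0, 5, 4, 6, 0, 2]),
  ([5, 4, 6, 4, 3, 5], [0, 5, 4, 6, 0, 3]),
  ([5, 4, 6, 6, 4, 2, 0], [6, 4, 2, 1, 6]),
  ([5, 4, 6, 6, 4, 2, 1], [6, 4, 2, 0, 5]),
  ([5, 4, 6, 6, 4, 3, 0], [6, 4, 3, 1, 6]),
  ([5, 4, 6, 6, 4, 3, 1], [6, 4, 3, 0, 5]),
  ([5, 5, 4, 2, 0, 6], [4, 5, 5, 4, 2, 1]),
  ([5, 5, 4, 2, 1, 5], [4, 5, 5, 4, 2, 0]),
  ([5, 5, 4, 2, 6, 6], [0, 4, 6, 1, 4, 2]),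
  ([5, 5, 4, 3, 0, 6], [4, 5, 5, 4, 3, 1]),
  ([5, 5, 4, 3, 1, 5], [4, 5, 5, 4, 3, 0]),
  ([5, 5, 4, 3, 6, 6], [0, 4, 6, 1, 4, 3]),
  ([6, 0, 2, 2, 2, 0], [0, 2, 2, 2, 0, 5]),
  ([6, 0, 2, 2, 2, 1], [0, 2, 2, 2, 1, 6]),
  ([6, 0, 2, 4, 6, 6], [1, 2, 4, 6, 6, 4]),
  ([6, 0, 3, 4, 6, 6], [1, 3, 4, 6, 6, 4]),
  ([6, 0, 4, 2, 0, 6], [4, 5, 0, 4, 2, 0]),
  ([6, 0, 4, 2, 1, 5], [4, 5, 0, 4, 2, 1]),
  ([6, 0, 4, 3, 0, 6], [4, 5, 0, 4, 3, 0]),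
  ([6, 0, 4, 3, 1, 5], [4, 5, 0, 4, 3, 1]),
  ([6, 1, 2, 4, 5, 5], [0, 2, 4, 5, 5, 4]),
  ([6, 1, 3, 4, 5, 5], [0, 3, 4, 5, 5, 4]),
  ([6, 4, 2, 2, 2, 6], [4, 5, 4, 2, 2, 2]),
  ([6, 4, 2, 4, 5, 4], [4, 5, 4, 2, 4, 6]),
  ([6, 4, 3, 4, 5, 4], [4, 5, 4, 3, 4, 6]),
  ([6, 4, 5, 4, 2, 6], [0, 6, 4, 5, 0, 2]),
  ([6, 4, 5, 4, 3, 6], [0, 6, 4, 5, 0, 3]),
  ([6, 6, 4, 2, 0, 5], [4, 6, 6, 4, 2, 1]),
  ([6, 6, 4, 2, 1, 6], [4, 6, 6, 4, 2, 0]),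
  ([6, 6, 4, 2, 5, 5], [0, 4, 5, 1, 4, 2]),
  ([6, 6, 4, 3, 0, 5], [4, 6, 6, 4, 3, 1]),
  ([6, 6, 4, 3, 1, 6], [4, 6, 6, 4, 3, 0]),
  ([6, 6, 4, 3, 5, 5], [0, 4, 5, 1, 4, 3]),
  ([4, 2, 1, 3, 3, 1, 3, 1, 3, 4, 2, 0, 2, 0, 2, 2, 0, 3, 1, 1], []),
  ([1, 2, 2, 0, 2, 2, 2, 1, 2, 2, 0, 2, 2, 2, 1, 2, 2, 0, 2, 2, 2], []),
  ([0, 2, 0, 2, 2, 2, 0, 2, 0, 2, 2, 2, 0, 2, 0, 2, 2, 2, 0, 2, 0, 2, 2, 2], []),
  ([4, 3, 1, 3, 1, 3, 3, 3, 4, 2, 2, 2, 0, 2, 0, 2, 0, 3, 1, 3, 1, 3, 3, 3, 4, 2, 2, 2, 0, 2, 0, 2, 0, 3, 1, 3, 1, 3, 3, 3, 4, 2, 2, 2, 0, 2, 0, 2, 0], [])]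

/-- the data of the labelled action -/
noncomputable def D : SAData := mkD 7 1539000 piT parT 3 rels

/-- the certificate -/
noncomputable def C : SCert :=
  { q := 3, T := 1, W := 7, c := 2, eW := 31, rW := 12, ent := ent,
    gs := fun t => List.getD [10773795] t 0, nn := 7 }

def rL0 : List ℕ × List ℕ := ([2, 0, 2, 0, 2, 0, 2, 0, 2, 0, 2, 0, 2, 0, 2, 0], [])
def rL1 : List ℕ × List ℕ := ([4, 4], [])
def rL2 : List ℕ × List ℕ := ([0, 4, 0, 4], [])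
def rL3 : List ℕ × List ℕ := ([5, 5, 5, 5, 5], [])
def rL4 : List ℕ × List ℕ := ([1, 0], [])
def rL5 : List ℕ × List ℕ := ([3, 2], [])
def rL6 : List ℕ × List ℕ := ([6, 5], [])
def rL7 : List ℕ × List ℕ := ([0, 1], [])
def rL8 : List ℕ × List ℕ := ([2, 3], [])
def rL9 : List ℕ × List ℕ := ([5, 6], [])
def rL10 : List ℕ × List ℕ := ([0, 0, 0], [1])
def rL11 : List ℕ × List ℕ := ([1, 1], [0, 0])
def rL12 : List ℕ × List ℕ := ([0, 4], [4, 1])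
def rL13 : List ℕ × List ℕ := ([1, 4], [4, 0])
def rL14 : List ℕ × List ℕ := ([2, 5], [5, 2])
def rL15 : List ℕ × List ℕ := ([3, 5], [5, 3])
def rL16 : List ℕ × List ℕ := ([2, 6], [6, 2])
def rL17 : List ℕ × List ℕ := ([3, 6], [6, 3])
def rL18 : List ℕ × List ℕ := ([2, 5, 3, 6], [])
def rL19 : List ℕ × List ℕ := ([1, 5, 0], [5, 5])
def rL20 : List ℕ × List ℕ := ([5, 5, 0], [0, 6])
def rL21 : List ℕ × List ℕ := ([1, 6, 0], [6, 6])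
def rL22 : List ℕ × List ℕ := ([6, 6, 0], [0, 5])
def rL23 : List ℕ × List ℕ := ([0, 5, 1], [6, 6])
def rL24 : List ℕ × List ℕ := ([5, 5, 0, 5, 1], [])
def rL25 : List ℕ × List ℕ := ([5, 5, 1], [1, 5])
def rL26 : List ℕ × List ℕ := ([0, 6, 1], [5, 5])
def rL27 : List ℕ × List ℕ := ([6, 6, 1], [1, 6])
def rL28 : List ℕ × List ℕ := ([5, 0, 5], [6, 0])
def rL29 : List ℕ × List ℕ := ([6, 0, 5], [0, 6])
def rL30 : List ℕ × List ℕ := ([5, 1, 5], [1, 6])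
def rL31 : List ℕ × List ℕ := ([6, 1, 5], [5, 1])
def rL32 : List ℕ × List ℕ := ([0, 5, 5], [5, 0])
def rL33 : List ℕ × List ℕ := ([1, 5, 5], [6, 1])
def rL34 : List ℕ × List ℕ := ([5, 5, 5], [6, 6])
def rL35 : List ℕ × List ℕ := ([5, 0, 6], [0, 5])
def rL36 : List ℕ × List ℕ := ([6, 0, 6], [5, 0])
def rL37 : List ℕ × List ℕ := ([5, 1, 6], [6, 1])
def rL38 : List ℕ × List ℕ := ([6, 1, 6], [1, 5])
def rL39 : List ℕ × List ℕ := ([0, 6, 6], [6, 0])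
def rL40 : List ℕ × List ℕ := ([1, 6, 6], [5, 1])
def rL41 : List ℕ × List ℕ := ([6, 6, 6], [5, 5])
def rL42 : List ℕ × List ℕ := ([0, 2, 0, 0], [1, 2])
def rL43 : List ℕ × List ℕ := ([3, 0, 0, 2, 0, 0], [])
def rL44 : List ℕ × List ℕ := ([1, 2, 0, 0], [0, 2])
def rL45 : List ℕ × List ℕ := ([0, 3, 0, 0], [1, 3])
def rL46 : List ℕ × List ℕ := ([1, 3, 0, 0], [0, 3])
def rL47 : List ℕ × List ℕ := ([0, 5, 0, 0], [1, 6])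
def rL48 : List ℕ × List ℕ := ([0, 6, 0, 0], [1, 5])
def rL49 : List ℕ × List ℕ := ([0, 2, 1], [1, 2, 0])
def rL50 : List ℕ × List ℕ := ([1, 2, 1], [0, 2, 0])
def rL51 : List ℕ × List ℕ := ([0, 3, 1], [1, 3, 0])
def rL52 : List ℕ × List ℕ := ([1, 3, 1], [0, 3, 0])
def rL53 : List ℕ × List ℕ := ([1, 5, 1], [0, 6, 0])
def rL54 : List ℕ × List ℕ := ([1, 6, 1], [0, 5, 0])
def rL55 : List ℕ × List ℕ := ([0, 0, 2], [2, 0, 0])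
def rL56 : List ℕ × List ℕ := ([2, 2, 2, 2], [3, 3])
def rL57 : List ℕ × List ℕ := ([2, 2, 2, 2, 2, 2], [])
def rL58 : List ℕ × List ℕ := ([0, 0, 3], [3, 0, 0])
def rL59 : List ℕ × List ℕ := ([3, 3, 3], [2, 2, 2])
def rL60 : List ℕ × List ℕ := ([5, 4, 5, 4, 5, 4], [])
def rL61 : List ℕ × List ℕ := ([0, 0, 5], [6, 0, 0])
def rL62 : List ℕ × List ℕ := ([5, 4, 5], [4, 6, 4])
def rL63 : List ℕ × List ℕ := ([0, 0, 6], [5, 0, 0])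
def rL64 : List ℕ × List ℕ := ([6, 4, 6], [4, 5, 4])
def rL65 : List ℕ × List ℕ := ([5, 5, 2, 0], [2, 0, 6])
def rL66 : List ℕ × List ℕ := ([6, 6, 2, 0], [2, 0, 5])
def rL67 : List ℕ × List ℕ := ([5, 5, 3, 0], [3, 0, 6])
def rL68 : List ℕ × List ℕ := ([6, 6, 3, 0], [3, 0, 5])
def rL69 : List ℕ × List ℕ := ([0, 5, 4, 0], [6, 6, 4])
def rL70 : List ℕ × List ℕ := ([5, 5, 4, 0], [1, 5, 4])
def rL71 : List ℕ × List ℕ := ([0, 6, 4, 0], [5, 5, 4])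
def rL72 : List ℕ × List ℕ := ([6, 6, 4, 0], [1, 6, 4])
def rL73 : List ℕ × List ℕ := ([5, 5, 2, 1], [2, 1, 5])
def rL74 : List ℕ × List ℕ := ([6, 6, 2, 1], [2, 1, 6])
def rL75 : List ℕ × List ℕ := ([5, 5, 3, 1], [3, 1, 5])
def rL76 : List ℕ × List ℕ := ([6, 6, 3, 1], [3, 1, 6])
def rL77 : List ℕ × List ℕ := ([1, 5, 4, 1], [5, 5, 4])
def rL78 : List ℕ × List ℕ := ([5, 5, 4, 1], [0, 6, 4])
def rL79 : List ℕ × List ℕ := ([1, 6, 4, 1], [6, 6, 4])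
def rL80 : List ℕ × List ℕ := ([6, 6, 4, 1], [0, 5, 4])
def rL81 : List ℕ × List ℕ := ([5, 2, 0, 5], [6, 2, 0])
def rL82 : List ℕ × List ℕ := ([6, 2, 0, 5], [2, 0, 6])
def rL83 : List ℕ × List ℕ := ([5, 3, 0, 5], [6, 3, 0])
def rL84 : List ℕ × List ℕ := ([6, 3, 0, 5], [3, 0, 6])
def rL85 : List ℕ × List ℕ := ([5, 2, 1, 5], [2, 1, 6])
def rL86 : List ℕ × List ℕ := ([6, 2, 1, 5], [5, 2, 1])
def rL87 : List ℕ × List ℕ := ([5, 3, 1, 5], [3, 1, 6])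
def rL88 : List ℕ × List ℕ := ([6, 3, 1, 5], [5, 3, 1])
def rL89 : List ℕ × List ℕ := ([5, 2, 0, 6], [2, 0, 5])
def rL90 : List ℕ × List ℕ := ([6, 2, 0, 6], [5, 2, 0])
def rL91 : List ℕ × List ℕ := ([5, 3, 0, 6], [3, 0, 5])
def rL92 : List ℕ × List ℕ := ([6, 3, 0, 6], [5, 3, 0])
def rL93 : List ℕ × List ℕ := ([5, 2, 1, 6], [6, 2, 1])
def rL94 : List ℕ × List ℕ := ([6, 2, 1, 6], [2, 1, 5])
def rL95 : List ℕ × List ℕ := ([5, 3, 1, 6], [6, 3, 1])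
def rL96 : List ℕ × List ℕ := ([6, 3, 1, 6], [3, 1, 5])
def rL97 : List ℕ × List ℕ := ([0, 2, 2, 0, 0], [1, 2, 2])
def rL98 : List ℕ × List ℕ := ([1, 2, 2, 0, 0], [0, 2, 2])
def rL99 : List ℕ × List ℕ := ([0, 5, 2, 0, 0], [1, 6, 2])
def rL100 : List ℕ × List ℕ := ([1, 5, 2, 0, 0], [0, 6, 2])
def rL101 : List ℕ × List ℕ := ([0, 6, 2, 0, 0], [1, 5, 2])
def rL102 : List ℕ × List ℕ := ([1, 6, 2, 0, 0], [0, 5, 2])
def rL103 : List ℕ × List ℕ := ([0, 3, 3, 0, 0], [1, 3, 3])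
def rL104 : List ℕ × List ℕ := ([1, 3, 3, 0, 0], [0, 3, 3])
def rL105 : List ℕ × List ℕ := ([0, 5, 3, 0, 0], [1, 6, 3])
def rL106 : List ℕ × List ℕ := ([1, 5, 3, 0, 0], [0, 6, 3])
def rL107 : List ℕ × List ℕ := ([0, 6, 3, 0, 0], [1, 5, 3])
def rL108 : List ℕ × List ℕ := ([1, 6, 3, 0, 0], [0, 5, 3])
def rL109 : List ℕ × List ℕ := ([0, 2, 4, 0, 0], [1, 2, 4])
def rL110 : List ℕ × List ℕ := ([1, 2, 4, 0, 0], [0, 2, 4])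
def rL111 : List ℕ × List ℕ := ([0, 3, 4, 0, 0], [1, 3, 4])
def rL112 : List ℕ × List ℕ := ([1, 3, 4, 0, 0], [0, 3, 4])
def rL113 : List ℕ × List ℕ := ([1, 5, 4, 0, 0], [0, 6, 4])
def rL114 : List ℕ × List ℕ := ([1, 6, 4, 0, 0], [0, 5, 4])
def rL115 : List ℕ × List ℕ := ([0, 2, 2, 1], [1, 2, 2, 0])
def rL116 : List ℕ × List ℕ := ([1, 2, 2, 1], [0, 2, 2, 0])
def rL117 : List ℕ × List ℕ := ([0, 5, 2, 1], [1, 6, 2, 0])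
def rL118 : List ℕ × List ℕ := ([1, 5, 2, 1], [0, 6, 2, 0])
def rL119 : List ℕ × List ℕ := ([0, 6, 2, 1], [1, 5, 2, 0])
def rL120 : List ℕ × List ℕ := ([1, 6, 2, 1], [0, 5, 2, 0])
def rL121 : List ℕ × List ℕ := ([0, 3, 3, 1], [1, 3, 3, 0])
def rL122 : List ℕ × List ℕ := ([1, 3, 3, 1], [0, 3, 3, 0])
def rL123 : List ℕ × List ℕ := ([0, 5, 3, 1], [1, 6, 3, 0])
def rL124 : List ℕ × List ℕ := ([1, 5, 3, 1], [0, 6, 3, 0])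
def rL125 : List ℕ × List ℕ := ([0, 6, 3, 1], [1, 5, 3, 0])
def rL126 : List ℕ × List ℕ := ([1, 6, 3, 1], [0, 5, 3, 0])
def rL127 : List ℕ × List ℕ := ([0, 2, 4, 1], [1, 2, 4, 0])
def rL128 : List ℕ × List ℕ := ([1, 2, 4, 1], [0, 2, 4, 0])
def rL129 : List ℕ × List ℕ := ([0, 3, 4, 1], [1, 3, 4, 0])
def rL130 : List ℕ × List ℕ := ([1, 3, 4, 1], [0, 3, 4, 0])
def rL131 : List ℕ × List ℕ := ([0, 5, 4, 1], [1, 6, 4, 0])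
def rL132 : List ℕ × List ℕ := ([0, 6, 4, 1], [1, 5, 4, 0])
def rL133 : List ℕ × List ℕ := ([0, 5, 0, 2], [2, 0, 5, 0])
def rL134 : List ℕ × List ℕ := ([0, 6, 0, 2], [2, 0, 6, 0])
def rL135 : List ℕ × List ℕ := ([0, 5, 0, 3], [3, 0, 5, 0])
def rL136 : List ℕ × List ℕ := ([0, 6, 0, 3], [3, 0, 6, 0])
def rL137 : List ℕ × List ℕ := ([0, 2, 0, 5], [6, 0, 2, 0])
def rL138 : List ℕ × List ℕ := ([1, 2, 0, 5], [5, 1, 2, 0])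
def rL139 : List ℕ × List ℕ := ([0, 3, 0, 5], [6, 0, 3, 0])
def rL140 : List ℕ × List ℕ := ([1, 3, 0, 5], [5, 1, 3, 0])
def rL141 : List ℕ × List ℕ := ([5, 2, 4, 5], [2, 4, 6, 4])
def rL142 : List ℕ × List ℕ := ([5, 3, 4, 5], [3, 4, 6, 4])
def rL143 : List ℕ × List ℕ := ([0, 2, 0, 6], [5, 0, 2, 0])
def rL144 : List ℕ × List ℕ := ([1, 2, 0, 6], [6, 1, 2, 0])
def rL145 : List ℕ × List ℕ := ([0, 3, 0, 6], [5, 0, 3, 0])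
def rL146 : List ℕ × List ℕ := ([1, 3, 0, 6], [6, 1, 3, 0])
def rL147 : List ℕ × List ℕ := ([6, 2, 4, 6], [2, 4, 5, 4])
def rL148 : List ℕ × List ℕ := ([6, 3, 4, 6], [3, 4, 5, 4])
def rL149 : List ℕ × List ℕ := ([5, 5, 2, 2, 0], [2, 2, 0, 6])
def rL150 : List ℕ × List ℕ := ([6, 6, 2, 2, 0], [2, 2, 0, 5])
def rL151 : List ℕ × List ℕ := ([5, 5, 3, 3, 0], [3, 3, 0, 6])
def rL152 : List ℕ × List ℕ := ([6, 6, 3, 3, 0], [3, 3, 0, 5])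
def rL153 : List ℕ × List ℕ := ([5, 5, 2, 4, 0], [2, 1, 5, 4])
def rL154 : List ℕ × List ℕ := ([6, 6, 2, 4, 0], [2, 1, 6, 4])
def rL155 : List ℕ × List ℕ := ([5, 5, 3, 4, 0], [3, 1, 5, 4])
def rL156 : List ℕ × List ℕ := ([6, 6, 3, 4, 0], [3, 1, 6, 4])
def rL157 : List ℕ × List ℕ := ([4, 6, 4, 5, 0], [5, 4, 0, 6])
def rL158 : List ℕ × List ℕ := ([4, 5, 4, 6, 0], [6, 4, 0, 5])
def rL159 : List ℕ × List ℕ := ([5, 5, 2, 2, 1], [2, 2, 1, 5])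
def rL160 : List ℕ × List ℕ := ([6, 6, 2, 2, 1], [2, 2, 1, 6])
def rL161 : List ℕ × List ℕ := ([5, 5, 3, 3, 1], [3, 3, 1, 5])
def rL162 : List ℕ × List ℕ := ([6, 6, 3, 3, 1], [3, 3, 1, 6])
def rL163 : List ℕ × List ℕ := ([5, 5, 2, 4, 1], [2, 0, 6, 4])
def rL164 : List ℕ × List ℕ := ([6, 6, 2, 4, 1], [2, 0, 5, 4])
def rL165 : List ℕ × List ℕ := ([5, 5, 3, 4, 1], [3, 0, 6, 4])
def rL166 : List ℕ × List ℕ := ([6, 6, 3, 4, 1], [3, 0, 5, 4])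
def rL167 : List ℕ × List ℕ := ([4, 6, 4, 5, 1], [5, 4, 1, 5])
def rL168 : List ℕ × List ℕ := ([4, 5, 4, 6, 1], [6, 4, 1, 6])
def rL169 : List ℕ × List ℕ := ([5, 4, 0, 5, 4], [6, 4, 0, 6])
def rL170 : List ℕ × List ℕ := ([6, 4, 0, 5, 4], [1, 5, 4, 6])
def rL171 : List ℕ × List ℕ := ([5, 4, 1, 5, 4], [0, 5, 4, 6])
def rL172 : List ℕ × List ℕ := ([6, 4, 1, 5, 4], [5, 4, 1, 6])
def rL173 : List ℕ × List ℕ := ([0, 6, 4, 5, 4], [6, 4, 1, 6])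
def rL174 : List ℕ × List ℕ := ([1, 6, 4, 5, 4], [5, 4, 0, 6])
def rL175 : List ℕ × List ℕ := ([6, 6, 4, 5, 4], [5, 5, 4, 6])
def rL176 : List ℕ × List ℕ := ([5, 4, 0, 6, 4], [1, 6, 4, 5])
def rL177 : List ℕ × List ℕ := ([6, 4, 0, 6, 4], [5, 4, 0, 5])
def rL178 : List ℕ × List ℕ := ([5, 4, 1, 6, 4], [6, 4, 1, 5])
def rL179 : List ℕ × List ℕ := ([6, 4, 1, 6, 4], [0, 6, 4, 5])
def rL180 : List ℕ × List ℕ := ([0, 5, 4, 6, 4], [5, 4, 1, 5])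
def rL181 : List ℕ × List ℕ := ([1, 5, 4, 6, 4], [6, 4, 0, 5])
def rL182 : List ℕ × List ℕ := ([5, 5, 4, 6, 4], [6, 6, 4, 5])
def rL183 : List ℕ × List ℕ := ([5, 2, 2, 0, 5], [6, 2, 2, 0])
def rL184 : List ℕ × List ℕ := ([6, 2, 2, 0, 5], [2, 2, 0, 6])
def rL185 : List ℕ × List ℕ := ([5, 3, 3, 0, 5], [6, 3, 3, 0])
def rL186 : List ℕ × List ℕ := ([6, 3, 3, 0, 5], [3, 3, 0, 6])
def rL187 : List ℕ × List ℕ := ([4, 5, 4, 0, 5], [6, 4, 0, 6])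
def rL188 : List ℕ × List ℕ := ([4, 6, 4, 0, 5], [5, 4, 6, 0])
def rL189 : List ℕ × List ℕ := ([5, 2, 2, 1, 5], [2, 2, 1, 6])
def rL190 : List ℕ × List ℕ := ([6, 2, 2, 1, 5], [5, 2, 2, 1])
def rL191 : List ℕ × List ℕ := ([5, 3, 3, 1, 5], [3, 3, 1, 6])
def rL192 : List ℕ × List ℕ := ([6, 3, 3, 1, 5], [5, 3, 3, 1])
def rL193 : List ℕ × List ℕ := ([4, 5, 4, 1, 5], [6, 4, 5, 1])
def rL194 : List ℕ × List ℕ := ([4, 6, 4, 1, 5], [5, 4, 1, 6])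
def rL195 : List ℕ × List ℕ := ([4, 6, 4, 5, 5], [5, 4, 6, 6])
def rL196 : List ℕ × List ℕ := ([5, 2, 2, 0, 6], [2, 2, 0, 5])
def rL197 : List ℕ × List ℕ := ([6, 2, 2, 0, 6], [5, 2, 2, 0])
def rL198 : List ℕ × List ℕ := ([5, 3, 3, 0, 6], [3, 3, 0, 5])
def rL199 : List ℕ × List ℕ := ([6, 3, 3, 0, 6], [5, 3, 3, 0])
def rL200 : List ℕ × List ℕ := ([4, 5, 4, 0, 6], [6, 4, 5, 0])
def rL201 : List ℕ × List ℕ := ([4, 6, 4, 0, 6], [5, 4, 0, 5])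
def rL202 : List ℕ × List ℕ := ([5, 2, 2, 1, 6], [6, 2, 2, 1])
def rL203 : List ℕ × List ℕ := ([6, 2, 2, 1, 6], [2, 2, 1, 5])
def rL204 : List ℕ × List ℕ := ([5, 3, 3, 1, 6], [6, 3, 3, 1])
def rL205 : List ℕ × List ℕ := ([6, 3, 3, 1, 6], [3, 3, 1, 5])
def rL206 : List ℕ × List ℕ := ([4, 5, 4, 1, 6], [6, 4, 1, 5])
def rL207 : List ℕ × List ℕ := ([4, 6, 4, 1, 6], [5, 4, 6, 1])
def rL208 : List ℕ × List ℕ := ([4, 5, 4, 6, 6], [6, 4, 5, 5])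
def rL209 : List ℕ × List ℕ := ([0, 2, 2, 2, 0, 0], [1, 2, 2, 2])
def rL210 : List ℕ × List ℕ := ([1, 2, 2, 2, 0, 0], [0, 2, 2, 2])
def rL211 : List ℕ × List ℕ := ([0, 5, 2, 2, 0, 0], [1, 6, 2, 2])
def rL212 : List ℕ × List ℕ := ([1, 5, 2, 2, 0, 0], [0, 6, 2, 2])
def rL213 : List ℕ × List ℕ := ([0, 6, 2, 2, 0, 0], [1, 5, 2, 2])
def rL214 : List ℕ × List ℕ := ([1, 6, 2, 2, 0, 0], [0, 5, 2, 2])
def rL215 : List ℕ × List ℕ := ([0, 2, 4, 2, 0, 0], [1, 2, 4, 2])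
def rL216 : List ℕ × List ℕ := ([1, 2, 4, 2, 0, 0], [0, 2, 4, 2])
def rL217 : List ℕ × List ℕ := ([0, 3, 4, 2, 0, 0], [1, 3, 4, 2])
def rL218 : List ℕ × List ℕ := ([1, 3, 4, 2, 0, 0], [0, 3, 4, 2])
def rL219 : List ℕ × List ℕ := ([0, 5, 4, 2, 0, 0], [1, 6, 4, 2])
def rL220 : List ℕ × List ℕ := ([1, 5, 4, 2, 0, 0], [0, 6, 4, 2])
def rL221 : List ℕ × List ℕ := ([0, 6, 4, 2, 0, 0], [1, 5, 4, 2])
def rL222 : List ℕ × List ℕ := ([1, 6, 4, 2, 0, 0], [0, 5, 4, 2])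
def rL223 : List ℕ × List ℕ := ([0, 5, 3, 3, 0, 0], [1, 6, 3, 3])
def rL224 : List ℕ × List ℕ := ([1, 5, 3, 3, 0, 0], [0, 6, 3, 3])
def rL225 : List ℕ × List ℕ := ([0, 6, 3, 3, 0, 0], [1, 5, 3, 3])
def rL226 : List ℕ × List ℕ := ([1, 6, 3, 3, 0, 0], [0, 5, 3, 3])
def rL227 : List ℕ × List ℕ := ([0, 2, 4, 3, 0, 0], [1, 2, 4, 3])
def rL228 : List ℕ × List ℕ := ([1, 2, 4, 3, 0, 0], [0, 2, 4, 3])
def rL229 : List ℕ × List ℕ := ([0, 3, 4, 3, 0, 0], [1, 3, 4, 3])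
def rL230 : List ℕ × List ℕ := ([1, 3, 4, 3, 0, 0], [0, 3, 4, 3])
def rL231 : List ℕ × List ℕ := ([0, 5, 4, 3, 0, 0], [1, 6, 4, 3])
def rL232 : List ℕ × List ℕ := ([1, 5, 4, 3, 0, 0], [0, 6, 4, 3])
def rL233 : List ℕ × List ℕ := ([0, 6, 4, 3, 0, 0], [1, 5, 4, 3])
def rL234 : List ℕ × List ℕ := ([1, 6, 4, 3, 0, 0], [0, 5, 4, 3])
def rL235 : List ℕ × List ℕ := ([0, 2, 2, 4, 0, 0], [1, 2, 2, 4])
def rL236 : List ℕ × List ℕ := ([1, 2, 2, 4, 0, 0], [0, 2, 2, 4])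
def rL237 : List ℕ × List ℕ := ([0, 5, 2, 4, 0, 0], [1, 6, 2, 4])
def rL238 : List ℕ × List ℕ := ([1, 5, 2, 4, 0, 0], [0, 6, 2, 4])
def rL239 : List ℕ × List ℕ := ([0, 6, 2, 4, 0, 0], [1, 5, 2, 4])
def rL240 : List ℕ × List ℕ := ([1, 6, 2, 4, 0, 0], [0, 5, 2, 4])
def rL241 : List ℕ × List ℕ := ([0, 3, 3, 4, 0, 0], [1, 3, 3, 4])
def rL242 : List ℕ × List ℕ := ([1, 3, 3, 4, 0, 0], [0, 3, 3, 4])
def rL243 : List ℕ × List ℕ := ([0, 5, 3, 4, 0, 0], [1, 6, 3, 4])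
def rL244 : List ℕ × List ℕ := ([1, 5, 3, 4, 0, 0], [0, 6, 3, 4])
def rL245 : List ℕ × List ℕ := ([0, 6, 3, 4, 0, 0], [1, 5, 3, 4])
def rL246 : List ℕ × List ℕ := ([1, 6, 3, 4, 0, 0], [0, 5, 3, 4])
def rL247 : List ℕ × List ℕ := ([0, 2, 4, 5, 0, 0], [1, 2, 4, 6])
def rL248 : List ℕ × List ℕ := ([1, 2, 4, 5, 0, 0], [0, 2, 4, 6])
def rL249 : List ℕ × List ℕ := ([0, 3, 4, 5, 0, 0], [1, 3, 4, 6])
def rL250 : List ℕ × List ℕ := ([1, 3, 4, 5, 0, 0], [0, 3, 4, 6])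
def rL251 : List ℕ × List ℕ := ([0, 6, 4, 5, 0, 0], [1, 5, 4, 6])
def rL252 : List ℕ × List ℕ := ([1, 6, 4, 5, 0, 0], [0, 5, 4, 6])
def rL253 : List ℕ × List ℕ := ([0, 2, 4, 6, 0, 0], [1, 2, 4, 5])
def rL254 : List ℕ × List ℕ := ([1, 2, 4, 6, 0, 0], [0, 2, 4, 5])
def rL255 : List ℕ × List ℕ := ([0, 3, 4, 6, 0, 0], [1, 3, 4, 5])
def rL256 : List ℕ × List ℕ := ([1, 3, 4, 6, 0, 0], [0, 3, 4, 5])
def rL257 : List ℕ × List ℕ := ([0, 5, 4, 6, 0, 0], [1, 6, 4, 5])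
def rL258 : List ℕ × List ℕ := ([1, 5, 4, 6, 0, 0], [0, 6, 4, 5])
def rL259 : List ℕ × List ℕ := ([0, 2, 2, 2, 1], [1, 2, 2, 2, 0])
def rL260 : List ℕ × List ℕ := ([1, 2, 2, 2, 1], [0, 2, 2, 2, 0])
def rL261 : List ℕ × List ℕ := ([0, 5, 2, 2, 1], [1, 6, 2, 2, 0])
def rL262 : List ℕ × List ℕ := ([1, 5, 2, 2, 1], [0, 6, 2, 2, 0])
def rL263 : List ℕ × List ℕ := ([0, 6, 2, 2, 1], [1, 5, 2, 2, 0])
def rL264 : List ℕ × List ℕ := ([1, 6, 2, 2, 1], [0, 5, 2, 2, 0])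
def rL265 : List ℕ × List ℕ := ([0, 2, 4, 2, 1], [1, 2, 4, 2, 0])
def rL266 : List ℕ × List ℕ := ([1, 2, 4, 2, 1], [0, 2, 4, 2, 0])
def rL267 : List ℕ × List ℕ := ([0, 3, 4, 2, 1], [1, 3, 4, 2, 0])
def rL268 : List ℕ × List ℕ := ([1, 3, 4, 2, 1], [0, 3, 4, 2, 0])
def rL269 : List ℕ × List ℕ := ([0, 5, 4, 2, 1], [1, 6, 4, 2, 0])
def rL270 : List ℕ × List ℕ := ([1, 5, 4, 2, 1], [0, 6, 4, 2, 0])
def rL271 : List ℕ × List ℕ := ([0, 6, 4, 2, 1], [1, 5, 4, 2, 0])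
def rL272 : List ℕ × List ℕ := ([1, 6, 4, 2, 1], [0, 5, 4, 2, 0])
def rL273 : List ℕ × List ℕ := ([0, 5, 3, 3, 1], [1, 6, 3, 3, 0])
def rL274 : List ℕ × List ℕ := ([1, 5, 3, 3, 1], [0, 6, 3, 3, 0])
def rL275 : List ℕ × List ℕ := ([0, 6, 3, 3, 1], [1, 5, 3, 3, 0])
def rL276 : List ℕ × List ℕ := ([1, 6, 3, 3, 1], [0, 5, 3, 3, 0])
def rL277 : List ℕ × List ℕ := ([0, 2, 4, 3, 1], [1, 2, 4, 3, 0])
def rL278 : List ℕ × List ℕ := ([1, 2, 4, 3, 1], [0, 2, 4, 3, 0])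
def rL279 : List ℕ × List ℕ := ([0, 3, 4, 3, 1], [1, 3, 4, 3, 0])
def rL280 : List ℕ × List ℕ := ([1, 3, 4, 3, 1], [0, 3, 4, 3, 0])
def rL281 : List ℕ × List ℕ := ([0, 5, 4, 3, 1], [1, 6, 4, 3, 0])
def rL282 : List ℕ × List ℕ := ([1, 5, 4, 3, 1], [0, 6, 4, 3, 0])
def rL283 : List ℕ × List ℕ := ([0, 6, 4, 3, 1], [1, 5, 4, 3, 0])
def rL284 : List ℕ × List ℕ := ([1, 6, 4, 3, 1], [0, 5, 4, 3, 0])
def rL285 : List ℕ × List ℕ := ([0, 2, 2, 4, 1], [1, 2, 2, 4, 0])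
def rL286 : List ℕ × List ℕ := ([1, 2, 2, 4, 1], [0, 2, 2, 4, 0])
def rL287 : List ℕ × List ℕ := ([0, 5, 2, 4, 1], [1, 6, 2, 4, 0])
def rL288 : List ℕ × List ℕ := ([1, 5, 2, 4, 1], [0, 6, 2, 4, 0])
def rL289 : List ℕ × List ℕ := ([0, 6, 2, 4, 1], [1, 5, 2, 4, 0])
def rL290 : List ℕ × List ℕ := ([1, 6, 2, 4, 1], [0, 5, 2, 4, 0])
def rL291 : List ℕ × List ℕ := ([0, 3, 3, 4, 1], [1, 3, 3, 4, 0])
def rL292 : List ℕ × List ℕ := ([1, 3, 3, 4, 1], [0, 3, 3, 4, 0])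
def rL293 : List ℕ × List ℕ := ([0, 5, 3, 4, 1], [1, 6, 3, 4, 0])
def rL294 : List ℕ × List ℕ := ([1, 5, 3, 4, 1], [0, 6, 3, 4, 0])
def rL295 : List ℕ × List ℕ := ([0, 6, 3, 4, 1], [1, 5, 3, 4, 0])
def rL296 : List ℕ × List ℕ := ([1, 6, 3, 4, 1], [0, 5, 3, 4, 0])
def rL297 : List ℕ × List ℕ := ([0, 2, 4, 5, 1], [1, 2, 4, 6, 0])
def rL298 : List ℕ × List ℕ := ([1, 2, 4, 5, 1], [0, 2, 4, 6, 0])
def rL299 : List ℕ × List ℕ := ([0, 3, 4, 5, 1], [1, 3, 4, 6, 0])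
def rL300 : List ℕ × List ℕ := ([1, 3, 4, 5, 1], [0, 3, 4, 6, 0])
def rL301 : List ℕ × List ℕ := ([0, 6, 4, 5, 1], [1, 5, 4, 6, 0])
def rL302 : List ℕ × List ℕ := ([1, 6, 4, 5, 1], [0, 5, 4, 6, 0])
def rL303 : List ℕ × List ℕ := ([0, 2, 4, 6, 1], [1, 2, 4, 5, 0])
def rL304 : List ℕ × List ℕ := ([1, 2, 4, 6, 1], [0, 2, 4, 5, 0])
def rL305 : List ℕ × List ℕ := ([0, 3, 4, 6, 1], [1, 3, 4, 5, 0])
def rL306 : List ℕ × List ℕ := ([1, 3, 4, 6, 1], [0, 3, 4, 5, 0])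
def rL307 : List ℕ × List ℕ := ([0, 5, 4, 6, 1], [1, 6, 4, 5, 0])
def rL308 : List ℕ × List ℕ := ([1, 5, 4, 6, 1], [0, 6, 4, 5, 0])
def rL309 : List ℕ × List ℕ := ([4, 6, 4, 5, 4], [1, 6, 4, 5, 0])
def rL310 : List ℕ × List ℕ := ([6, 4, 5, 5, 4], [5, 4, 0, 5, 0])
def rL311 : List ℕ × List ℕ := ([4, 5, 4, 6, 4], [1, 5, 4, 6, 0])
def rL312 : List ℕ × List ℕ := ([5, 4, 6, 6, 4], [6, 4, 0, 6, 0])
def rL313 : List ℕ × List ℕ := ([0, 2, 2, 0, 5], [6, 0, 2, 2, 0])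
def rL314 : List ℕ × List ℕ := ([1, 2, 2, 0, 5], [5, 1, 2, 2, 0])
def rL315 : List ℕ × List ℕ := ([0, 3, 3, 0, 5], [6, 0, 3, 3, 0])
def rL316 : List ℕ × List ℕ := ([1, 3, 3, 0, 5], [5, 1, 3, 3, 0])
def rL317 : List ℕ × List ℕ := ([4, 1, 5, 4, 0, 5], [5, 5, 4, 6])
def rL318 : List ℕ × List ℕ := ([5, 2, 2, 4, 5], [2, 2, 4, 6, 4])
def rL319 : List ℕ × List ℕ := ([5, 3, 3, 4, 5], [3, 3, 4, 6, 4])
def rL320 : List ℕ × List ℕ := ([4, 0, 6, 4, 5], [5, 4, 6, 4, 0])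
def rL321 : List ℕ × List ℕ := ([4, 1, 6, 4, 5], [6, 4, 5, 4, 1])
def rL322 : List ℕ × List ℕ := ([5, 4, 6, 4, 5], [0, 6, 4, 5, 0])
def rL323 : List ℕ × List ℕ := ([0, 6, 4, 5, 5], [5, 5, 4, 6, 1])
def rL324 : List ℕ × List ℕ := ([1, 6, 4, 5, 5], [6, 6, 4, 5, 0])
def rL325 : List ℕ × List ℕ := ([6, 6, 4, 5, 5], [4, 1, 6, 4, 0])
def rL326 : List ℕ × List ℕ := ([0, 2, 2, 0, 6], [5, 0, 2, 2, 0])
def rL327 : List ℕ × List ℕ := ([1, 2, 2, 0, 6], [6, 1, 2, 2, 0])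
def rL328 : List ℕ × List ℕ := ([0, 3, 3, 0, 6], [5, 0, 3, 3, 0])
def rL329 : List ℕ × List ℕ := ([1, 3, 3, 0, 6], [6, 1, 3, 3, 0])
def rL330 : List ℕ × List ℕ := ([1, 6, 4, 0, 6], [4, 6, 6, 4, 5])
def rL331 : List ℕ × List ℕ := ([6, 2, 2, 4, 6], [2, 2, 4, 5, 4])
def rL332 : List ℕ × List ℕ := ([6, 3, 3, 4, 6], [3, 3, 4, 5, 4])
def rL333 : List ℕ × List ℕ := ([4, 0, 5, 4, 6], [6, 4, 5, 4, 0])
def rL334 : List ℕ × List ℕ := ([4, 1, 5, 4, 6], [5, 4, 6, 4, 1])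
def rL335 : List ℕ × List ℕ := ([6, 4, 5, 4, 6], [0, 5, 4, 6, 0])
def rL336 : List ℕ × List ℕ := ([4, 5, 5, 4, 6], [1, 5, 4, 0, 5])
def rL337 : List ℕ × List ℕ := ([0, 5, 4, 6, 6], [6, 6, 4, 5, 1])
def rL338 : List ℕ × List ℕ := ([1, 5, 4, 6, 6], [5, 5, 4, 6, 0])
def rL339 : List ℕ × List ℕ := ([5, 5, 4, 6, 6], [4, 1, 5, 4, 0])
def rL340 : List ℕ × List ℕ := ([5, 5, 4, 2, 0, 0], [1, 5, 4, 0, 2])
def rL341 : List ℕ × List ℕ := ([6, 6, 4, 2, 0, 0], [1, 6, 4, 0, 2])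
def rL342 : List ℕ × List ℕ := ([5, 5, 4, 3, 0, 0], [1, 5, 4, 0, 3])
def rL343 : List ℕ × List ℕ := ([6, 6, 4, 3, 0, 0], [1, 6, 4, 0, 3])
def rL344 : List ℕ × List ℕ := ([6, 4, 5, 4, 0, 0], [1, 6, 4, 0, 5])
def rL345 : List ℕ × List ℕ := ([5, 4, 6, 4, 0, 0], [1, 5, 4, 0, 6])
def rL346 : List ℕ × List ℕ := ([6, 6, 4, 5, 0, 0], [4, 6, 6, 4, 5])
def rL347 : List ℕ × List ℕ := ([5, 5, 4, 6, 0, 0], [1, 5, 4, 0, 5])
def rL348 : List ℕ × List ℕ := ([1, 5, 4, 0, 2, 0], [5, 5, 4, 2, 1])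
def rL349 : List ℕ × List ℕ := ([1, 6, 4, 0, 2, 0], [6, 6, 4, 2, 1])
def rL350 : List ℕ × List ℕ := ([5, 5, 2, 2, 2, 0], [2, 2, 2, 0, 6])
def rL351 : List ℕ × List ℕ := ([6, 6, 2, 2, 2, 0], [2, 2, 2, 0, 5])
def rL352 : List ℕ × List ℕ := ([4, 6, 4, 5, 2, 0], [5, 4, 2, 0, 6])
def rL353 : List ℕ × List ℕ := ([4, 5, 4, 6, 2, 0], [6, 4, 2, 0, 5])
def rL354 : List ℕ × List ℕ := ([1, 5, 4, 0, 3, 0], [5, 5, 4, 3, 1])
def rL355 : List ℕ × List ℕ := ([1, 6, 4, 0, 3, 0], [6, 6, 4, 3, 1])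
def rL356 : List ℕ × List ℕ := ([4, 6, 4, 5, 3, 0], [5, 4, 3, 0, 6])
def rL357 : List ℕ × List ℕ := ([4, 5, 4, 6, 3, 0], [6, 4, 3, 0, 5])
def rL358 : List ℕ × List ℕ := ([5, 5, 2, 2, 4, 0], [2, 2, 1, 5, 4])
def rL359 : List ℕ × List ℕ := ([6, 6, 2, 2, 4, 0], [2, 2, 1, 6, 4])
def rL360 : List ℕ × List ℕ := ([5, 5, 3, 3, 4, 0], [3, 3, 1, 5, 4])
def rL361 : List ℕ × List ℕ := ([6, 6, 3, 3, 4, 0], [3, 3, 1, 6, 4])
def rL362 : List ℕ × List ℕ := ([0, 2, 4, 0, 5, 0], [1, 2, 4, 5, 5])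
def rL363 : List ℕ × List ℕ := ([1, 2, 4, 0, 5, 0], [0, 2, 4, 5, 5])
def rL364 : List ℕ × List ℕ := ([0, 3, 4, 0, 5, 0], [1, 3, 4, 5, 5])
def rL365 : List ℕ × List ℕ := ([1, 3, 4, 0, 5, 0], [0, 3, 4, 5, 5])
def rL366 : List ℕ × List ℕ := ([1, 5, 4, 0, 5, 0], [5, 5, 4, 6, 1])
def rL367 : List ℕ × List ℕ := ([1, 6, 4, 0, 5, 0], [6, 4, 5, 4, 1])
def rL368 : List ℕ × List ℕ := ([4, 6, 6, 4, 5, 0], [6, 6, 4, 5, 1])
def rL369 : List ℕ × List ℕ := ([0, 2, 4, 0, 6, 0], [1, 2, 4, 6, 6])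
def rL370 : List ℕ × List ℕ := ([1, 2, 4, 0, 6, 0], [0, 2, 4, 6, 6])
def rL371 : List ℕ × List ℕ := ([0, 3, 4, 0, 6, 0], [1, 3, 4, 6, 6])
def rL372 : List ℕ × List ℕ := ([1, 3, 4, 0, 6, 0], [0, 3, 4, 6, 6])
def rL373 : List ℕ × List ℕ := ([1, 5, 4, 0, 6, 0], [5, 4, 6, 4, 1])
def rL374 : List ℕ × List ℕ := ([5, 5, 2, 2, 2, 1], [2, 2, 2, 1, 5])
def rL375 : List ℕ × List ℕ := ([6, 6, 2, 2, 2, 1], [2, 2, 2, 1, 6])
def rL376 : List ℕ × List ℕ := ([4, 6, 4, 5, 2, 1], [5, 4, 2, 1, 5])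
def rL377 : List ℕ × List ℕ := ([4, 5, 4, 6, 2, 1], [6, 4, 2, 1, 6])
def rL378 : List ℕ × List ℕ := ([4, 6, 4, 5, 3, 1], [5, 4, 3, 1, 5])
def rL379 : List ℕ × List ℕ := ([4, 5, 4, 6, 3, 1], [6, 4, 3, 1, 6])
def rL380 : List ℕ × List ℕ := ([5, 5, 2, 2, 4, 1], [2, 2, 0, 6, 4])
def rL381 : List ℕ × List ℕ := ([6, 6, 2, 2, 4, 1], [2, 2, 0, 5, 4])
def rL382 : List ℕ × List ℕ := ([5, 5, 3, 3, 4, 1], [3, 3, 0, 6, 4])
def rL383 : List ℕ × List ℕ := ([6, 6, 3, 3, 4, 1], [3, 3, 0, 5, 4])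
def rL384 : List ℕ × List ℕ := ([4, 6, 6, 4, 5, 1], [6, 6, 4, 5, 0])
def rL385 : List ℕ × List ℕ := ([5, 2, 4, 0, 5, 4], [6, 2, 4, 0, 6])
def rL386 : List ℕ × List ℕ := ([6, 2, 4, 0, 5, 4], [2, 1, 5, 4, 6])
def rL387 : List ℕ × List ℕ := ([5, 3, 4, 0, 5, 4], [6, 3, 4, 0, 6])
def rL388 : List ℕ × List ℕ := ([6, 3, 4, 0, 5, 4], [3, 1, 5, 4, 6])
def rL389 : List ℕ × List ℕ := ([5, 2, 4, 1, 5, 4], [2, 0, 5, 4, 6])
def rL390 : List ℕ × List ℕ := ([6, 2, 4, 1, 5, 4], [5, 2, 4, 1, 6])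
def rL391 : List ℕ × List ℕ := ([5, 3, 4, 1, 5, 4], [3, 0, 5, 4, 6])
def rL392 : List ℕ × List ℕ := ([6, 3, 4, 1, 5, 4], [5, 3, 4, 1, 6])
def rL393 : List ℕ × List ℕ := ([5, 0, 2, 4, 5, 4], [0, 5, 2, 4, 6])
def rL394 : List ℕ × List ℕ := ([6, 0, 2, 4, 5, 4], [5, 0, 2, 4, 6])
def rL395 : List ℕ × List ℕ := ([5, 1, 2, 4, 5, 4], [6, 1, 2, 4, 6])
def rL396 : List ℕ × List ℕ := ([6, 1, 2, 4, 5, 4], [1, 5, 2, 4, 6])
def rL397 : List ℕ × List ℕ := ([0, 6, 2, 4, 5, 4], [6, 0, 2, 4, 6])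
def rL398 : List ℕ × List ℕ := ([1, 6, 2, 4, 5, 4], [5, 1, 2, 4, 6])
def rL399 : List ℕ × List ℕ := ([6, 6, 2, 4, 5, 4], [5, 5, 2, 4, 6])
def rL400 : List ℕ × List ℕ := ([5, 0, 3, 4, 5, 4], [0, 5, 3, 4, 6])
def rL401 : List ℕ × List ℕ := ([6, 0, 3, 4, 5, 4], [5, 0, 3, 4, 6])
def rL402 : List ℕ × List ℕ := ([5, 1, 3, 4, 5, 4], [6, 1, 3, 4, 6])
def rL403 : List ℕ × List ℕ := ([6, 1, 3, 4, 5, 4], [1, 5, 3, 4, 6])
def rL404 : List ℕ × List ℕ := ([0, 6, 3, 4, 5, 4], [6, 0, 3, 4, 6])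
def rL405 : List ℕ × List ℕ := ([1, 6, 3, 4, 5, 4], [5, 1, 3, 4, 6])
def rL406 : List ℕ × List ℕ := ([6, 6, 3, 4, 5, 4], [5, 5, 3, 4, 6])
def rL407 : List ℕ × List ℕ := ([5, 2, 4, 0, 6, 4], [2, 1, 6, 4, 5])
def rL408 : List ℕ × List ℕ := ([6, 2, 4, 0, 6, 4], [5, 2, 4, 0, 5])
def rL409 : List ℕ × List ℕ := ([5, 3, 4, 0, 6, 4], [3, 1, 6, 4, 5])
def rL410 : List ℕ × List ℕ := ([6, 3, 4, 0, 6, 4], [5, 3, 4, 0, 5])
def rL411 : List ℕ × List ℕ := ([5, 2, 4, 1, 6, 4], [6, 2, 4, 1, 5])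
def rL412 : List ℕ × List ℕ := ([6, 2, 4, 1, 6, 4], [2, 0, 6, 4, 5])
def rL413 : List ℕ × List ℕ := ([5, 3, 4, 1, 6, 4], [6, 3, 4, 1, 5])
def rL414 : List ℕ × List ℕ := ([6, 3, 4, 1, 6, 4], [3, 0, 6, 4, 5])
def rL415 : List ℕ × List ℕ := ([5, 0, 2, 4, 6, 4], [6, 0, 2, 4, 5])
def rL416 : List ℕ × List ℕ := ([6, 0, 2, 4, 6, 4], [0, 6, 2, 4, 5])
def rL417 : List ℕ × List ℕ := ([5, 1, 2, 4, 6, 4], [1, 6, 2, 4, 5])
def rL418 : List ℕ × List ℕ := ([6, 1, 2, 4, 6, 4], [5, 1, 2, 4, 5])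
def rL419 : List ℕ × List ℕ := ([0, 5, 2, 4, 6, 4], [5, 0, 2, 4, 5])
def rL420 : List ℕ × List ℕ := ([1, 5, 2, 4, 6, 4], [6, 1, 2, 4, 5])
def rL421 : List ℕ × List ℕ := ([5, 5, 2, 4, 6, 4], [6, 6, 2, 4, 5])
def rL422 : List ℕ × List ℕ := ([5, 0, 3, 4, 6, 4], [6, 0, 3, 4, 5])
def rL423 : List ℕ × List ℕ := ([6, 0, 3, 4, 6, 4], [0, 6, 3, 4, 5])
def rL424 : List ℕ × List ℕ := ([5, 1, 3, 4, 6, 4], [1, 6, 3, 4, 5])
def rL425 : List ℕ × List ℕ := ([6, 1, 3, 4, 6, 4], [5, 1, 3, 4, 5])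
def rL426 : List ℕ × List ℕ := ([0, 5, 3, 4, 6, 4], [5, 0, 3, 4, 5])
def rL427 : List ℕ × List ℕ := ([1, 5, 3, 4, 6, 4], [6, 1, 3, 4, 5])
def rL428 : List ℕ × List ℕ := ([5, 5, 3, 4, 6, 4], [6, 6, 3, 4, 5])
def rL429 : List ℕ × List ℕ := ([5, 2, 2, 2, 0, 5], [6, 2, 2, 2, 0])
def rL430 : List ℕ × List ℕ := ([6, 2, 2, 2, 0, 5], [2, 2, 2, 0, 6])
def rL431 : List ℕ × List ℕ := ([4, 5, 4, 2, 0, 5], [6, 4, 2, 0, 6])
def rL432 : List ℕ × List ℕ := ([4, 6, 4, 2, 0, 5], [5, 4, 6, 2, 0])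
def rL433 : List ℕ × List ℕ := ([4, 5, 4, 3, 0, 5], [6, 4, 3, 0, 6])
def rL434 : List ℕ × List ℕ := ([4, 6, 4, 3, 0, 5], [5, 4, 6, 3, 0])
def rL435 : List ℕ × List ℕ := ([4, 1, 6, 4, 0, 5], [0, 5, 4, 6, 0])
def rL436 : List ℕ × List ℕ := ([5, 2, 2, 2, 1, 5], [2, 2, 2, 1, 6])
def rL437 : List ℕ × List ℕ := ([6, 2, 2, 2, 1, 5], [5, 2, 2, 2, 1])
def rL438 : List ℕ × List ℕ := ([4, 5, 4, 2, 1, 5], [6, 4, 5, 2, 1])
def rL439 : List ℕ × List ℕ := ([4, 6, 4, 2, 1, 5], [5, 4, 2, 1, 6])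
def rL440 : List ℕ × List ℕ := ([4, 5, 4, 3, 1, 5], [6, 4, 5, 3, 1])
def rL441 : List ℕ × List ℕ := ([4, 6, 4, 3, 1, 5], [5, 4, 3, 1, 6])
def rL442 : List ℕ × List ℕ := ([5, 2, 2, 2, 0, 6], [2, 2, 2, 0, 5])
def rL443 : List ℕ × List ℕ := ([6, 2, 2, 2, 0, 6], [5, 2, 2, 2, 0])
def rL444 : List ℕ × List ℕ := ([4, 5, 4, 2, 0, 6], [6, 4, 5, 2, 0])
def rL445 : List ℕ × List ℕ := ([4, 6, 4, 2, 0, 6], [5, 4, 2, 0, 5])
def rL446 : List ℕ × List ℕ := ([4, 5, 4, 3, 0, 6], [6, 4, 5, 3, 0])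
def rL447 : List ℕ × List ℕ := ([4, 6, 4, 3, 0, 6], [5, 4, 3, 0, 5])
def rL448 : List ℕ × List ℕ := ([4, 1, 5, 4, 0, 6], [0, 6, 4, 5, 0])
def rL449 : List ℕ × List ℕ := ([5, 2, 2, 2, 1, 6], [6, 2, 2, 2, 1])
def rL450 : List ℕ × List ℕ := ([6, 2, 2, 2, 1, 6], [2, 2, 2, 1, 5])
def rL451 : List ℕ × List ℕ := ([4, 5, 4, 2, 1, 6], [6, 4, 2, 1, 5])
def rL452 : List ℕ × List ℕ := ([4, 6, 4, 2, 1, 6], [5, 4, 6, 2, 1])
def rL453 : List ℕ × List ℕ := ([4, 5, 4, 3, 1, 6], [6, 4, 3, 1, 5])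
def rL454 : List ℕ × List ℕ := ([4, 6, 4, 3, 1, 6], [5, 4, 6, 3, 1])
def rL455 : List ℕ × List ℕ := ([0, 5, 2, 2, 2, 0, 0], [1, 6, 2, 2, 2])
def rL456 : List ℕ × List ℕ := ([1, 5, 2, 2, 2, 0, 0], [0, 6, 2, 2, 2])
def rL457 : List ℕ × List ℕ := ([0, 6, 2, 2, 2, 0, 0], [1, 5, 2, 2, 2])
def rL458 : List ℕ × List ℕ := ([1, 6, 2, 2, 2, 0, 0], [0, 5, 2, 2, 2])
def rL459 : List ℕ × List ℕ := ([0, 2, 4, 2, 2, 0, 0], [1, 2, 4, 2, 2])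
def rL460 : List ℕ × List ℕ := ([1, 2, 4, 2, 2, 0, 0], [0, 2, 4, 2, 2])
def rL461 : List ℕ × List ℕ := ([0, 3, 4, 2, 2, 0, 0], [1, 3, 4, 2, 2])
def rL462 : List ℕ × List ℕ := ([1, 3, 4, 2, 2, 0, 0], [0, 3, 4, 2, 2])
def rL463 : List ℕ × List ℕ := ([0, 5, 4, 2, 2, 0, 0], [1, 6, 4, 2, 2])
def rL464 : List ℕ × List ℕ := ([1, 5, 4, 2, 2, 0, 0], [0, 6, 4, 2, 2])
def rL465 : List ℕ × List ℕ := ([0, 6, 4, 2, 2, 0, 0], [1, 5, 4, 2, 2])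
def rL466 : List ℕ × List ℕ := ([1, 6, 4, 2, 2, 0, 0], [0, 5, 4, 2, 2])
def rL467 : List ℕ × List ℕ := ([0, 2, 2, 4, 2, 0, 0], [1, 2, 2, 4, 2])
def rL468 : List ℕ × List ℕ := ([1, 2, 2, 4, 2, 0, 0], [0, 2, 2, 4, 2])
def rL469 : List ℕ × List ℕ := ([0, 5, 2, 4, 2, 0, 0], [1, 6, 2, 4, 2])
def rL470 : List ℕ × List ℕ := ([1, 5, 2, 4, 2, 0, 0], [0, 6, 2, 4, 2])
def rL471 : List ℕ × List ℕ := ([0, 6, 2, 4, 2, 0, 0], [1, 5, 2, 4, 2])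
def rL472 : List ℕ × List ℕ := ([1, 6, 2, 4, 2, 0, 0], [0, 5, 2, 4, 2])
def rL473 : List ℕ × List ℕ := ([0, 3, 3, 4, 2, 0, 0], [1, 3, 3, 4, 2])
def rL474 : List ℕ × List ℕ := ([1, 3, 3, 4, 2, 0, 0], [0, 3, 3, 4, 2])
def rL475 : List ℕ × List ℕ := ([0, 5, 3, 4, 2, 0, 0], [1, 6, 3, 4, 2])
def rL476 : List ℕ × List ℕ := ([1, 5, 3, 4, 2, 0, 0], [0, 6, 3, 4, 2])
def rL477 : List ℕ × List ℕ := ([0, 6, 3, 4, 2, 0, 0], [1, 5, 3, 4, 2])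
def rL478 : List ℕ × List ℕ := ([1, 6, 3, 4, 2, 0, 0], [0, 5, 3, 4, 2])
def rL479 : List ℕ × List ℕ := ([0, 2, 4, 5, 2, 0, 0], [1, 2, 4, 6, 2])
def rL480 : List ℕ × List ℕ := ([1, 2, 4, 5, 2, 0, 0], [0, 2, 4, 6, 2])
def rL481 : List ℕ × List ℕ := ([0, 3, 4, 5, 2, 0, 0], [1, 3, 4, 6, 2])
def rL482 : List ℕ × List ℕ := ([1, 3, 4, 5, 2, 0, 0], [0, 3, 4, 6, 2])
def rL483 : List ℕ × List ℕ := ([0, 6, 4, 5, 2, 0, 0], [1, 5, 4, 6, 2])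
def rL484 : List ℕ × List ℕ := ([1, 6, 4, 5, 2, 0, 0], [0, 5, 4, 6, 2])
def rL485 : List ℕ × List ℕ := ([0, 2, 4, 6, 2, 0, 0], [1, 2, 4, 5, 2])
def rL486 : List ℕ × List ℕ := ([1, 2, 4, 6, 2, 0, 0], [0, 2, 4, 5, 2])
def rL487 : List ℕ × List ℕ := ([0, 3, 4, 6, 2, 0, 0], [1, 3, 4, 5, 2])
def rL488 : List ℕ × List ℕ := ([1, 3, 4, 6, 2, 0, 0], [0, 3, 4, 5, 2])
def rL489 : List ℕ × List ℕ := ([0, 5, 4, 6, 2, 0, 0], [1, 6, 4, 5, 2])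
def rL490 : List ℕ × List ℕ := ([1, 5, 4, 6, 2, 0, 0], [0, 6, 4, 5, 2])
def rL491 : List ℕ × List ℕ := ([0, 2, 4, 3, 3, 0, 0], [1, 2, 4, 3, 3])
def rL492 : List ℕ × List ℕ := ([1, 2, 4, 3, 3, 0, 0], [0, 2, 4, 3, 3])
def rL493 : List ℕ × List ℕ := ([0, 3, 4, 3, 3, 0, 0], [1, 3, 4, 3, 3])
def rL494 : List ℕ × List ℕ := ([1, 3, 4, 3, 3, 0, 0], [0, 3, 4, 3, 3])
def rL495 : List ℕ × List ℕ := ([0, 5, 4, 3, 3, 0, 0], [1, 6, 4, 3, 3])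
def rL496 : List ℕ × List ℕ := ([1, 5, 4, 3, 3, 0, 0], [0, 6, 4, 3, 3])
def rL497 : List ℕ × List ℕ := ([0, 6, 4, 3, 3, 0, 0], [1, 5, 4, 3, 3])
def rL498 : List ℕ × List ℕ := ([1, 6, 4, 3, 3, 0, 0], [0, 5, 4, 3, 3])
def rL499 : List ℕ × List ℕ := ([0, 2, 2, 4, 3, 0, 0], [1, 2, 2, 4, 3])
def rL500 : List ℕ × List ℕ := ([1, 2, 2, 4, 3, 0, 0], [0, 2, 2, 4, 3])
def rL501 : List ℕ × List ℕ := ([0, 5, 2, 4, 3, 0, 0], [1, 6, 2, 4, 3])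
def rL502 : List ℕ × List ℕ := ([1, 5, 2, 4, 3, 0, 0], [0, 6, 2, 4, 3])
def rL503 : List ℕ × List ℕ := ([0, 6, 2, 4, 3, 0, 0], [1, 5, 2, 4, 3])
def rL504 : List ℕ × List ℕ := ([1, 6, 2, 4, 3, 0, 0], [0, 5, 2, 4, 3])
def rL505 : List ℕ × List ℕ := ([0, 3, 3, 4, 3, 0, 0], [1, 3, 3, 4, 3])
def rL506 : List ℕ × List ℕ := ([1, 3, 3, 4, 3, 0, 0], [0, 3, 3, 4, 3])
def rL507 : List ℕ × List ℕ := ([0, 5, 3, 4, 3, 0, 0], [1, 6, 3, 4, 3])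
def rL508 : List ℕ × List ℕ := ([1, 5, 3, 4, 3, 0, 0], [0, 6, 3, 4, 3])
def rL509 : List ℕ × List ℕ := ([0, 6, 3, 4, 3, 0, 0], [1, 5, 3, 4, 3])
def rL510 : List ℕ × List ℕ := ([1, 6, 3, 4, 3, 0, 0], [0, 5, 3, 4, 3])
def rL511 : List ℕ × List ℕ := ([0, 2, 4, 5, 3, 0, 0], [1, 2, 4, 6, 3])
def rL512 : List ℕ × List ℕ := ([1, 2, 4, 5, 3, 0, 0], [0, 2, 4, 6, 3])
def rL513 : List ℕ × List ℕ := ([0, 3, 4, 5, 3, 0, 0], [1, 3, 4, 6, 3])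
def rL514 : List ℕ × List ℕ := ([1, 3, 4, 5, 3, 0, 0], [0, 3, 4, 6, 3])
def rL515 : List ℕ × List ℕ := ([0, 6, 4, 5, 3, 0, 0], [1, 5, 4, 6, 3])
def rL516 : List ℕ × List ℕ := ([1, 6, 4, 5, 3, 0, 0], [0, 5, 4, 6, 3])
def rL517 : List ℕ × List ℕ := ([0, 2, 4, 6, 3, 0, 0], [1, 2, 4, 5, 3])
def rL518 : List ℕ × List ℕ := ([1, 2, 4, 6, 3, 0, 0], [0, 2, 4, 5, 3])
def rL519 : List ℕ × List ℕ := ([0, 3, 4, 6, 3, 0, 0], [1, 3, 4, 5, 3])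
def rL520 : List ℕ × List ℕ := ([1, 3, 4, 6, 3, 0, 0], [0, 3, 4, 5, 3])
def rL521 : List ℕ × List ℕ := ([0, 5, 4, 6, 3, 0, 0], [1, 6, 4, 5, 3])
def rL522 : List ℕ × List ℕ := ([1, 5, 4, 6, 3, 0, 0], [0, 6, 4, 5, 3])
def rL523 : List ℕ × List ℕ := ([0, 2, 2, 2, 4, 0, 0], [1, 2, 2, 2, 4])
def rL524 : List ℕ × List ℕ := ([1, 2, 2, 2, 4, 0, 0], [0, 2, 2, 2, 4])
def rL525 : List ℕ × List ℕ := ([0, 5, 2, 2, 4, 0, 0], [1, 6, 2, 2, 4])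
def rL526 : List ℕ × List ℕ := ([1, 5, 2, 2, 4, 0, 0], [0, 6, 2, 2, 4])
def rL527 : List ℕ × List ℕ := ([0, 6, 2, 2, 4, 0, 0], [1, 5, 2, 2, 4])
def rL528 : List ℕ × List ℕ := ([1, 6, 2, 2, 4, 0, 0], [0, 5, 2, 2, 4])
def rL529 : List ℕ × List ℕ := ([0, 2, 4, 2, 4, 0, 0], [1, 2, 4, 2, 4])
def rL530 : List ℕ × List ℕ := ([1, 2, 4, 2, 4, 0, 0], [0, 2, 4, 2, 4])
def rL531 : List ℕ × List ℕ := ([0, 3, 4, 2, 4, 0, 0], [1, 3, 4, 2, 4])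
def rL532 : List ℕ × List ℕ := ([1, 3, 4, 2, 4, 0, 0], [0, 3, 4, 2, 4])
def rL533 : List ℕ × List ℕ := ([0, 5, 4, 2, 4, 0, 0], [1, 6, 4, 2, 4])
def rL534 : List ℕ × List ℕ := ([1, 5, 4, 2, 4, 0, 0], [0, 6, 4, 2, 4])
def rL535 : List ℕ × List ℕ := ([0, 6, 4, 2, 4, 0, 0], [1, 5, 4, 2, 4])
def rL536 : List ℕ × List ℕ := ([1, 6, 4, 2, 4, 0, 0], [0, 5, 4, 2, 4])
def rL537 : List ℕ × List ℕ := ([0, 5, 3, 3, 4, 0, 0], [1, 6, 3, 3, 4])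
def rL538 : List ℕ × List ℕ := ([1, 5, 3, 3, 4, 0, 0], [0, 6, 3, 3, 4])
def rL539 : List ℕ × List ℕ := ([0, 6, 3, 3, 4, 0, 0], [1, 5, 3, 3, 4])
def rL540 : List ℕ × List ℕ := ([1, 6, 3, 3, 4, 0, 0], [0, 5, 3, 3, 4])
def rL541 : List ℕ × List ℕ := ([0, 2, 4, 3, 4, 0, 0], [1, 2, 4, 3, 4])
def rL542 : List ℕ × List ℕ := ([1, 2, 4, 3, 4, 0, 0], [0, 2, 4, 3, 4])
def rL543 : List ℕ × List ℕ := ([0, 3, 4, 3, 4, 0, 0], [1, 3, 4, 3, 4])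
def rL544 : List ℕ × List ℕ := ([1, 3, 4, 3, 4, 0, 0], [0, 3, 4, 3, 4])
def rL545 : List ℕ × List ℕ := ([0, 5, 4, 3, 4, 0, 0], [1, 6, 4, 3, 4])
def rL546 : List ℕ × List ℕ := ([1, 5, 4, 3, 4, 0, 0], [0, 6, 4, 3, 4])
def rL547 : List ℕ × List ℕ := ([0, 6, 4, 3, 4, 0, 0], [1, 5, 4, 3, 4])
def rL548 : List ℕ × List ℕ := ([1, 6, 4, 3, 4, 0, 0], [0, 5, 4, 3, 4])
def rL549 : List ℕ × List ℕ := ([0, 2, 4, 5, 4, 0, 0], [1, 2, 4, 6, 4])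
def rL550 : List ℕ × List ℕ := ([1, 2, 4, 5, 4, 0, 0], [0, 2, 4, 6, 4])
def rL551 : List ℕ × List ℕ := ([0, 3, 4, 5, 4, 0, 0], [1, 3, 4, 6, 4])
def rL552 : List ℕ × List ℕ := ([1, 3, 4, 5, 4, 0, 0], [0, 3, 4, 6, 4])
def rL553 : List ℕ × List ℕ := ([0, 2, 4, 6, 4, 0, 0], [1, 2, 4, 5, 4])
def rL554 : List ℕ × List ℕ := ([1, 2, 4, 6, 4, 0, 0], [0, 2, 4, 5, 4])
def rL555 : List ℕ × List ℕ := ([0, 3, 4, 6, 4, 0, 0], [1, 3, 4, 5, 4])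
def rL556 : List ℕ × List ℕ := ([1, 3, 4, 6, 4, 0, 0], [0, 3, 4, 5, 4])
def rL557 : List ℕ × List ℕ := ([0, 2, 2, 4, 5, 0, 0], [1, 2, 2, 4, 6])
def rL558 : List ℕ × List ℕ := ([1, 2, 2, 4, 5, 0, 0], [0, 2, 2, 4, 6])
def rL559 : List ℕ × List ℕ := ([0, 6, 2, 4, 5, 0, 0], [1, 5, 2, 4, 6])
def rL560 : List ℕ × List ℕ := ([1, 6, 2, 4, 5, 0, 0], [0, 5, 2, 4, 6])
def rL561 : List ℕ × List ℕ := ([0, 3, 3, 4, 5, 0, 0], [1, 3, 3, 4, 6])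
def rL562 : List ℕ × List ℕ := ([1, 3, 3, 4, 5, 0, 0], [0, 3, 3, 4, 6])
def rL563 : List ℕ × List ℕ := ([0, 6, 3, 4, 5, 0, 0], [1, 5, 3, 4, 6])
def rL564 : List ℕ × List ℕ := ([1, 6, 3, 4, 5, 0, 0], [0, 5, 3, 4, 6])
def rL565 : List ℕ × List ℕ := ([0, 2, 2, 4, 6, 0, 0], [1, 2, 2, 4, 5])
def rL566 : List ℕ × List ℕ := ([1, 2, 2, 4, 6, 0, 0], [0, 2, 2, 4, 5])
def rL567 : List ℕ × List ℕ := ([0, 5, 2, 4, 6, 0, 0], [1, 6, 2, 4, 5])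
def rL568 : List ℕ × List ℕ := ([1, 5, 2, 4, 6, 0, 0], [0, 6, 2, 4, 5])
def rL569 : List ℕ × List ℕ := ([0, 3, 3, 4, 6, 0, 0], [1, 3, 3, 4, 5])
def rL570 : List ℕ × List ℕ := ([1, 3, 3, 4, 6, 0, 0], [0, 3, 3, 4, 5])
def rL571 : List ℕ × List ℕ := ([0, 5, 3, 4, 6, 0, 0], [1, 6, 3, 4, 5])
def rL572 : List ℕ × List ℕ := ([1, 5, 3, 4, 6, 0, 0], [0, 6, 3, 4, 5])
def rL573 : List ℕ × List ℕ := ([0, 5, 2, 2, 2, 1], [1, 6, 2, 2, 2, 0])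
def rL574 : List ℕ × List ℕ := ([1, 5, 2, 2, 2, 1], [0, 6, 2, 2, 2, 0])
def rL575 : List ℕ × List ℕ := ([0, 6, 2, 2, 2, 1], [1, 5, 2, 2, 2, 0])
def rL576 : List ℕ × List ℕ := ([1, 6, 2, 2, 2, 1], [0, 5, 2, 2, 2, 0])
def rL577 : List ℕ × List ℕ := ([0, 2, 4, 2, 2, 1], [1, 2, 4, 2, 2, 0])
def rL578 : List ℕ × List ℕ := ([1, 2, 4, 2, 2, 1], [0, 2, 4, 2, 2, 0])
def rL579 : List ℕ × List ℕ := ([0, 3, 4, 2, 2, 1], [1, 3, 4, 2, 2, 0])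
def rL580 : List ℕ × List ℕ := ([1, 3, 4, 2, 2, 1], [0, 3, 4, 2, 2, 0])
def rL581 : List ℕ × List ℕ := ([0, 5, 4, 2, 2, 1], [1, 6, 4, 2, 2, 0])
def rL582 : List ℕ × List ℕ := ([1, 5, 4, 2, 2, 1], [0, 6, 4, 2, 2, 0])
def rL583 : List ℕ × List ℕ := ([0, 6, 4, 2, 2, 1], [1, 5, 4, 2, 2, 0])
def rL584 : List ℕ × List ℕ := ([1, 6, 4, 2, 2, 1], [0, 5, 4, 2, 2, 0])
def rL585 : List ℕ × List ℕ := ([0, 2, 2, 4, 2, 1], [1, 2, 2, 4, 2, 0])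
def rL586 : List ℕ × List ℕ := ([1, 2, 2, 4, 2, 1], [0, 2, 2, 4, 2, 0])
def rL587 : List ℕ × List ℕ := ([0, 5, 2, 4, 2, 1], [1, 6, 2, 4, 2, 0])
def rL588 : List ℕ × List ℕ := ([1, 5, 2, 4, 2, 1], [0, 6, 2, 4, 2, 0])
def rL589 : List ℕ × List ℕ := ([0, 6, 2, 4, 2, 1], [1, 5, 2, 4, 2, 0])
def rL590 : List ℕ × List ℕ := ([1, 6, 2, 4, 2, 1], [0, 5, 2, 4, 2, 0])
def rL591 : List ℕ × List ℕ := ([0, 3, 3, 4, 2, 1], [1, 3, 3, 4, 2, 0])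
def rL592 : List ℕ × List ℕ := ([1, 3, 3, 4, 2, 1], [0, 3, 3, 4, 2, 0])
def rL593 : List ℕ × List ℕ := ([0, 5, 3, 4, 2, 1], [1, 6, 3, 4, 2, 0])
def rL594 : List ℕ × List ℕ := ([1, 5, 3, 4, 2, 1], [0, 6, 3, 4, 2, 0])
def rL595 : List ℕ × List ℕ := ([0, 6, 3, 4, 2, 1], [1, 5, 3, 4, 2, 0])
def rL596 : List ℕ × List ℕ := ([1, 6, 3, 4, 2, 1], [0, 5, 3, 4, 2, 0])
def rL597 : List ℕ × List ℕ := ([0, 2, 4, 5, 2, 1], [1, 2, 4, 6, 2, 0])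
def rL598 : List ℕ × List ℕ := ([1, 2, 4, 5, 2, 1], [0, 2, 4, 6, 2, 0])
def rL599 : List ℕ × List ℕ := ([0, 3, 4, 5, 2, 1], [1, 3, 4, 6, 2, 0])
def rL600 : List ℕ × List ℕ := ([1, 3, 4, 5, 2, 1], [0, 3, 4, 6, 2, 0])
def rL601 : List ℕ × List ℕ := ([0, 6, 4, 5, 2, 1], [1, 5, 4, 6, 2, 0])
def rL602 : List ℕ × List ℕ := ([1, 6, 4, 5, 2, 1], [0, 5, 4, 6, 2, 0])
def rL603 : List ℕ × List ℕ := ([0, 2, 4, 6, 2, 1], [1, 2, 4, 5, 2, 0])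
def rL604 : List ℕ × List ℕ := ([1, 2, 4, 6, 2, 1], [0, 2, 4, 5, 2, 0])
def rL605 : List ℕ × List ℕ := ([0, 3, 4, 6, 2, 1], [1, 3, 4, 5, 2, 0])
def rL606 : List ℕ × List ℕ := ([1, 3, 4, 6, 2, 1], [0, 3, 4, 5, 2, 0])
def rL607 : List ℕ × List ℕ := ([0, 5, 4, 6, 2, 1], [1, 6, 4, 5, 2, 0])
def rL608 : List ℕ × List ℕ := ([1, 5, 4, 6, 2, 1], [0, 6, 4, 5, 2, 0])
def rL609 : List ℕ × List ℕ := ([2, 0, 3, 1, 2, 0, 3, 1, 2, 0, 3, 1], [])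
def rL610 : List ℕ × List ℕ := ([0, 2, 4, 3, 3, 1], [1, 2, 4, 3, 3, 0])
def rL611 : List ℕ × List ℕ := ([1, 2, 4, 3, 3, 1], [0, 2, 4, 3, 3, 0])
def rL612 : List ℕ × List ℕ := ([0, 3, 4, 3, 3, 1], [1, 3, 4, 3, 3, 0])
def rL613 : List ℕ × List ℕ := ([1, 3, 4, 3, 3, 1], [0, 3, 4, 3, 3, 0])
def rL614 : List ℕ × List ℕ := ([0, 5, 4, 3, 3, 1], [1, 6, 4, 3, 3, 0])
def rL615 : List ℕ × List ℕ := ([1, 5, 4, 3, 3, 1], [0, 6, 4, 3, 3, 0])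
def rL616 : List ℕ × List ℕ := ([0, 6, 4, 3, 3, 1], [1, 5, 4, 3, 3, 0])
def rL617 : List ℕ × List ℕ := ([1, 6, 4, 3, 3, 1], [0, 5, 4, 3, 3, 0])
def rL618 : List ℕ × List ℕ := ([0, 2, 2, 4, 3, 1], [1, 2, 2, 4, 3, 0])
def rL619 : List ℕ × List ℕ := ([1, 2, 2, 4, 3, 1], [0, 2, 2, 4, 3, 0])
def rL620 : List ℕ × List ℕ := ([0, 5, 2, 4, 3, 1], [1, 6, 2, 4, 3, 0])
def rL621 : List ℕ × List ℕ := ([1, 5, 2, 4, 3, 1], [0, 6, 2, 4, 3, 0])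
def rL622 : List ℕ × List ℕ := ([0, 6, 2, 4, 3, 1], [1, 5, 2, 4, 3, 0])
def rL623 : List ℕ × List ℕ := ([1, 6, 2, 4, 3, 1], [0, 5, 2, 4, 3, 0])
def rL624 : List ℕ × List ℕ := ([0, 3, 3, 4, 3, 1], [1, 3, 3, 4, 3, 0])
def rL625 : List ℕ × List ℕ := ([1, 3, 3, 4, 3, 1], [0, 3, 3, 4, 3, 0])
def rL626 : List ℕ × List ℕ := ([0, 5, 3, 4, 3, 1], [1, 6, 3, 4, 3, 0])
def rL627 : List ℕ × List ℕ := ([1, 5, 3, 4, 3, 1], [0, 6, 3, 4, 3, 0])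
def rL628 : List ℕ × List ℕ := ([0, 6, 3, 4, 3, 1], [1, 5, 3, 4, 3, 0])
def rL629 : List ℕ × List ℕ := ([1, 6, 3, 4, 3, 1], [0, 5, 3, 4, 3, 0])
def rL630 : List ℕ × List ℕ := ([0, 2, 4, 5, 3, 1], [1, 2, 4, 6, 3, 0])
def rL631 : List ℕ × List ℕ := ([1, 2, 4, 5, 3, 1], [0, 2, 4, 6, 3, 0])
def rL632 : List ℕ × List ℕ := ([0, 3, 4, 5, 3, 1], [1, 3, 4, 6, 3, 0])
def rL633 : List ℕ × List ℕ := ([1, 3, 4, 5, 3, 1], [0, 3, 4, 6, 3, 0])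
def rL634 : List ℕ × List ℕ := ([0, 6, 4, 5, 3, 1], [1, 5, 4, 6, 3, 0])
def rL635 : List ℕ × List ℕ := ([1, 6, 4, 5, 3, 1], [0, 5, 4, 6, 3, 0])
def rL636 : List ℕ × List ℕ := ([0, 2, 4, 6, 3, 1], [1, 2, 4, 5, 3, 0])
def rL637 : List ℕ × List ℕ := ([1, 2, 4, 6, 3, 1], [0, 2, 4, 5, 3, 0])
def rL638 : List ℕ × List ℕ := ([0, 3, 4, 6, 3, 1], [1, 3, 4, 5, 3, 0])
def rL639 : List ℕ × List ℕ := ([1, 3, 4, 6, 3, 1], [0, 3, 4, 5, 3, 0])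
def rL640 : List ℕ × List ℕ := ([0, 5, 4, 6, 3, 1], [1, 6, 4, 5, 3, 0])
def rL641 : List ℕ × List ℕ := ([1, 5, 4, 6, 3, 1], [0, 6, 4, 5, 3, 0])
def rL642 : List ℕ × List ℕ := ([0, 2, 2, 2, 4, 1], [1, 2, 2, 2, 4, 0])
def rL643 : List ℕ × List ℕ := ([1, 2, 2, 2, 4, 1], [0, 2, 2, 2, 4, 0])
def rL644 : List ℕ × List ℕ := ([0, 5, 2, 2, 4, 1], [1, 6, 2, 2, 4, 0])
def rL645 : List ℕ × List ℕ := ([1, 5, 2, 2, 4, 1], [0, 6, 2, 2, 4, 0])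
def rL646 : List ℕ × List ℕ := ([0, 6, 2, 2, 4, 1], [1, 5, 2, 2, 4, 0])
def rL647 : List ℕ × List ℕ := ([1, 6, 2, 2, 4, 1], [0, 5, 2, 2, 4, 0])
def rL648 : List ℕ × List ℕ := ([0, 2, 4, 2, 4, 1], [1, 2, 4, 2, 4, 0])
def rL649 : List ℕ × List ℕ := ([1, 2, 4, 2, 4, 1], [0, 2, 4, 2, 4, 0])
def rL650 : List ℕ × List ℕ := ([0, 3, 4, 2, 4, 1], [1, 3, 4, 2, 4, 0])
def rL651 : List ℕ × List ℕ := ([1, 3, 4, 2, 4, 1], [0, 3, 4, 2, 4, 0])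
def rL652 : List ℕ × List ℕ := ([0, 5, 4, 2, 4, 1], [1, 6, 4, 2, 4, 0])
def rL653 : List ℕ × List ℕ := ([1, 5, 4, 2, 4, 1], [0, 6, 4, 2, 4, 0])
def rL654 : List ℕ × List ℕ := ([0, 6, 4, 2, 4, 1], [1, 5, 4, 2, 4, 0])
def rL655 : List ℕ × List ℕ := ([1, 6, 4, 2, 4, 1], [0, 5, 4, 2, 4, 0])
def rL656 : List ℕ × List ℕ := ([0, 5, 3, 3, 4, 1], [1, 6, 3, 3, 4, 0])
def rL657 : List ℕ × List ℕ := ([1, 5, 3, 3, 4, 1], [0, 6, 3, 3, 4, 0])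
def rL658 : List ℕ × List ℕ := ([0, 6, 3, 3, 4, 1], [1, 5, 3, 3, 4, 0])
def rL659 : List ℕ × List ℕ := ([1, 6, 3, 3, 4, 1], [0, 5, 3, 3, 4, 0])
def rL660 : List ℕ × List ℕ := ([0, 2, 4, 3, 4, 1], [1, 2, 4, 3, 4, 0])
def rL661 : List ℕ × List ℕ := ([1, 2, 4, 3, 4, 1], [0, 2, 4, 3, 4, 0])
def rL662 : List ℕ × List ℕ := ([0, 3, 4, 3, 4, 1], [1, 3, 4, 3, 4, 0])
def rL663 : List ℕ × List ℕ := ([1, 3, 4, 3, 4, 1], [0, 3, 4, 3, 4, 0])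
def rL664 : List ℕ × List ℕ := ([0, 5, 4, 3, 4, 1], [1, 6, 4, 3, 4, 0])
def rL665 : List ℕ × List ℕ := ([1, 5, 4, 3, 4, 1], [0, 6, 4, 3, 4, 0])
def rL666 : List ℕ × List ℕ := ([0, 6, 4, 3, 4, 1], [1, 5, 4, 3, 4, 0])
def rL667 : List ℕ × List ℕ := ([1, 6, 4, 3, 4, 1], [0, 5, 4, 3, 4, 0])
def rL668 : List ℕ × List ℕ := ([0, 2, 4, 5, 4, 1], [1, 2, 4, 6, 4, 0])
def rL669 : List ℕ × List ℕ := ([1, 2, 4, 5, 4, 1], [0, 2, 4, 6, 4, 0])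
def rL670 : List ℕ × List ℕ := ([0, 3, 4, 5, 4, 1], [1, 3, 4, 6, 4, 0])
def rL671 : List ℕ × List ℕ := ([1, 3, 4, 5, 4, 1], [0, 3, 4, 6, 4, 0])
def rL672 : List ℕ × List ℕ := ([0, 2, 4, 6, 4, 1], [1, 2, 4, 5, 4, 0])
def rL673 : List ℕ × List ℕ := ([1, 2, 4, 6, 4, 1], [0, 2, 4, 5, 4, 0])
def rL674 : List ℕ × List ℕ := ([0, 3, 4, 6, 4, 1], [1, 3, 4, 5, 4, 0])
def rL675 : List ℕ × List ℕ := ([1, 3, 4, 6, 4, 1], [0, 3, 4, 5, 4, 0])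
def rL676 : List ℕ × List ℕ := ([0, 2, 2, 4, 5, 1], [1, 2, 2, 4, 6, 0])
def rL677 : List ℕ × List ℕ := ([1, 2, 2, 4, 5, 1], [0, 2, 2, 4, 6, 0])
def rL678 : List ℕ × List ℕ := ([0, 6, 2, 4, 5, 1], [1, 5, 2, 4, 6, 0])
def rL679 : List ℕ × List ℕ := ([1, 6, 2, 4, 5, 1], [0, 5, 2, 4, 6, 0])
def rL680 : List ℕ × List ℕ := ([0, 3, 3, 4, 5, 1], [1, 3, 3, 4, 6, 0])
def rL681 : List ℕ × List ℕ := ([1, 3, 3, 4, 5, 1], [0, 3, 3, 4, 6, 0])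
def rL682 : List ℕ × List ℕ := ([0, 6, 3, 4, 5, 1], [1, 5, 3, 4, 6, 0])
def rL683 : List ℕ × List ℕ := ([1, 6, 3, 4, 5, 1], [0, 5, 3, 4, 6, 0])
def rL684 : List ℕ × List ℕ := ([0, 2, 2, 4, 6, 1], [1, 2, 2, 4, 5, 0])
def rL685 : List ℕ × List ℕ := ([1, 2, 2, 4, 6, 1], [0, 2, 2, 4, 5, 0])
def rL686 : List ℕ × List ℕ := ([0, 5, 2, 4, 6, 1], [1, 6, 2, 4, 5, 0])
def rL687 : List ℕ × List ℕ := ([1, 5, 2, 4, 6, 1], [0, 6, 2, 4, 5, 0])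
def rL688 : List ℕ × List ℕ := ([0, 3, 3, 4, 6, 1], [1, 3, 3, 4, 5, 0])
def rL689 : List ℕ × List ℕ := ([1, 3, 3, 4, 6, 1], [0, 3, 3, 4, 5, 0])
def rL690 : List ℕ × List ℕ := ([0, 5, 3, 4, 6, 1], [1, 6, 3, 4, 5, 0])
def rL691 : List ℕ × List ℕ := ([1, 5, 3, 4, 6, 1], [0, 6, 3, 4, 5, 0])
def rL692 : List ℕ × List ℕ := ([0, 2, 0, 3, 0, 2], [2, 0, 3, 0, 2, 0])
def rL693 : List ℕ × List ℕ := ([1, 2, 0, 3, 0, 2], [2, 1, 3, 0, 2, 0])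
def rL694 : List ℕ × List ℕ := ([3, 4, 2, 0, 3, 0, 2], [0, 3, 0, 2, 4])
def rL695 : List ℕ × List ℕ := ([3, 4, 2, 1, 3, 0, 2], [1, 3, 0, 2, 4])
def rL696 : List ℕ × List ℕ := ([0, 2, 4, 3, 0, 2], [2, 0, 3, 4, 2, 0])
def rL697 : List ℕ × List ℕ := ([1, 2, 4, 3, 0, 2], [2, 1, 3, 4, 2, 0])
def rL698 : List ℕ × List ℕ := ([3, 4, 2, 4, 3, 0, 2], [0, 3, 4, 2, 4])
def rL699 : List ℕ × List ℕ := ([4, 0, 3, 4, 0, 2], [3, 4, 0, 2, 4, 0])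
def rL700 : List ℕ × List ℕ := ([4, 1, 3, 4, 0, 2], [3, 4, 1, 2, 4, 0])
def rL701 : List ℕ × List ℕ := ([3, 4, 2, 4, 3, 1, 2], [1, 3, 4, 2, 4])
def rL702 : List ℕ × List ℕ := ([0, 2, 0, 3, 4, 2], [2, 4, 3, 0, 2, 0])
def rL703 : List ℕ × List ℕ := ([1, 2, 0, 3, 4, 2], [2, 4, 3, 1, 2, 0])
def rL704 : List ℕ × List ℕ := ([0, 2, 4, 3, 4, 2], [2, 4, 3, 4, 2, 0])
def rL705 : List ℕ × List ℕ := ([1, 2, 4, 3, 4, 2], [2, 4, 3, 4, 2, 1])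
def rL706 : List ℕ × List ℕ := ([0, 3, 0, 2, 0, 3], [3, 0, 2, 0, 3, 0])
def rL707 : List ℕ × List ℕ := ([1, 3, 0, 2, 0, 3], [3, 1, 2, 0, 3, 0])
def rL708 : List ℕ × List ℕ := ([2, 4, 3, 0, 2, 0, 3], [0, 2, 0, 3, 4])
def rL709 : List ℕ × List ℕ := ([2, 4, 3, 1, 2, 0, 3], [1, 2, 0, 3, 4])
def rL710 : List ℕ × List ℕ := ([0, 3, 4, 2, 0, 3], [3, 0, 2, 4, 3, 0])
def rL711 : List ℕ × List ℕ := ([1, 3, 4, 2, 0, 3], [3, 1, 2, 4, 3, 0])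
def rL712 : List ℕ × List ℕ := ([2, 4, 3, 4, 2, 0, 3], [0, 2, 4, 3, 4])
def rL713 : List ℕ × List ℕ := ([4, 0, 2, 4, 0, 3], [2, 4, 0, 3, 4, 0])
def rL714 : List ℕ × List ℕ := ([4, 1, 2, 4, 0, 3], [2, 4, 1, 3, 4, 0])
def rL715 : List ℕ × List ℕ := ([2, 4, 3, 4, 2, 1, 3], [1, 2, 4, 3, 4])
def rL716 : List ℕ × List ℕ := ([0, 3, 0, 2, 4, 3], [3, 4, 2, 0, 3, 0])
def rL717 : List ℕ × List ℕ := ([1, 3, 0, 2, 4, 3], [3, 4, 2, 1, 3, 0])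
def rL718 : List ℕ × List ℕ := ([0, 3, 4, 2, 4, 3], [3, 4, 2, 4, 3, 0])
def rL719 : List ℕ × List ℕ := ([1, 3, 4, 2, 4, 3], [3, 4, 2, 4, 3, 1])
def rL720 : List ℕ × List ℕ := ([2, 0, 3, 0, 2, 4], [4, 2, 0, 3, 0, 2])
def rL721 : List ℕ × List ℕ := ([2, 1, 3, 0, 2, 4], [4, 2, 1, 3, 0, 2])
def rL722 : List ℕ × List ℕ := ([2, 4, 3, 0, 2, 4], [4, 2, 0, 3, 4, 2])
def rL723 : List ℕ × List ℕ := ([0, 3, 4, 0, 2, 4], [4, 3, 4, 1, 2, 0])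
def rL724 : List ℕ × List ℕ := ([1, 3, 4, 0, 2, 4], [4, 3, 4, 0, 2, 0])
def rL725 : List ℕ × List ℕ := ([4, 3, 4, 0, 2, 4], [1, 3, 4, 0, 2, 0])
def rL726 : List ℕ × List ℕ := ([2, 4, 3, 1, 2, 4], [4, 2, 1, 3, 4, 2])
def rL727 : List ℕ × List ℕ := ([4, 3, 4, 1, 2, 4], [0, 3, 4, 0, 2, 0])
def rL728 : List ℕ × List ℕ := ([2, 0, 3, 4, 2, 4], [4, 2, 4, 3, 0, 2])
def rL729 : List ℕ × List ℕ := ([2, 1, 3, 4, 2, 4], [4, 2, 4, 3, 1, 2])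
def rL730 : List ℕ × List ℕ := ([2, 4, 3, 4, 2, 4], [4, 2, 4, 3, 4, 2])
def rL731 : List ℕ × List ℕ := ([3, 0, 2, 0, 3, 4], [4, 3, 0, 2, 0, 3])
def rL732 : List ℕ × List ℕ := ([3, 1, 2, 0, 3, 4], [4, 3, 1, 2, 0, 3])
def rL733 : List ℕ × List ℕ := ([3, 4, 2, 0, 3, 4], [4, 3, 0, 2, 4, 3])
def rL734 : List ℕ × List ℕ := ([0, 2, 4, 0, 3, 4], [4, 2, 4, 1, 3, 0])
def rL735 : List ℕ × List ℕ := ([1, 2, 4, 0, 3, 4], [4, 2, 4, 0, 3, 0])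
def rL736 : List ℕ × List ℕ := ([4, 2, 4, 0, 3, 4], [1, 2, 4, 0, 3, 0])
def rL737 : List ℕ × List ℕ := ([3, 4, 2, 1, 3, 4], [4, 3, 1, 2, 4, 3])
def rL738 : List ℕ × List ℕ := ([4, 2, 4, 1, 3, 4], [0, 2, 4, 0, 3, 0])
def rL739 : List ℕ × List ℕ := ([3, 0, 2, 4, 3, 4], [4, 3, 4, 2, 0, 3])
def rL740 : List ℕ × List ℕ := ([3, 1, 2, 4, 3, 4], [4, 3, 4, 2, 1, 3])
def rL741 : List ℕ × List ℕ := ([3, 4, 2, 4, 3, 4], [4, 3, 4, 2, 4, 3])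
def rL742 : List ℕ × List ℕ := ([6, 2, 4, 5, 5, 4], [5, 2, 4, 0, 5, 0])
def rL743 : List ℕ × List ℕ := ([6, 3, 4, 5, 5, 4], [5, 3, 4, 0, 5, 0])
def rL744 : List ℕ × List ℕ := ([5, 2, 4, 6, 6, 4], [6, 2, 4, 0, 6, 0])
def rL745 : List ℕ × List ℕ := ([5, 3, 4, 6, 6, 4], [6, 3, 4, 0, 6, 0])
def rL746 : List ℕ × List ℕ := ([0, 2, 2, 2, 0, 5], [6, 0, 2, 2, 2, 0])
def rL747 : List ℕ × List ℕ := ([1, 2, 2, 2, 0, 5], [5, 1, 2, 2, 2, 0])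
def rL748 : List ℕ × List ℕ := ([5, 5, 4, 2, 0, 5], [4, 5, 5, 4, 2, 1])
def rL749 : List ℕ × List ℕ := ([5, 5, 4, 3, 0, 5], [4, 5, 5, 4, 3, 1])
def rL750 : List ℕ × List ℕ := ([5, 0, 2, 4, 0, 5], [0, 2, 4, 0, 6, 4])
def rL751 : List ℕ × List ℕ := ([6, 1, 2, 4, 0, 5], [1, 2, 4, 0, 6, 4])
def rL752 : List ℕ × List ℕ := ([5, 0, 3, 4, 0, 5], [0, 3, 4, 0, 6, 4])
def rL753 : List ℕ × List ℕ := ([6, 1, 3, 4, 0, 5], [1, 3, 4, 0, 6, 4])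
def rL754 : List ℕ × List ℕ := ([6, 6, 4, 2, 1, 5], [4, 6, 6, 4, 2, 0])
def rL755 : List ℕ × List ℕ := ([6, 6, 4, 3, 1, 5], [4, 6, 6, 4, 3, 0])
def rL756 : List ℕ × List ℕ := ([5, 2, 2, 2, 4, 5], [2, 2, 2, 4, 6, 4])
def rL757 : List ℕ × List ℕ := ([4, 6, 4, 2, 4, 5], [5, 4, 2, 4, 6, 4])
def rL758 : List ℕ × List ℕ := ([4, 6, 4, 3, 4, 5], [5, 4, 3, 4, 6, 4])
def rL759 : List ℕ × List ℕ := ([5, 2, 4, 6, 4, 5], [2, 0, 6, 4, 5, 0])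
def rL760 : List ℕ × List ℕ := ([5, 3, 4, 6, 4, 5], [3, 0, 6, 4, 5, 0])
def rL761 : List ℕ × List ℕ := ([0, 2, 4, 6, 6, 4, 5], [6, 1, 2, 4, 6])
def rL762 : List ℕ × List ℕ := ([1, 2, 4, 6, 6, 4, 5], [5, 0, 2, 4, 6])
def rL763 : List ℕ × List ℕ := ([0, 3, 4, 6, 6, 4, 5], [6, 1, 3, 4, 6])
def rL764 : List ℕ × List ℕ := ([1, 3, 4, 6, 6, 4, 5], [5, 0, 3, 4, 6])
def rL765 : List ℕ × List ℕ := ([6, 0, 2, 4, 5, 5], [1, 2, 4, 5, 5, 4])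
def rL766 : List ℕ × List ℕ := ([5, 1, 2, 4, 5, 5], [0, 2, 4, 5, 5, 4])
def rL767 : List ℕ × List ℕ := ([6, 6, 2, 4, 5, 5], [2, 4, 1, 6, 4, 0])
def rL768 : List ℕ × List ℕ := ([6, 0, 3, 4, 5, 5], [1, 3, 4, 5, 5, 4])
def rL769 : List ℕ × List ℕ := ([5, 1, 3, 4, 5, 5], [0, 3, 4, 5, 5, 4])
def rL770 : List ℕ × List ℕ := ([6, 6, 3, 4, 5, 5], [3, 4, 1, 6, 4, 0])
def rL771 : List ℕ × List ℕ := ([0, 2, 2, 2, 0, 6], [5, 0, 2, 2, 2, 0])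
def rL772 : List ℕ × List ℕ := ([1, 2, 2, 2, 0, 6], [6, 1, 2, 2, 2, 0])
def rL773 : List ℕ × List ℕ := ([6, 6, 4, 2, 0, 6], [4, 6, 6, 4, 2, 1])
def rL774 : List ℕ × List ℕ := ([6, 6, 4, 3, 0, 6], [4, 6, 6, 4, 3, 1])
def rL775 : List ℕ × List ℕ := ([6, 0, 2, 4, 0, 6], [0, 2, 4, 0, 5, 4])
def rL776 : List ℕ × List ℕ := ([5, 1, 2, 4, 0, 6], [1, 2, 4, 0, 5, 4])
def rL777 : List ℕ × List ℕ := ([6, 0, 3, 4, 0, 6], [0, 3, 4, 0, 5, 4])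
def rL778 : List ℕ × List ℕ := ([5, 1, 3, 4, 0, 6], [1, 3, 4, 0, 5, 4])
def rL779 : List ℕ × List ℕ := ([5, 5, 4, 2, 1, 6], [4, 5, 5, 4, 2, 0])
def rL780 : List ℕ × List ℕ := ([5, 5, 4, 3, 1, 6], [4, 5, 5, 4, 3, 0])
def rL781 : List ℕ × List ℕ := ([6, 2, 2, 2, 4, 6], [2, 2, 2, 4, 5, 4])
def rL782 : List ℕ × List ℕ := ([4, 5, 4, 2, 4, 6], [6, 4, 2, 4, 5, 4])
def rL783 : List ℕ × List ℕ := ([4, 5, 4, 3, 4, 6], [6, 4, 3, 4, 5, 4])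
def rL784 : List ℕ × List ℕ := ([6, 2, 4, 5, 4, 6], [2, 0, 5, 4, 6, 0])
def rL785 : List ℕ × List ℕ := ([6, 3, 4, 5, 4, 6], [3, 0, 5, 4, 6, 0])
def rL786 : List ℕ × List ℕ := ([5, 0, 2, 4, 6, 6], [1, 2, 4, 6, 6, 4])
def rL787 : List ℕ × List ℕ := ([6, 1, 2, 4, 6, 6], [0, 2, 4, 6, 6, 4])
def rL788 : List ℕ × List ℕ := ([5, 5, 2, 4, 6, 6], [2, 4, 1, 5, 4, 0])
def rL789 : List ℕ × List ℕ := ([5, 0, 3, 4, 6, 6], [1, 3, 4, 6, 6, 4])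
def rL790 : List ℕ × List ℕ := ([6, 1, 3, 4, 6, 6], [0, 3, 4, 6, 6, 4])
def rL791 : List ℕ × List ℕ := ([5, 5, 3, 4, 6, 6], [3, 4, 1, 5, 4, 0])
def rL792 : List ℕ × List ℕ := ([1, 1, 3, 0, 2, 2, 0, 2, 0, 2, 4, 3, 1, 3, 1, 3, 3, 1, 2, 4], [])
def rL793 : List ℕ × List ℕ := ([2, 2, 2, 0, 2, 2, 1, 2, 2, 2, 0, 2, 2, 1, 2, 2, 2, 0, 2, 2, 1], [])
def rL794 : List ℕ × List ℕ := ([2, 2, 2, 0, 2, 0, 2, 2, 2, 0, 2, 0, 2, 2, 2, 0, 2, 0, 2, 2, 2, 0, 2, 0], [])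
def rL795 : List ℕ × List ℕ := ([0, 2, 0, 2, 0, 2, 2, 2, 4, 3, 3, 3, 1, 3, 1, 3, 0, 2, 0, 2, 0, 2, 2, 2, 4, 3, 3, 3, 1, 3, 1, 3, 0, 2, 0, 2, 0, 2, 2, 2, 4, 3, 3, 3, 1, 3, 1, 3, 4], [])
noncomputable def rT0 (i : Nat) : List ℕ × List ℕ := Bool.rec (rL1) (rL2) (Nat.ble 2 i)
noncomputable def rT1 (i : Nat) : List ℕ × List ℕ := Bool.rec (rL0) (rT0 i) (Nat.ble 1 i)
noncomputable def rT2 (i : Nat) : List ℕ × List ℕ := Bool.rec (rL4) (rL5) (Nat.ble 5 i)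
noncomputable def rT3 (i : Nat) : List ℕ × List ℕ := Bool.rec (rL3) (rT2 i) (Nat.ble 4 i)
noncomputable def rT4 (i : Nat) : List ℕ × List ℕ := Bool.rec (rT1 i) (rT3 i) (Nat.ble 3 i)
noncomputable def rT5 (i : Nat) : List ℕ × List ℕ := Bool.rec (rL7) (rL8) (Nat.ble 8 i)
noncomputable def rT6 (i : Nat) : List ℕ × List ℕ := Bool.rec (rL6) (rT5 i) (Nat.ble 7 i)
noncomputable def rT7 (i : Nat) : List ℕ × List ℕ := Bool.rec (rL10) (rL11) (Nat.ble 11 i)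
noncomputable def rT8 (i : Nat) : List ℕ × List ℕ := Bool.rec (rL9) (rT7 i) (Nat.ble 10 i)
noncomputable def rT9 (i : Nat) : List ℕ × List ℕ := Bool.rec (rT6 i) (rT8 i) (Nat.ble 9 i)
noncomputable def rT10 (i : Nat) : List ℕ × List ℕ := Bool.rec (rT4 i) (rT9 i) (Nat.ble 6 i)
noncomputable def rT11 (i : Nat) : List ℕ × List ℕ := Bool.rec (rL13) (rL14) (Nat.ble 14 i)
noncomputable def rT12 (i : Nat) : List ℕ × List ℕ := Bool.rec (rL12) (rT11 i) (Nat.ble 13 i)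
noncomputable def rT13 (i : Nat) : List ℕ × List ℕ := Bool.rec (rL16) (rL17) (Nat.ble 17 i)
noncomputable def rT14 (i : Nat) : List ℕ × List ℕ := Bool.rec (rL15) (rT13 i) (Nat.ble 16 i)
noncomputable def rT15 (i : Nat) : List ℕ × List ℕ := Bool.rec (rT12 i) (rT14 i) (Nat.ble 15 i)
noncomputable def rT16 (i : Nat) : List ℕ × List ℕ := Bool.rec (rL19) (rL20) (Nat.ble 20 i)
noncomputable def rT17 (i : Nat) : List ℕ × List ℕ := Bool.rec (rL18) (rT16 i) (Nat.ble 19 i)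
noncomputable def rT18 (i : Nat) : List ℕ × List ℕ := Bool.rec (rL22) (rL23) (Nat.ble 23 i)
noncomputable def rT19 (i : Nat) : List ℕ × List ℕ := Bool.rec (rL21) (rT18 i) (Nat.ble 22 i)
noncomputable def rT20 (i : Nat) : List ℕ × List ℕ := Bool.rec (rT17 i) (rT19 i) (Nat.ble 21 i)
noncomputable def rT21 (i : Nat) : List ℕ × List ℕ := Bool.rec (rT15 i) (rT20 i) (Nat.ble 18 i)
noncomputable def rT22 (i : Nat) : List ℕ × List ℕ := Bool.rec (rT10 i) (rT21 i) (Nat.ble 12 i)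
noncomputable def rT23 (i : Nat) : List ℕ × List ℕ := Bool.rec (rL25) (rL26) (Nat.ble 26 i)
noncomputable def rT24 (i : Nat) : List ℕ × List ℕ := Bool.rec (rL24) (rT23 i) (Nat.ble 25 i)
noncomputable def rT25 (i : Nat) : List ℕ × List ℕ := Bool.rec (rL28) (rL29) (Nat.ble 29 i)
noncomputable def rT26 (i : Nat) : List ℕ × List ℕ := Bool.rec (rL27) (rT25 i) (Nat.ble 28 i)
noncomputable def rT27 (i : Nat) : List ℕ × List ℕ := Bool.rec (rT24 i) (rT26 i) (Nat.ble 27 i)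
noncomputable def rT28 (i : Nat) : List ℕ × List ℕ := Bool.rec (rL31) (rL32) (Nat.ble 32 i)
noncomputable def rT29 (i : Nat) : List ℕ × List ℕ := Bool.rec (rL30) (rT28 i) (Nat.ble 31 i)
noncomputable def rT30 (i : Nat) : List ℕ × List ℕ := Bool.rec (rL34) (rL35) (Nat.ble 35 i)
noncomputable def rT31 (i : Nat) : List ℕ × List ℕ := Bool.rec (rL33) (rT30 i) (Nat.ble 34 i)
noncomputable def rT32 (i : Nat) : List ℕ × List ℕ := Bool.rec (rT29 i) (rT31 i) (Nat.ble 33 i)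
noncomputable def rT33 (i : Nat) : List ℕ × List ℕ := Bool.rec (rT27 i) (rT32 i) (Nat.ble 30 i)
noncomputable def rT34 (i : Nat) : List ℕ × List ℕ := Bool.rec (rL37) (rL38) (Nat.ble 38 i)
noncomputable def rT35 (i : Nat) : List ℕ × List ℕ := Bool.rec (rL36) (rT34 i) (Nat.ble 37 i)
noncomputable def rT36 (i : Nat) : List ℕ × List ℕ := Bool.rec (rL40) (rL41) (Nat.ble 41 i)
noncomputable def rT37 (i : Nat) : List ℕ × List ℕ := Bool.rec (rL39) (rT36 i) (Nat.ble 40 i)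
noncomputable def rT38 (i : Nat) : List ℕ × List ℕ := Bool.rec (rT35 i) (rT37 i) (Nat.ble 39 i)
noncomputable def rT39 (i : Nat) : List ℕ × List ℕ := Bool.rec (rL43) (rL44) (Nat.ble 44 i)
noncomputable def rT40 (i : Nat) : List ℕ × List ℕ := Bool.rec (rL42) (rT39 i) (Nat.ble 43 i)
noncomputable def rT41 (i : Nat) : List ℕ × List ℕ := Bool.rec (rL45) (rL46) (Nat.ble 46 i)
noncomputable def rT42 (i : Nat) : List ℕ × List ℕ := Bool.rec (rL47) (rL48) (Nat.ble 48 i)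
noncomputable def rT43 (i : Nat) : List ℕ × List ℕ := Bool.rec (rT41 i) (rT42 i) (Nat.ble 47 i)
noncomputable def rT44 (i : Nat) : List ℕ × List ℕ := Bool.rec (rT40 i) (rT43 i) (Nat.ble 45 i)
noncomputable def rT45 (i : Nat) : List ℕ × List ℕ := Bool.rec (rT38 i) (rT44 i) (Nat.ble 42 i)
noncomputable def rT46 (i : Nat) : List ℕ × List ℕ := Bool.rec (rT33 i) (rT45 i) (Nat.ble 36 i)
noncomputable def rT47 (i : Nat) : List ℕ × List ℕ := Bool.rec (rT22 i) (rT46 i) (Nat.ble 24 i)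
noncomputable def rT48 (i : Nat) : List ℕ × List ℕ := Bool.rec (rL50) (rL51) (Nat.ble 51 i)
noncomputable def rT49 (i : Nat) : List ℕ × List ℕ := Bool.rec (rL49) (rT48 i) (Nat.ble 50 i)
noncomputable def rT50 (i : Nat) : List ℕ × List ℕ := Bool.rec (rL53) (rL54) (Nat.ble 54 i)
noncomputable def rT51 (i : Nat) : List ℕ × List ℕ := Bool.rec (rL52) (rT50 i) (Nat.ble 53 i)
noncomputable def rT52 (i : Nat) : List ℕ × List ℕ := Bool.rec (rT49 i) (rT51 i) (Nat.ble 52 i)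
noncomputable def rT53 (i : Nat) : List ℕ × List ℕ := Bool.rec (rL56) (rL57) (Nat.ble 57 i)
noncomputable def rT54 (i : Nat) : List ℕ × List ℕ := Bool.rec (rL55) (rT53 i) (Nat.ble 56 i)
noncomputable def rT55 (i : Nat) : List ℕ × List ℕ := Bool.rec (rL59) (rL60) (Nat.ble 60 i)
noncomputable def rT56 (i : Nat) : List ℕ × List ℕ := Bool.rec (rL58) (rT55 i) (Nat.ble 59 i)
noncomputable def rT57 (i : Nat) : List ℕ × List ℕ := Bool.rec (rT54 i) (rT56 i) (Nat.ble 58 i)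
noncomputable def rT58 (i : Nat) : List ℕ × List ℕ := Bool.rec (rT52 i) (rT57 i) (Nat.ble 55 i)
noncomputable def rT59 (i : Nat) : List ℕ × List ℕ := Bool.rec (rL62) (rL63) (Nat.ble 63 i)
noncomputable def rT60 (i : Nat) : List ℕ × List ℕ := Bool.rec (rL61) (rT59 i) (Nat.ble 62 i)
noncomputable def rT61 (i : Nat) : List ℕ × List ℕ := Bool.rec (rL65) (rL66) (Nat.ble 66 i)
noncomputable def rT62 (i : Nat) : List ℕ × List ℕ := Bool.rec (rL64) (rT61 i) (Nat.ble 65 i)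
noncomputable def rT63 (i : Nat) : List ℕ × List ℕ := Bool.rec (rT60 i) (rT62 i) (Nat.ble 64 i)
noncomputable def rT64 (i : Nat) : List ℕ × List ℕ := Bool.rec (rL68) (rL69) (Nat.ble 69 i)
noncomputable def rT65 (i : Nat) : List ℕ × List ℕ := Bool.rec (rL67) (rT64 i) (Nat.ble 68 i)
noncomputable def rT66 (i : Nat) : List ℕ × List ℕ := Bool.rec (rL70) (rL71) (Nat.ble 71 i)
noncomputable def rT67 (i : Nat) : List ℕ × List ℕ := Bool.rec (rL72) (rL73) (Nat.ble 73 i)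
noncomputable def rT68 (i : Nat) : List ℕ × List ℕ := Bool.rec (rT66 i) (rT67 i) (Nat.ble 72 i)
noncomputable def rT69 (i : Nat) : List ℕ × List ℕ := Bool.rec (rT65 i) (rT68 i) (Nat.ble 70 i)
noncomputable def rT70 (i : Nat) : List ℕ × List ℕ := Bool.rec (rT63 i) (rT69 i) (Nat.ble 67 i)
noncomputable def rT71 (i : Nat) : List ℕ × List ℕ := Bool.rec (rT58 i) (rT70 i) (Nat.ble 61 i)
noncomputable def rT72 (i : Nat) : List ℕ × List ℕ := Bool.rec (rL75) (rL76) (Nat.ble 76 i)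
noncomputable def rT73 (i : Nat) : List ℕ × List ℕ := Bool.rec (rL74) (rT72 i) (Nat.ble 75 i)
noncomputable def rT74 (i : Nat) : List ℕ × List ℕ := Bool.rec (rL78) (rL79) (Nat.ble 79 i)
noncomputable def rT75 (i : Nat) : List ℕ × List ℕ := Bool.rec (rL77) (rT74 i) (Nat.ble 78 i)
noncomputable def rT76 (i : Nat) : List ℕ × List ℕ := Bool.rec (rT73 i) (rT75 i) (Nat.ble 77 i)
noncomputable def rT77 (i : Nat) : List ℕ × List ℕ := Bool.rec (rL81) (rL82) (Nat.ble 82 i)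
noncomputable def rT78 (i : Nat) : List ℕ × List ℕ := Bool.rec (rL80) (rT77 i) (Nat.ble 81 i)
noncomputable def rT79 (i : Nat) : List ℕ × List ℕ := Bool.rec (rL84) (rL85) (Nat.ble 85 i)
noncomputable def rT80 (i : Nat) : List ℕ × List ℕ := Bool.rec (rL83) (rT79 i) (Nat.ble 84 i)
noncomputable def rT81 (i : Nat) : List ℕ × List ℕ := Bool.rec (rT78 i) (rT80 i) (Nat.ble 83 i)
noncomputable def rT82 (i : Nat) : List ℕ × List ℕ := Bool.rec (rT76 i) (rT81 i) (Nat.ble 80 i)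
noncomputable def rT83 (i : Nat) : List ℕ × List ℕ := Bool.rec (rL87) (rL88) (Nat.ble 88 i)
noncomputable def rT84 (i : Nat) : List ℕ × List ℕ := Bool.rec (rL86) (rT83 i) (Nat.ble 87 i)
noncomputable def rT85 (i : Nat) : List ℕ × List ℕ := Bool.rec (rL90) (rL91) (Nat.ble 91 i)
noncomputable def rT86 (i : Nat) : List ℕ × List ℕ := Bool.rec (rL89) (rT85 i) (Nat.ble 90 i)
noncomputable def rT87 (i : Nat) : List ℕ × List ℕ := Bool.rec (rT84 i) (rT86 i) (Nat.ble 89 i)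
noncomputable def rT88 (i : Nat) : List ℕ × List ℕ := Bool.rec (rL93) (rL94) (Nat.ble 94 i)
noncomputable def rT89 (i : Nat) : List ℕ × List ℕ := Bool.rec (rL92) (rT88 i) (Nat.ble 93 i)
noncomputable def rT90 (i : Nat) : List ℕ × List ℕ := Bool.rec (rL95) (rL96) (Nat.ble 96 i)
noncomputable def rT91 (i : Nat) : List ℕ × List ℕ := Bool.rec (rL97) (rL98) (Nat.ble 98 i)
noncomputable def rT92 (i : Nat) : List ℕ × List ℕ := Bool.rec (rT90 i) (rT91 i) (Nat.ble 97 i)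
noncomputable def rT93 (i : Nat) : List ℕ × List ℕ := Bool.rec (rT89 i) (rT92 i) (Nat.ble 95 i)
noncomputable def rT94 (i : Nat) : List ℕ × List ℕ := Bool.rec (rT87 i) (rT93 i) (Nat.ble 92 i)
noncomputable def rT95 (i : Nat) : List ℕ × List ℕ := Bool.rec (rT82 i) (rT94 i) (Nat.ble 86 i)
noncomputable def rT96 (i : Nat) : List ℕ × List ℕ := Bool.rec (rT71 i) (rT95 i) (Nat.ble 74 i)
noncomputable def rT97 (i : Nat) : List ℕ × List ℕ := Bool.rec (rT47 i) (rT96 i) (Nat.ble 49 i)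
noncomputable def rT98 (i : Nat) : List ℕ × List ℕ := Bool.rec (rL100) (rL101) (Nat.ble 101 i)
noncomputable def rT99 (i : Nat) : List ℕ × List ℕ := Bool.rec (rL99) (rT98 i) (Nat.ble 100 i)
noncomputable def rT100 (i : Nat) : List ℕ × List ℕ := Bool.rec (rL103) (rL104) (Nat.ble 104 i)
noncomputable def rT101 (i : Nat) : List ℕ × List ℕ := Bool.rec (rL102) (rT100 i) (Nat.ble 103 i)
noncomputable def rT102 (i : Nat) : List ℕ × List ℕ := Bool.rec (rT99 i) (rT101 i) (Nat.ble 102 i)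
noncomputable def rT103 (i : Nat) : List ℕ × List ℕ := Bool.rec (rL106) (rL107) (Nat.ble 107 i)
noncomputable def rT104 (i : Nat) : List ℕ × List ℕ := Bool.rec (rL105) (rT103 i) (Nat.ble 106 i)
noncomputable def rT105 (i : Nat) : List ℕ × List ℕ := Bool.rec (rL109) (rL110) (Nat.ble 110 i)
noncomputable def rT106 (i : Nat) : List ℕ × List ℕ := Bool.rec (rL108) (rT105 i) (Nat.ble 109 i)
noncomputable def rT107 (i : Nat) : List ℕ × List ℕ := Bool.rec (rT104 i) (rT106 i) (Nat.ble 108 i)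
noncomputable def rT108 (i : Nat) : List ℕ × List ℕ := Bool.rec (rT102 i) (rT107 i) (Nat.ble 105 i)
noncomputable def rT109 (i : Nat) : List ℕ × List ℕ := Bool.rec (rL112) (rL113) (Nat.ble 113 i)
noncomputable def rT110 (i : Nat) : List ℕ × List ℕ := Bool.rec (rL111) (rT109 i) (Nat.ble 112 i)
noncomputable def rT111 (i : Nat) : List ℕ × List ℕ := Bool.rec (rL115) (rL116) (Nat.ble 116 i)
noncomputable def rT112 (i : Nat) : List ℕ × List ℕ := Bool.rec (rL114) (rT111 i) (Nat.ble 115 i)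
noncomputable def rT113 (i : Nat) : List ℕ × List ℕ := Bool.rec (rT110 i) (rT112 i) (Nat.ble 114 i)
noncomputable def rT114 (i : Nat) : List ℕ × List ℕ := Bool.rec (rL118) (rL119) (Nat.ble 119 i)
noncomputable def rT115 (i : Nat) : List ℕ × List ℕ := Bool.rec (rL117) (rT114 i) (Nat.ble 118 i)
noncomputable def rT116 (i : Nat) : List ℕ × List ℕ := Bool.rec (rL120) (rL121) (Nat.ble 121 i)
noncomputable def rT117 (i : Nat) : List ℕ × List ℕ := Bool.rec (rL122) (rL123) (Nat.ble 123 i)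
noncomputable def rT118 (i : Nat) : List ℕ × List ℕ := Bool.rec (rT116 i) (rT117 i) (Nat.ble 122 i)
noncomputable def rT119 (i : Nat) : List ℕ × List ℕ := Bool.rec (rT115 i) (rT118 i) (Nat.ble 120 i)
noncomputable def rT120 (i : Nat) : List ℕ × List ℕ := Bool.rec (rT113 i) (rT119 i) (Nat.ble 117 i)
noncomputable def rT121 (i : Nat) : List ℕ × List ℕ := Bool.rec (rT108 i) (rT120 i) (Nat.ble 111 i)
noncomputable def rT122 (i : Nat) : List ℕ × List ℕ := Bool.rec (rL125) (rL126) (Nat.ble 126 i)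
noncomputable def rT123 (i : Nat) : List ℕ × List ℕ := Bool.rec (rL124) (rT122 i) (Nat.ble 125 i)
noncomputable def rT124 (i : Nat) : List ℕ × List ℕ := Bool.rec (rL128) (rL129) (Nat.ble 129 i)
noncomputable def rT125 (i : Nat) : List ℕ × List ℕ := Bool.rec (rL127) (rT124 i) (Nat.ble 128 i)
noncomputable def rT126 (i : Nat) : List ℕ × List ℕ := Bool.rec (rT123 i) (rT125 i) (Nat.ble 127 i)
noncomputable def rT127 (i : Nat) : List ℕ × List ℕ := Bool.rec (rL131) (rL132) (Nat.ble 132 i)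
noncomputable def rT128 (i : Nat) : List ℕ × List ℕ := Bool.rec (rL130) (rT127 i) (Nat.ble 131 i)
noncomputable def rT129 (i : Nat) : List ℕ × List ℕ := Bool.rec (rL134) (rL135) (Nat.ble 135 i)
noncomputable def rT130 (i : Nat) : List ℕ × List ℕ := Bool.rec (rL133) (rT129 i) (Nat.ble 134 i)
noncomputable def rT131 (i : Nat) : List ℕ × List ℕ := Bool.rec (rT128 i) (rT130 i) (Nat.ble 133 i)
noncomputable def rT132 (i : Nat) : List ℕ × List ℕ := Bool.rec (rT126 i) (rT131 i) (Nat.ble 130 i)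
noncomputable def rT133 (i : Nat) : List ℕ × List ℕ := Bool.rec (rL137) (rL138) (Nat.ble 138 i)
noncomputable def rT134 (i : Nat) : List ℕ × List ℕ := Bool.rec (rL136) (rT133 i) (Nat.ble 137 i)
noncomputable def rT135 (i : Nat) : List ℕ × List ℕ := Bool.rec (rL140) (rL141) (Nat.ble 141 i)
noncomputable def rT136 (i : Nat) : List ℕ × List ℕ := Bool.rec (rL139) (rT135 i) (Nat.ble 140 i)
noncomputable def rT137 (i : Nat) : List ℕ × List ℕ := Bool.rec (rT134 i) (rT136 i) (Nat.ble 139 i)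
noncomputable def rT138 (i : Nat) : List ℕ × List ℕ := Bool.rec (rL143) (rL144) (Nat.ble 144 i)
noncomputable def rT139 (i : Nat) : List ℕ × List ℕ := Bool.rec (rL142) (rT138 i) (Nat.ble 143 i)
noncomputable def rT140 (i : Nat) : List ℕ × List ℕ := Bool.rec (rL145) (rL146) (Nat.ble 146 i)
noncomputable def rT141 (i : Nat) : List ℕ × List ℕ := Bool.rec (rL147) (rL148) (Nat.ble 148 i)
noncomputable def rT142 (i : Nat) : List ℕ × List ℕ := Bool.rec (rT140 i) (rT141 i) (Nat.ble 147 i)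
noncomputable def rT143 (i : Nat) : List ℕ × List ℕ := Bool.rec (rT139 i) (rT142 i) (Nat.ble 145 i)
noncomputable def rT144 (i : Nat) : List ℕ × List ℕ := Bool.rec (rT137 i) (rT143 i) (Nat.ble 142 i)
noncomputable def rT145 (i : Nat) : List ℕ × List ℕ := Bool.rec (rT132 i) (rT144 i) (Nat.ble 136 i)
noncomputable def rT146 (i : Nat) : List ℕ × List ℕ := Bool.rec (rT121 i) (rT145 i) (Nat.ble 124 i)
noncomputable def rT147 (i : Nat) : List ℕ × List ℕ := Bool.rec (rL150) (rL151) (Nat.ble 151 i)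
noncomputable def rT148 (i : Nat) : List ℕ × List ℕ := Bool.rec (rL149) (rT147 i) (Nat.ble 150 i)
noncomputable def rT149 (i : Nat) : List ℕ × List ℕ := Bool.rec (rL153) (rL154) (Nat.ble 154 i)
noncomputable def rT150 (i : Nat) : List ℕ × List ℕ := Bool.rec (rL152) (rT149 i) (Nat.ble 153 i)
noncomputable def rT151 (i : Nat) : List ℕ × List ℕ := Bool.rec (rT148 i) (rT150 i) (Nat.ble 152 i)
noncomputable def rT152 (i : Nat) : List ℕ × List ℕ := Bool.rec (rL156) (rL157) (Nat.ble 157 i)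
noncomputable def rT153 (i : Nat) : List ℕ × List ℕ := Bool.rec (rL155) (rT152 i) (Nat.ble 156 i)
noncomputable def rT154 (i : Nat) : List ℕ × List ℕ := Bool.rec (rL159) (rL160) (Nat.ble 160 i)
noncomputable def rT155 (i : Nat) : List ℕ × List ℕ := Bool.rec (rL158) (rT154 i) (Nat.ble 159 i)
noncomputable def rT156 (i : Nat) : List ℕ × List ℕ := Bool.rec (rT153 i) (rT155 i) (Nat.ble 158 i)
noncomputable def rT157 (i : Nat) : List ℕ × List ℕ := Bool.rec (rT151 i) (rT156 i) (Nat.ble 155 i)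
noncomputable def rT158 (i : Nat) : List ℕ × List ℕ := Bool.rec (rL162) (rL163) (Nat.ble 163 i)
noncomputable def rT159 (i : Nat) : List ℕ × List ℕ := Bool.rec (rL161) (rT158 i) (Nat.ble 162 i)
noncomputable def rT160 (i : Nat) : List ℕ × List ℕ := Bool.rec (rL165) (rL166) (Nat.ble 166 i)
noncomputable def rT161 (i : Nat) : List ℕ × List ℕ := Bool.rec (rL164) (rT160 i) (Nat.ble 165 i)
noncomputable def rT162 (i : Nat) : List ℕ × List ℕ := Bool.rec (rT159 i) (rT161 i) (Nat.ble 164 i)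
noncomputable def rT163 (i : Nat) : List ℕ × List ℕ := Bool.rec (rL168) (rL169) (Nat.ble 169 i)
noncomputable def rT164 (i : Nat) : List ℕ × List ℕ := Bool.rec (rL167) (rT163 i) (Nat.ble 168 i)
noncomputable def rT165 (i : Nat) : List ℕ × List ℕ := Bool.rec (rL170) (rL171) (Nat.ble 171 i)
noncomputable def rT166 (i : Nat) : List ℕ × List ℕ := Bool.rec (rL172) (rL173) (Nat.ble 173 i)
noncomputable def rT167 (i : Nat) : List ℕ × List ℕ := Bool.rec (rT165 i) (rT166 i) (Nat.ble 172 i)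
noncomputable def rT168 (i : Nat) : List ℕ × List ℕ := Bool.rec (rT164 i) (rT167 i) (Nat.ble 170 i)
noncomputable def rT169 (i : Nat) : List ℕ × List ℕ := Bool.rec (rT162 i) (rT168 i) (Nat.ble 167 i)
noncomputable def rT170 (i : Nat) : List ℕ × List ℕ := Bool.rec (rT157 i) (rT169 i) (Nat.ble 161 i)
noncomputable def rT171 (i : Nat) : List ℕ × List ℕ := Bool.rec (rL175) (rL176) (Nat.ble 176 i)
noncomputable def rT172 (i : Nat) : List ℕ × List ℕ := Bool.rec (rL174) (rT171 i) (Nat.ble 175 i)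
noncomputable def rT173 (i : Nat) : List ℕ × List ℕ := Bool.rec (rL178) (rL179) (Nat.ble 179 i)
noncomputable def rT174 (i : Nat) : List ℕ × List ℕ := Bool.rec (rL177) (rT173 i) (Nat.ble 178 i)
noncomputable def rT175 (i : Nat) : List ℕ × List ℕ := Bool.rec (rT172 i) (rT174 i) (Nat.ble 177 i)
noncomputable def rT176 (i : Nat) : List ℕ × List ℕ := Bool.rec (rL181) (rL182) (Nat.ble 182 i)
noncomputable def rT177 (i : Nat) : List ℕ × List ℕ := Bool.rec (rL180) (rT176 i) (Nat.ble 181 i)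
noncomputable def rT178 (i : Nat) : List ℕ × List ℕ := Bool.rec (rL184) (rL185) (Nat.ble 185 i)
noncomputable def rT179 (i : Nat) : List ℕ × List ℕ := Bool.rec (rL183) (rT178 i) (Nat.ble 184 i)
noncomputable def rT180 (i : Nat) : List ℕ × List ℕ := Bool.rec (rT177 i) (rT179 i) (Nat.ble 183 i)
noncomputable def rT181 (i : Nat) : List ℕ × List ℕ := Bool.rec (rT175 i) (rT180 i) (Nat.ble 180 i)
noncomputable def rT182 (i : Nat) : List ℕ × List ℕ := Bool.rec (rL187) (rL188) (Nat.ble 188 i)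
noncomputable def rT183 (i : Nat) : List ℕ × List ℕ := Bool.rec (rL186) (rT182 i) (Nat.ble 187 i)
noncomputable def rT184 (i : Nat) : List ℕ × List ℕ := Bool.rec (rL190) (rL191) (Nat.ble 191 i)
noncomputable def rT185 (i : Nat) : List ℕ × List ℕ := Bool.rec (rL189) (rT184 i) (Nat.ble 190 i)
noncomputable def rT186 (i : Nat) : List ℕ × List ℕ := Bool.rec (rT183 i) (rT185 i) (Nat.ble 189 i)
noncomputable def rT187 (i : Nat) : List ℕ × List ℕ := Bool.rec (rL193) (rL194) (Nat.ble 194 i)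
noncomputable def rT188 (i : Nat) : List ℕ × List ℕ := Bool.rec (rL192) (rT187 i) (Nat.ble 193 i)
noncomputable def rT189 (i : Nat) : List ℕ × List ℕ := Bool.rec (rL195) (rL196) (Nat.ble 196 i)
noncomputable def rT190 (i : Nat) : List ℕ × List ℕ := Bool.rec (rL197) (rL198) (Nat.ble 198 i)
noncomputable def rT191 (i : Nat) : List ℕ × List ℕ := Bool.rec (rT189 i) (rT190 i) (Nat.ble 197 i)
noncomputable def rT192 (i : Nat) : List ℕ × List ℕ := Bool.rec (rT188 i) (rT191 i) (Nat.ble 195 i)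
noncomputable def rT193 (i : Nat) : List ℕ × List ℕ := Bool.rec (rT186 i) (rT192 i) (Nat.ble 192 i)
noncomputable def rT194 (i : Nat) : List ℕ × List ℕ := Bool.rec (rT181 i) (rT193 i) (Nat.ble 186 i)
noncomputable def rT195 (i : Nat) : List ℕ × List ℕ := Bool.rec (rT170 i) (rT194 i) (Nat.ble 174 i)
noncomputable def rT196 (i : Nat) : List ℕ × List ℕ := Bool.rec (rT146 i) (rT195 i) (Nat.ble 149 i)
noncomputable def rT197 (i : Nat) : List ℕ × List ℕ := Bool.rec (rT97 i) (rT196 i) (Nat.ble 99 i)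
noncomputable def rT198 (i : Nat) : List ℕ × List ℕ := Bool.rec (rL200) (rL201) (Nat.ble 201 i)
noncomputable def rT199 (i : Nat) : List ℕ × List ℕ := Bool.rec (rL199) (rT198 i) (Nat.ble 200 i)
noncomputable def rT200 (i : Nat) : List ℕ × List ℕ := Bool.rec (rL203) (rL204) (Nat.ble 204 i)
noncomputable def rT201 (i : Nat) : List ℕ × List ℕ := Bool.rec (rL202) (rT200 i) (Nat.ble 203 i)
noncomputable def rT202 (i : Nat) : List ℕ × List ℕ := Bool.rec (rT199 i) (rT201 i) (Nat.ble 202 i)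
noncomputable def rT203 (i : Nat) : List ℕ × List ℕ := Bool.rec (rL206) (rL207) (Nat.ble 207 i)
noncomputable def rT204 (i : Nat) : List ℕ × List ℕ := Bool.rec (rL205) (rT203 i) (Nat.ble 206 i)
noncomputable def rT205 (i : Nat) : List ℕ × List ℕ := Bool.rec (rL209) (rL210) (Nat.ble 210 i)
noncomputable def rT206 (i : Nat) : List ℕ × List ℕ := Bool.rec (rL208) (rT205 i) (Nat.ble 209 i)
noncomputable def rT207 (i : Nat) : List ℕ × List ℕ := Bool.rec (rT204 i) (rT206 i) (Nat.ble 208 i)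
noncomputable def rT208 (i : Nat) : List ℕ × List ℕ := Bool.rec (rT202 i) (rT207 i) (Nat.ble 205 i)
noncomputable def rT209 (i : Nat) : List ℕ × List ℕ := Bool.rec (rL212) (rL213) (Nat.ble 213 i)
noncomputable def rT210 (i : Nat) : List ℕ × List ℕ := Bool.rec (rL211) (rT209 i) (Nat.ble 212 i)
noncomputable def rT211 (i : Nat) : List ℕ × List ℕ := Bool.rec (rL215) (rL216) (Nat.ble 216 i)
noncomputable def rT212 (i : Nat) : List ℕ × List ℕ := Bool.rec (rL214) (rT211 i) (Nat.ble 215 i)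
noncomputable def rT213 (i : Nat) : List ℕ × List ℕ := Bool.rec (rT210 i) (rT212 i) (Nat.ble 214 i)
noncomputable def rT214 (i : Nat) : List ℕ × List ℕ := Bool.rec (rL218) (rL219) (Nat.ble 219 i)
noncomputable def rT215 (i : Nat) : List ℕ × List ℕ := Bool.rec (rL217) (rT214 i) (Nat.ble 218 i)
noncomputable def rT216 (i : Nat) : List ℕ × List ℕ := Bool.rec (rL221) (rL222) (Nat.ble 222 i)
noncomputable def rT217 (i : Nat) : List ℕ × List ℕ := Bool.rec (rL220) (rT216 i) (Nat.ble 221 i)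
noncomputable def rT218 (i : Nat) : List ℕ × List ℕ := Bool.rec (rT215 i) (rT217 i) (Nat.ble 220 i)
noncomputable def rT219 (i : Nat) : List ℕ × List ℕ := Bool.rec (rT213 i) (rT218 i) (Nat.ble 217 i)
noncomputable def rT220 (i : Nat) : List ℕ × List ℕ := Bool.rec (rT208 i) (rT219 i) (Nat.ble 211 i)
noncomputable def rT221 (i : Nat) : List ℕ × List ℕ := Bool.rec (rL224) (rL225) (Nat.ble 225 i)
noncomputable def rT222 (i : Nat) : List ℕ × List ℕ := Bool.rec (rL223) (rT221 i) (Nat.ble 224 i)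
noncomputable def rT223 (i : Nat) : List ℕ × List ℕ := Bool.rec (rL227) (rL228) (Nat.ble 228 i)
noncomputable def rT224 (i : Nat) : List ℕ × List ℕ := Bool.rec (rL226) (rT223 i) (Nat.ble 227 i)
noncomputable def rT225 (i : Nat) : List ℕ × List ℕ := Bool.rec (rT222 i) (rT224 i) (Nat.ble 226 i)
noncomputable def rT226 (i : Nat) : List ℕ × List ℕ := Bool.rec (rL230) (rL231) (Nat.ble 231 i)
noncomputable def rT227 (i : Nat) : List ℕ × List ℕ := Bool.rec (rL229) (rT226 i) (Nat.ble 230 i)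
noncomputable def rT228 (i : Nat) : List ℕ × List ℕ := Bool.rec (rL233) (rL234) (Nat.ble 234 i)
noncomputable def rT229 (i : Nat) : List ℕ × List ℕ := Bool.rec (rL232) (rT228 i) (Nat.ble 233 i)
noncomputable def rT230 (i : Nat) : List ℕ × List ℕ := Bool.rec (rT227 i) (rT229 i) (Nat.ble 232 i)
noncomputable def rT231 (i : Nat) : List ℕ × List ℕ := Bool.rec (rT225 i) (rT230 i) (Nat.ble 229 i)
noncomputable def rT232 (i : Nat) : List ℕ × List ℕ := Bool.rec (rL236) (rL237) (Nat.ble 237 i)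
noncomputable def rT233 (i : Nat) : List ℕ × List ℕ := Bool.rec (rL235) (rT232 i) (Nat.ble 236 i)
noncomputable def rT234 (i : Nat) : List ℕ × List ℕ := Bool.rec (rL239) (rL240) (Nat.ble 240 i)
noncomputable def rT235 (i : Nat) : List ℕ × List ℕ := Bool.rec (rL238) (rT234 i) (Nat.ble 239 i)
noncomputable def rT236 (i : Nat) : List ℕ × List ℕ := Bool.rec (rT233 i) (rT235 i) (Nat.ble 238 i)
noncomputable def rT237 (i : Nat) : List ℕ × List ℕ := Bool.rec (rL242) (rL243) (Nat.ble 243 i)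
noncomputable def rT238 (i : Nat) : List ℕ × List ℕ := Bool.rec (rL241) (rT237 i) (Nat.ble 242 i)
noncomputable def rT239 (i : Nat) : List ℕ × List ℕ := Bool.rec (rL244) (rL245) (Nat.ble 245 i)
noncomputable def rT240 (i : Nat) : List ℕ × List ℕ := Bool.rec (rL246) (rL247) (Nat.ble 247 i)
noncomputable def rT241 (i : Nat) : List ℕ × List ℕ := Bool.rec (rT239 i) (rT240 i) (Nat.ble 246 i)
noncomputable def rT242 (i : Nat) : List ℕ × List ℕ := Bool.rec (rT238 i) (rT241 i) (Nat.ble 244 i)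
noncomputable def rT243 (i : Nat) : List ℕ × List ℕ := Bool.rec (rT236 i) (rT242 i) (Nat.ble 241 i)
noncomputable def rT244 (i : Nat) : List ℕ × List ℕ := Bool.rec (rT231 i) (rT243 i) (Nat.ble 235 i)
noncomputable def rT245 (i : Nat) : List ℕ × List ℕ := Bool.rec (rT220 i) (rT244 i) (Nat.ble 223 i)
noncomputable def rT246 (i : Nat) : List ℕ × List ℕ := Bool.rec (rL249) (rL250) (Nat.ble 250 i)
noncomputable def rT247 (i : Nat) : List ℕ × List ℕ := Bool.rec (rL248) (rT246 i) (Nat.ble 249 i)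
noncomputable def rT248 (i : Nat) : List ℕ × List ℕ := Bool.rec (rL252) (rL253) (Nat.ble 253 i)
noncomputable def rT249 (i : Nat) : List ℕ × List ℕ := Bool.rec (rL251) (rT248 i) (Nat.ble 252 i)
noncomputable def rT250 (i : Nat) : List ℕ × List ℕ := Bool.rec (rT247 i) (rT249 i) (Nat.ble 251 i)
noncomputable def rT251 (i : Nat) : List ℕ × List ℕ := Bool.rec (rL255) (rL256) (Nat.ble 256 i)
noncomputable def rT252 (i : Nat) : List ℕ × List ℕ := Bool.rec (rL254) (rT251 i) (Nat.ble 255 i)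
noncomputable def rT253 (i : Nat) : List ℕ × List ℕ := Bool.rec (rL258) (rL259) (Nat.ble 259 i)
noncomputable def rT254 (i : Nat) : List ℕ × List ℕ := Bool.rec (rL257) (rT253 i) (Nat.ble 258 i)
noncomputable def rT255 (i : Nat) : List ℕ × List ℕ := Bool.rec (rT252 i) (rT254 i) (Nat.ble 257 i)
noncomputable def rT256 (i : Nat) : List ℕ × List ℕ := Bool.rec (rT250 i) (rT255 i) (Nat.ble 254 i)
noncomputable def rT257 (i : Nat) : List ℕ × List ℕ := Bool.rec (rL261) (rL262) (Nat.ble 262 i)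
noncomputable def rT258 (i : Nat) : List ℕ × List ℕ := Bool.rec (rL260) (rT257 i) (Nat.ble 261 i)
noncomputable def rT259 (i : Nat) : List ℕ × List ℕ := Bool.rec (rL264) (rL265) (Nat.ble 265 i)
noncomputable def rT260 (i : Nat) : List ℕ × List ℕ := Bool.rec (rL263) (rT259 i) (Nat.ble 264 i)
noncomputable def rT261 (i : Nat) : List ℕ × List ℕ := Bool.rec (rT258 i) (rT260 i) (Nat.ble 263 i)
noncomputable def rT262 (i : Nat) : List ℕ × List ℕ := Bool.rec (rL267) (rL268) (Nat.ble 268 i)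
noncomputable def rT263 (i : Nat) : List ℕ × List ℕ := Bool.rec (rL266) (rT262 i) (Nat.ble 267 i)
noncomputable def rT264 (i : Nat) : List ℕ × List ℕ := Bool.rec (rL269) (rL270) (Nat.ble 270 i)
noncomputable def rT265 (i : Nat) : List ℕ × List ℕ := Bool.rec (rL271) (rL272) (Nat.ble 272 i)
noncomputable def rT266 (i : Nat) : List ℕ × List ℕ := Bool.rec (rT264 i) (rT265 i) (Nat.ble 271 i)
noncomputable def rT267 (i : Nat) : List ℕ × List ℕ := Bool.rec (rT263 i) (rT266 i) (Nat.ble 269 i)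
noncomputable def rT268 (i : Nat) : List ℕ × List ℕ := Bool.rec (rT261 i) (rT267 i) (Nat.ble 266 i)
noncomputable def rT269 (i : Nat) : List ℕ × List ℕ := Bool.rec (rT256 i) (rT268 i) (Nat.ble 260 i)
noncomputable def rT270 (i : Nat) : List ℕ × List ℕ := Bool.rec (rL274) (rL275) (Nat.ble 275 i)
noncomputable def rT271 (i : Nat) : List ℕ × List ℕ := Bool.rec (rL273) (rT270 i) (Nat.ble 274 i)
noncomputable def rT272 (i : Nat) : List ℕ × List ℕ := Bool.rec (rL277) (rL278) (Nat.ble 278 i)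
noncomputable def rT273 (i : Nat) : List ℕ × List ℕ := Bool.rec (rL276) (rT272 i) (Nat.ble 277 i)
noncomputable def rT274 (i : Nat) : List ℕ × List ℕ := Bool.rec (rT271 i) (rT273 i) (Nat.ble 276 i)
noncomputable def rT275 (i : Nat) : List ℕ × List ℕ := Bool.rec (rL280) (rL281) (Nat.ble 281 i)
noncomputable def rT276 (i : Nat) : List ℕ × List ℕ := Bool.rec (rL279) (rT275 i) (Nat.ble 280 i)
noncomputable def rT277 (i : Nat) : List ℕ × List ℕ := Bool.rec (rL283) (rL284) (Nat.ble 284 i)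
noncomputable def rT278 (i : Nat) : List ℕ × List ℕ := Bool.rec (rL282) (rT277 i) (Nat.ble 283 i)
noncomputable def rT279 (i : Nat) : List ℕ × List ℕ := Bool.rec (rT276 i) (rT278 i) (Nat.ble 282 i)
noncomputable def rT280 (i : Nat) : List ℕ × List ℕ := Bool.rec (rT274 i) (rT279 i) (Nat.ble 279 i)
noncomputable def rT281 (i : Nat) : List ℕ × List ℕ := Bool.rec (rL286) (rL287) (Nat.ble 287 i)
noncomputable def rT282 (i : Nat) : List ℕ × List ℕ := Bool.rec (rL285) (rT281 i) (Nat.ble 286 i)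
noncomputable def rT283 (i : Nat) : List ℕ × List ℕ := Bool.rec (rL289) (rL290) (Nat.ble 290 i)
noncomputable def rT284 (i : Nat) : List ℕ × List ℕ := Bool.rec (rL288) (rT283 i) (Nat.ble 289 i)
noncomputable def rT285 (i : Nat) : List ℕ × List ℕ := Bool.rec (rT282 i) (rT284 i) (Nat.ble 288 i)
noncomputable def rT286 (i : Nat) : List ℕ × List ℕ := Bool.rec (rL292) (rL293) (Nat.ble 293 i)
noncomputable def rT287 (i : Nat) : List ℕ × List ℕ := Bool.rec (rL291) (rT286 i) (Nat.ble 292 i)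
noncomputable def rT288 (i : Nat) : List ℕ × List ℕ := Bool.rec (rL294) (rL295) (Nat.ble 295 i)
noncomputable def rT289 (i : Nat) : List ℕ × List ℕ := Bool.rec (rL296) (rL297) (Nat.ble 297 i)
noncomputable def rT290 (i : Nat) : List ℕ × List ℕ := Bool.rec (rT288 i) (rT289 i) (Nat.ble 296 i)
noncomputable def rT291 (i : Nat) : List ℕ × List ℕ := Bool.rec (rT287 i) (rT290 i) (Nat.ble 294 i)
noncomputable def rT292 (i : Nat) : List ℕ × List ℕ := Bool.rec (rT285 i) (rT291 i) (Nat.ble 291 i)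
noncomputable def rT293 (i : Nat) : List ℕ × List ℕ := Bool.rec (rT280 i) (rT292 i) (Nat.ble 285 i)
noncomputable def rT294 (i : Nat) : List ℕ × List ℕ := Bool.rec (rT269 i) (rT293 i) (Nat.ble 273 i)
noncomputable def rT295 (i : Nat) : List ℕ × List ℕ := Bool.rec (rT245 i) (rT294 i) (Nat.ble 248 i)
noncomputable def rT296 (i : Nat) : List ℕ × List ℕ := Bool.rec (rL299) (rL300) (Nat.ble 300 i)
noncomputable def rT297 (i : Nat) : List ℕ × List ℕ := Bool.rec (rL298) (rT296 i) (Nat.ble 299 i)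
noncomputable def rT298 (i : Nat) : List ℕ × List ℕ := Bool.rec (rL302) (rL303) (Nat.ble 303 i)
noncomputable def rT299 (i : Nat) : List ℕ × List ℕ := Bool.rec (rL301) (rT298 i) (Nat.ble 302 i)
noncomputable def rT300 (i : Nat) : List ℕ × List ℕ := Bool.rec (rT297 i) (rT299 i) (Nat.ble 301 i)
noncomputable def rT301 (i : Nat) : List ℕ × List ℕ := Bool.rec (rL305) (rL306) (Nat.ble 306 i)
noncomputable def rT302 (i : Nat) : List ℕ × List ℕ := Bool.rec (rL304) (rT301 i) (Nat.ble 305 i)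
noncomputable def rT303 (i : Nat) : List ℕ × List ℕ := Bool.rec (rL308) (rL309) (Nat.ble 309 i)
noncomputable def rT304 (i : Nat) : List ℕ × List ℕ := Bool.rec (rL307) (rT303 i) (Nat.ble 308 i)
noncomputable def rT305 (i : Nat) : List ℕ × List ℕ := Bool.rec (rT302 i) (rT304 i) (Nat.ble 307 i)
noncomputable def rT306 (i : Nat) : List ℕ × List ℕ := Bool.rec (rT300 i) (rT305 i) (Nat.ble 304 i)
noncomputable def rT307 (i : Nat) : List ℕ × List ℕ := Bool.rec (rL311) (rL312) (Nat.ble 312 i)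
noncomputable def rT308 (i : Nat) : List ℕ × List ℕ := Bool.rec (rL310) (rT307 i) (Nat.ble 311 i)
noncomputable def rT309 (i : Nat) : List ℕ × List ℕ := Bool.rec (rL314) (rL315) (Nat.ble 315 i)
noncomputable def rT310 (i : Nat) : List ℕ × List ℕ := Bool.rec (rL313) (rT309 i) (Nat.ble 314 i)
noncomputable def rT311 (i : Nat) : List ℕ × List ℕ := Bool.rec (rT308 i) (rT310 i) (Nat.ble 313 i)
noncomputable def rT312 (i : Nat) : List ℕ × List ℕ := Bool.rec (rL317) (rL318) (Nat.ble 318 i)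
noncomputable def rT313 (i : Nat) : List ℕ × List ℕ := Bool.rec (rL316) (rT312 i) (Nat.ble 317 i)
noncomputable def rT314 (i : Nat) : List ℕ × List ℕ := Bool.rec (rL319) (rL320) (Nat.ble 320 i)
noncomputable def rT315 (i : Nat) : List ℕ × List ℕ := Bool.rec (rL321) (rL322) (Nat.ble 322 i)
noncomputable def rT316 (i : Nat) : List ℕ × List ℕ := Bool.rec (rT314 i) (rT315 i) (Nat.ble 321 i)
noncomputable def rT317 (i : Nat) : List ℕ × List ℕ := Bool.rec (rT313 i) (rT316 i) (Nat.ble 319 i)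
noncomputable def rT318 (i : Nat) : List ℕ × List ℕ := Bool.rec (rT311 i) (rT317 i) (Nat.ble 316 i)
noncomputable def rT319 (i : Nat) : List ℕ × List ℕ := Bool.rec (rT306 i) (rT318 i) (Nat.ble 310 i)
noncomputable def rT320 (i : Nat) : List ℕ × List ℕ := Bool.rec (rL324) (rL325) (Nat.ble 325 i)
noncomputable def rT321 (i : Nat) : List ℕ × List ℕ := Bool.rec (rL323) (rT320 i) (Nat.ble 324 i)
noncomputable def rT322 (i : Nat) : List ℕ × List ℕ := Bool.rec (rL327) (rL328) (Nat.ble 328 i)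
noncomputable def rT323 (i : Nat) : List ℕ × List ℕ := Bool.rec (rL326) (rT322 i) (Nat.ble 327 i)
noncomputable def rT324 (i : Nat) : List ℕ × List ℕ := Bool.rec (rT321 i) (rT323 i) (Nat.ble 326 i)
noncomputable def rT325 (i : Nat) : List ℕ × List ℕ := Bool.rec (rL330) (rL331) (Nat.ble 331 i)
noncomputable def rT326 (i : Nat) : List ℕ × List ℕ := Bool.rec (rL329) (rT325 i) (Nat.ble 330 i)
noncomputable def rT327 (i : Nat) : List ℕ × List ℕ := Bool.rec (rL333) (rL334) (Nat.ble 334 i)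
noncomputable def rT328 (i : Nat) : List ℕ × List ℕ := Bool.rec (rL332) (rT327 i) (Nat.ble 333 i)
noncomputable def rT329 (i : Nat) : List ℕ × List ℕ := Bool.rec (rT326 i) (rT328 i) (Nat.ble 332 i)
noncomputable def rT330 (i : Nat) : List ℕ × List ℕ := Bool.rec (rT324 i) (rT329 i) (Nat.ble 329 i)
noncomputable def rT331 (i : Nat) : List ℕ × List ℕ := Bool.rec (rL336) (rL337) (Nat.ble 337 i)
noncomputable def rT332 (i : Nat) : List ℕ × List ℕ := Bool.rec (rL335) (rT331 i) (Nat.ble 336 i)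
noncomputable def rT333 (i : Nat) : List ℕ × List ℕ := Bool.rec (rL339) (rL340) (Nat.ble 340 i)
noncomputable def rT334 (i : Nat) : List ℕ × List ℕ := Bool.rec (rL338) (rT333 i) (Nat.ble 339 i)
noncomputable def rT335 (i : Nat) : List ℕ × List ℕ := Bool.rec (rT332 i) (rT334 i) (Nat.ble 338 i)
noncomputable def rT336 (i : Nat) : List ℕ × List ℕ := Bool.rec (rL342) (rL343) (Nat.ble 343 i)
noncomputable def rT337 (i : Nat) : List ℕ × List ℕ := Bool.rec (rL341) (rT336 i) (Nat.ble 342 i)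
noncomputable def rT338 (i : Nat) : List ℕ × List ℕ := Bool.rec (rL344) (rL345) (Nat.ble 345 i)
noncomputable def rT339 (i : Nat) : List ℕ × List ℕ := Bool.rec (rL346) (rL347) (Nat.ble 347 i)
noncomputable def rT340 (i : Nat) : List ℕ × List ℕ := Bool.rec (rT338 i) (rT339 i) (Nat.ble 346 i)
noncomputable def rT341 (i : Nat) : List ℕ × List ℕ := Bool.rec (rT337 i) (rT340 i) (Nat.ble 344 i)
noncomputable def rT342 (i : Nat) : List ℕ × List ℕ := Bool.rec (rT335 i) (rT341 i) (Nat.ble 341 i)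
noncomputable def rT343 (i : Nat) : List ℕ × List ℕ := Bool.rec (rT330 i) (rT342 i) (Nat.ble 335 i)
noncomputable def rT344 (i : Nat) : List ℕ × List ℕ := Bool.rec (rT319 i) (rT343 i) (Nat.ble 323 i)
noncomputable def rT345 (i : Nat) : List ℕ × List ℕ := Bool.rec (rL349) (rL350) (Nat.ble 350 i)
noncomputable def rT346 (i : Nat) : List ℕ × List ℕ := Bool.rec (rL348) (rT345 i) (Nat.ble 349 i)
noncomputable def rT347 (i : Nat) : List ℕ × List ℕ := Bool.rec (rL352) (rL353) (Nat.ble 353 i)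
noncomputable def rT348 (i : Nat) : List ℕ × List ℕ := Bool.rec (rL351) (rT347 i) (Nat.ble 352 i)
noncomputable def rT349 (i : Nat) : List ℕ × List ℕ := Bool.rec (rT346 i) (rT348 i) (Nat.ble 351 i)
noncomputable def rT350 (i : Nat) : List ℕ × List ℕ := Bool.rec (rL355) (rL356) (Nat.ble 356 i)
noncomputable def rT351 (i : Nat) : List ℕ × List ℕ := Bool.rec (rL354) (rT350 i) (Nat.ble 355 i)
noncomputable def rT352 (i : Nat) : List ℕ × List ℕ := Bool.rec (rL358) (rL359) (Nat.ble 359 i)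
noncomputable def rT353 (i : Nat) : List ℕ × List ℕ := Bool.rec (rL357) (rT352 i) (Nat.ble 358 i)
noncomputable def rT354 (i : Nat) : List ℕ × List ℕ := Bool.rec (rT351 i) (rT353 i) (Nat.ble 357 i)
noncomputable def rT355 (i : Nat) : List ℕ × List ℕ := Bool.rec (rT349 i) (rT354 i) (Nat.ble 354 i)
noncomputable def rT356 (i : Nat) : List ℕ × List ℕ := Bool.rec (rL361) (rL362) (Nat.ble 362 i)
noncomputable def rT357 (i : Nat) : List ℕ × List ℕ := Bool.rec (rL360) (rT356 i) (Nat.ble 361 i)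
noncomputable def rT358 (i : Nat) : List ℕ × List ℕ := Bool.rec (rL364) (rL365) (Nat.ble 365 i)
noncomputable def rT359 (i : Nat) : List ℕ × List ℕ := Bool.rec (rL363) (rT358 i) (Nat.ble 364 i)
noncomputable def rT360 (i : Nat) : List ℕ × List ℕ := Bool.rec (rT357 i) (rT359 i) (Nat.ble 363 i)
noncomputable def rT361 (i : Nat) : List ℕ × List ℕ := Bool.rec (rL367) (rL368) (Nat.ble 368 i)
noncomputable def rT362 (i : Nat) : List ℕ × List ℕ := Bool.rec (rL366) (rT361 i) (Nat.ble 367 i)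
noncomputable def rT363 (i : Nat) : List ℕ × List ℕ := Bool.rec (rL369) (rL370) (Nat.ble 370 i)
noncomputable def rT364 (i : Nat) : List ℕ × List ℕ := Bool.rec (rL371) (rL372) (Nat.ble 372 i)
noncomputable def rT365 (i : Nat) : List ℕ × List ℕ := Bool.rec (rT363 i) (rT364 i) (Nat.ble 371 i)
noncomputable def rT366 (i : Nat) : List ℕ × List ℕ := Bool.rec (rT362 i) (rT365 i) (Nat.ble 369 i)
noncomputable def rT367 (i : Nat) : List ℕ × List ℕ := Bool.rec (rT360 i) (rT366 i) (Nat.ble 366 i)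
noncomputable def rT368 (i : Nat) : List ℕ × List ℕ := Bool.rec (rT355 i) (rT367 i) (Nat.ble 360 i)
noncomputable def rT369 (i : Nat) : List ℕ × List ℕ := Bool.rec (rL374) (rL375) (Nat.ble 375 i)
noncomputable def rT370 (i : Nat) : List ℕ × List ℕ := Bool.rec (rL373) (rT369 i) (Nat.ble 374 i)
noncomputable def rT371 (i : Nat) : List ℕ × List ℕ := Bool.rec (rL377) (rL378) (Nat.ble 378 i)
noncomputable def rT372 (i : Nat) : List ℕ × List ℕ := Bool.rec (rL376) (rT371 i) (Nat.ble 377 i)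
noncomputable def rT373 (i : Nat) : List ℕ × List ℕ := Bool.rec (rT370 i) (rT372 i) (Nat.ble 376 i)
noncomputable def rT374 (i : Nat) : List ℕ × List ℕ := Bool.rec (rL380) (rL381) (Nat.ble 381 i)
noncomputable def rT375 (i : Nat) : List ℕ × List ℕ := Bool.rec (rL379) (rT374 i) (Nat.ble 380 i)
noncomputable def rT376 (i : Nat) : List ℕ × List ℕ := Bool.rec (rL383) (rL384) (Nat.ble 384 i)
noncomputable def rT377 (i : Nat) : List ℕ × List ℕ := Bool.rec (rL382) (rT376 i) (Nat.ble 383 i)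
noncomputable def rT378 (i : Nat) : List ℕ × List ℕ := Bool.rec (rT375 i) (rT377 i) (Nat.ble 382 i)
noncomputable def rT379 (i : Nat) : List ℕ × List ℕ := Bool.rec (rT373 i) (rT378 i) (Nat.ble 379 i)
noncomputable def rT380 (i : Nat) : List ℕ × List ℕ := Bool.rec (rL386) (rL387) (Nat.ble 387 i)
noncomputable def rT381 (i : Nat) : List ℕ × List ℕ := Bool.rec (rL385) (rT380 i) (Nat.ble 386 i)
noncomputable def rT382 (i : Nat) : List ℕ × List ℕ := Bool.rec (rL389) (rL390) (Nat.ble 390 i)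
noncomputable def rT383 (i : Nat) : List ℕ × List ℕ := Bool.rec (rL388) (rT382 i) (Nat.ble 389 i)
noncomputable def rT384 (i : Nat) : List ℕ × List ℕ := Bool.rec (rT381 i) (rT383 i) (Nat.ble 388 i)
noncomputable def rT385 (i : Nat) : List ℕ × List ℕ := Bool.rec (rL392) (rL393) (Nat.ble 393 i)
noncomputable def rT386 (i : Nat) : List ℕ × List ℕ := Bool.rec (rL391) (rT385 i) (Nat.ble 392 i)
noncomputable def rT387 (i : Nat) : List ℕ × List ℕ := Bool.rec (rL394) (rL395) (Nat.ble 395 i)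
noncomputable def rT388 (i : Nat) : List ℕ × List ℕ := Bool.rec (rL396) (rL397) (Nat.ble 397 i)
noncomputable def rT389 (i : Nat) : List ℕ × List ℕ := Bool.rec (rT387 i) (rT388 i) (Nat.ble 396 i)
noncomputable def rT390 (i : Nat) : List ℕ × List ℕ := Bool.rec (rT386 i) (rT389 i) (Nat.ble 394 i)
noncomputable def rT391 (i : Nat) : List ℕ × List ℕ := Bool.rec (rT384 i) (rT390 i) (Nat.ble 391 i)
noncomputable def rT392 (i : Nat) : List ℕ × List ℕ := Bool.rec (rT379 i) (rT391 i) (Nat.ble 385 i)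
noncomputable def rT393 (i : Nat) : List ℕ × List ℕ := Bool.rec (rT368 i) (rT392 i) (Nat.ble 373 i)
noncomputable def rT394 (i : Nat) : List ℕ × List ℕ := Bool.rec (rT344 i) (rT393 i) (Nat.ble 348 i)
noncomputable def rT395 (i : Nat) : List ℕ × List ℕ := Bool.rec (rT295 i) (rT394 i) (Nat.ble 298 i)
noncomputable def rT396 (i : Nat) : List ℕ × List ℕ := Bool.rec (rT197 i) (rT395 i) (Nat.ble 199 i)
noncomputable def rT397 (i : Nat) : List ℕ × List ℕ := Bool.rec (rL399) (rL400) (Nat.ble 400 i)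
noncomputable def rT398 (i : Nat) : List ℕ × List ℕ := Bool.rec (rL398) (rT397 i) (Nat.ble 399 i)
noncomputable def rT399 (i : Nat) : List ℕ × List ℕ := Bool.rec (rL402) (rL403) (Nat.ble 403 i)
noncomputable def rT400 (i : Nat) : List ℕ × List ℕ := Bool.rec (rL401) (rT399 i) (Nat.ble 402 i)
noncomputable def rT401 (i : Nat) : List ℕ × List ℕ := Bool.rec (rT398 i) (rT400 i) (Nat.ble 401 i)
noncomputable def rT402 (i : Nat) : List ℕ × List ℕ := Bool.rec (rL405) (rL406) (Nat.ble 406 i)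
noncomputable def rT403 (i : Nat) : List ℕ × List ℕ := Bool.rec (rL404) (rT402 i) (Nat.ble 405 i)
noncomputable def rT404 (i : Nat) : List ℕ × List ℕ := Bool.rec (rL408) (rL409) (Nat.ble 409 i)
noncomputable def rT405 (i : Nat) : List ℕ × List ℕ := Bool.rec (rL407) (rT404 i) (Nat.ble 408 i)
noncomputable def rT406 (i : Nat) : List ℕ × List ℕ := Bool.rec (rT403 i) (rT405 i) (Nat.ble 407 i)
noncomputable def rT407 (i : Nat) : List ℕ × List ℕ := Bool.rec (rT401 i) (rT406 i) (Nat.ble 404 i)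
noncomputable def rT408 (i : Nat) : List ℕ × List ℕ := Bool.rec (rL411) (rL412) (Nat.ble 412 i)
noncomputable def rT409 (i : Nat) : List ℕ × List ℕ := Bool.rec (rL410) (rT408 i) (Nat.ble 411 i)
noncomputable def rT410 (i : Nat) : List ℕ × List ℕ := Bool.rec (rL414) (rL415) (Nat.ble 415 i)
noncomputable def rT411 (i : Nat) : List ℕ × List ℕ := Bool.rec (rL413) (rT410 i) (Nat.ble 414 i)
noncomputable def rT412 (i : Nat) : List ℕ × List ℕ := Bool.rec (rT409 i) (rT411 i) (Nat.ble 413 i)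
noncomputable def rT413 (i : Nat) : List ℕ × List ℕ := Bool.rec (rL417) (rL418) (Nat.ble 418 i)
noncomputable def rT414 (i : Nat) : List ℕ × List ℕ := Bool.rec (rL416) (rT413 i) (Nat.ble 417 i)
noncomputable def rT415 (i : Nat) : List ℕ × List ℕ := Bool.rec (rL420) (rL421) (Nat.ble 421 i)
noncomputable def rT416 (i : Nat) : List ℕ × List ℕ := Bool.rec (rL419) (rT415 i) (Nat.ble 420 i)
noncomputable def rT417 (i : Nat) : List ℕ × List ℕ := Bool.rec (rT414 i) (rT416 i) (Nat.ble 419 i)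
noncomputable def rT418 (i : Nat) : List ℕ × List ℕ := Bool.rec (rT412 i) (rT417 i) (Nat.ble 416 i)
noncomputable def rT419 (i : Nat) : List ℕ × List ℕ := Bool.rec (rT407 i) (rT418 i) (Nat.ble 410 i)
noncomputable def rT420 (i : Nat) : List ℕ × List ℕ := Bool.rec (rL423) (rL424) (Nat.ble 424 i)
noncomputable def rT421 (i : Nat) : List ℕ × List ℕ := Bool.rec (rL422) (rT420 i) (Nat.ble 423 i)
noncomputable def rT422 (i : Nat) : List ℕ × List ℕ := Bool.rec (rL426) (rL427) (Nat.ble 427 i)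
noncomputable def rT423 (i : Nat) : List ℕ × List ℕ := Bool.rec (rL425) (rT422 i) (Nat.ble 426 i)
noncomputable def rT424 (i : Nat) : List ℕ × List ℕ := Bool.rec (rT421 i) (rT423 i) (Nat.ble 425 i)
noncomputable def rT425 (i : Nat) : List ℕ × List ℕ := Bool.rec (rL429) (rL430) (Nat.ble 430 i)
noncomputable def rT426 (i : Nat) : List ℕ × List ℕ := Bool.rec (rL428) (rT425 i) (Nat.ble 429 i)
noncomputable def rT427 (i : Nat) : List ℕ × List ℕ := Bool.rec (rL432) (rL433) (Nat.ble 433 i)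
noncomputable def rT428 (i : Nat) : List ℕ × List ℕ := Bool.rec (rL431) (rT427 i) (Nat.ble 432 i)
noncomputable def rT429 (i : Nat) : List ℕ × List ℕ := Bool.rec (rT426 i) (rT428 i) (Nat.ble 431 i)
noncomputable def rT430 (i : Nat) : List ℕ × List ℕ := Bool.rec (rT424 i) (rT429 i) (Nat.ble 428 i)
noncomputable def rT431 (i : Nat) : List ℕ × List ℕ := Bool.rec (rL435) (rL436) (Nat.ble 436 i)
noncomputable def rT432 (i : Nat) : List ℕ × List ℕ := Bool.rec (rL434) (rT431 i) (Nat.ble 435 i)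
noncomputable def rT433 (i : Nat) : List ℕ × List ℕ := Bool.rec (rL438) (rL439) (Nat.ble 439 i)
noncomputable def rT434 (i : Nat) : List ℕ × List ℕ := Bool.rec (rL437) (rT433 i) (Nat.ble 438 i)
noncomputable def rT435 (i : Nat) : List ℕ × List ℕ := Bool.rec (rT432 i) (rT434 i) (Nat.ble 437 i)
noncomputable def rT436 (i : Nat) : List ℕ × List ℕ := Bool.rec (rL441) (rL442) (Nat.ble 442 i)
noncomputable def rT437 (i : Nat) : List ℕ × List ℕ := Bool.rec (rL440) (rT436 i) (Nat.ble 441 i)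
noncomputable def rT438 (i : Nat) : List ℕ × List ℕ := Bool.rec (rL443) (rL444) (Nat.ble 444 i)
noncomputable def rT439 (i : Nat) : List ℕ × List ℕ := Bool.rec (rL445) (rL446) (Nat.ble 446 i)
noncomputable def rT440 (i : Nat) : List ℕ × List ℕ := Bool.rec (rT438 i) (rT439 i) (Nat.ble 445 i)
noncomputable def rT441 (i : Nat) : List ℕ × List ℕ := Bool.rec (rT437 i) (rT440 i) (Nat.ble 443 i)
noncomputable def rT442 (i : Nat) : List ℕ × List ℕ := Bool.rec (rT435 i) (rT441 i) (Nat.ble 440 i)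
noncomputable def rT443 (i : Nat) : List ℕ × List ℕ := Bool.rec (rT430 i) (rT442 i) (Nat.ble 434 i)
noncomputable def rT444 (i : Nat) : List ℕ × List ℕ := Bool.rec (rT419 i) (rT443 i) (Nat.ble 422 i)
noncomputable def rT445 (i : Nat) : List ℕ × List ℕ := Bool.rec (rL448) (rL449) (Nat.ble 449 i)
noncomputable def rT446 (i : Nat) : List ℕ × List ℕ := Bool.rec (rL447) (rT445 i) (Nat.ble 448 i)
noncomputable def rT447 (i : Nat) : List ℕ × List ℕ := Bool.rec (rL451) (rL452) (Nat.ble 452 i)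
noncomputable def rT448 (i : Nat) : List ℕ × List ℕ := Bool.rec (rL450) (rT447 i) (Nat.ble 451 i)
noncomputable def rT449 (i : Nat) : List ℕ × List ℕ := Bool.rec (rT446 i) (rT448 i) (Nat.ble 450 i)
noncomputable def rT450 (i : Nat) : List ℕ × List ℕ := Bool.rec (rL454) (rL455) (Nat.ble 455 i)
noncomputable def rT451 (i : Nat) : List ℕ × List ℕ := Bool.rec (rL453) (rT450 i) (Nat.ble 454 i)
noncomputable def rT452 (i : Nat) : List ℕ × List ℕ := Bool.rec (rL457) (rL458) (Nat.ble 458 i)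
noncomputable def rT453 (i : Nat) : List ℕ × List ℕ := Bool.rec (rL456) (rT452 i) (Nat.ble 457 i)
noncomputable def rT454 (i : Nat) : List ℕ × List ℕ := Bool.rec (rT451 i) (rT453 i) (Nat.ble 456 i)
noncomputable def rT455 (i : Nat) : List ℕ × List ℕ := Bool.rec (rT449 i) (rT454 i) (Nat.ble 453 i)
noncomputable def rT456 (i : Nat) : List ℕ × List ℕ := Bool.rec (rL460) (rL461) (Nat.ble 461 i)
noncomputable def rT457 (i : Nat) : List ℕ × List ℕ := Bool.rec (rL459) (rT456 i) (Nat.ble 460 i)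
noncomputable def rT458 (i : Nat) : List ℕ × List ℕ := Bool.rec (rL463) (rL464) (Nat.ble 464 i)
noncomputable def rT459 (i : Nat) : List ℕ × List ℕ := Bool.rec (rL462) (rT458 i) (Nat.ble 463 i)
noncomputable def rT460 (i : Nat) : List ℕ × List ℕ := Bool.rec (rT457 i) (rT459 i) (Nat.ble 462 i)
noncomputable def rT461 (i : Nat) : List ℕ × List ℕ := Bool.rec (rL466) (rL467) (Nat.ble 467 i)
noncomputable def rT462 (i : Nat) : List ℕ × List ℕ := Bool.rec (rL465) (rT461 i) (Nat.ble 466 i)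
noncomputable def rT463 (i : Nat) : List ℕ × List ℕ := Bool.rec (rL468) (rL469) (Nat.ble 469 i)
noncomputable def rT464 (i : Nat) : List ℕ × List ℕ := Bool.rec (rL470) (rL471) (Nat.ble 471 i)
noncomputable def rT465 (i : Nat) : List ℕ × List ℕ := Bool.rec (rT463 i) (rT464 i) (Nat.ble 470 i)
noncomputable def rT466 (i : Nat) : List ℕ × List ℕ := Bool.rec (rT462 i) (rT465 i) (Nat.ble 468 i)
noncomputable def rT467 (i : Nat) : List ℕ × List ℕ := Bool.rec (rT460 i) (rT466 i) (Nat.ble 465 i)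
noncomputable def rT468 (i : Nat) : List ℕ × List ℕ := Bool.rec (rT455 i) (rT467 i) (Nat.ble 459 i)
noncomputable def rT469 (i : Nat) : List ℕ × List ℕ := Bool.rec (rL473) (rL474) (Nat.ble 474 i)
noncomputable def rT470 (i : Nat) : List ℕ × List ℕ := Bool.rec (rL472) (rT469 i) (Nat.ble 473 i)
noncomputable def rT471 (i : Nat) : List ℕ × List ℕ := Bool.rec (rL476) (rL477) (Nat.ble 477 i)
noncomputable def rT472 (i : Nat) : List ℕ × List ℕ := Bool.rec (rL475) (rT471 i) (Nat.ble 476 i)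
noncomputable def rT473 (i : Nat) : List ℕ × List ℕ := Bool.rec (rT470 i) (rT472 i) (Nat.ble 475 i)
noncomputable def rT474 (i : Nat) : List ℕ × List ℕ := Bool.rec (rL479) (rL480) (Nat.ble 480 i)
noncomputable def rT475 (i : Nat) : List ℕ × List ℕ := Bool.rec (rL478) (rT474 i) (Nat.ble 479 i)
noncomputable def rT476 (i : Nat) : List ℕ × List ℕ := Bool.rec (rL482) (rL483) (Nat.ble 483 i)
noncomputable def rT477 (i : Nat) : List ℕ × List ℕ := Bool.rec (rL481) (rT476 i) (Nat.ble 482 i)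
noncomputable def rT478 (i : Nat) : List ℕ × List ℕ := Bool.rec (rT475 i) (rT477 i) (Nat.ble 481 i)
noncomputable def rT479 (i : Nat) : List ℕ × List ℕ := Bool.rec (rT473 i) (rT478 i) (Nat.ble 478 i)
noncomputable def rT480 (i : Nat) : List ℕ × List ℕ := Bool.rec (rL485) (rL486) (Nat.ble 486 i)
noncomputable def rT481 (i : Nat) : List ℕ × List ℕ := Bool.rec (rL484) (rT480 i) (Nat.ble 485 i)
noncomputable def rT482 (i : Nat) : List ℕ × List ℕ := Bool.rec (rL488) (rL489) (Nat.ble 489 i)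
noncomputable def rT483 (i : Nat) : List ℕ × List ℕ := Bool.rec (rL487) (rT482 i) (Nat.ble 488 i)
noncomputable def rT484 (i : Nat) : List ℕ × List ℕ := Bool.rec (rT481 i) (rT483 i) (Nat.ble 487 i)
noncomputable def rT485 (i : Nat) : List ℕ × List ℕ := Bool.rec (rL491) (rL492) (Nat.ble 492 i)
noncomputable def rT486 (i : Nat) : List ℕ × List ℕ := Bool.rec (rL490) (rT485 i) (Nat.ble 491 i)
noncomputable def rT487 (i : Nat) : List ℕ × List ℕ := Bool.rec (rL493) (rL494) (Nat.ble 494 i)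
noncomputable def rT488 (i : Nat) : List ℕ × List ℕ := Bool.rec (rL495) (rL496) (Nat.ble 496 i)
noncomputable def rT489 (i : Nat) : List ℕ × List ℕ := Bool.rec (rT487 i) (rT488 i) (Nat.ble 495 i)
noncomputable def rT490 (i : Nat) : List ℕ × List ℕ := Bool.rec (rT486 i) (rT489 i) (Nat.ble 493 i)
noncomputable def rT491 (i : Nat) : List ℕ × List ℕ := Bool.rec (rT484 i) (rT490 i) (Nat.ble 490 i)
noncomputable def rT492 (i : Nat) : List ℕ × List ℕ := Bool.rec (rT479 i) (rT491 i) (Nat.ble 484 i)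
noncomputable def rT493 (i : Nat) : List ℕ × List ℕ := Bool.rec (rT468 i) (rT492 i) (Nat.ble 472 i)
noncomputable def rT494 (i : Nat) : List ℕ × List ℕ := Bool.rec (rT444 i) (rT493 i) (Nat.ble 447 i)
noncomputable def rT495 (i : Nat) : List ℕ × List ℕ := Bool.rec (rL498) (rL499) (Nat.ble 499 i)
noncomputable def rT496 (i : Nat) : List ℕ × List ℕ := Bool.rec (rL497) (rT495 i) (Nat.ble 498 i)
noncomputable def rT497 (i : Nat) : List ℕ × List ℕ := Bool.rec (rL501) (rL502) (Nat.ble 502 i)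
noncomputable def rT498 (i : Nat) : List ℕ × List ℕ := Bool.rec (rL500) (rT497 i) (Nat.ble 501 i)
noncomputable def rT499 (i : Nat) : List ℕ × List ℕ := Bool.rec (rT496 i) (rT498 i) (Nat.ble 500 i)
noncomputable def rT500 (i : Nat) : List ℕ × List ℕ := Bool.rec (rL504) (rL505) (Nat.ble 505 i)
noncomputable def rT501 (i : Nat) : List ℕ × List ℕ := Bool.rec (rL503) (rT500 i) (Nat.ble 504 i)
noncomputable def rT502 (i : Nat) : List ℕ × List ℕ := Bool.rec (rL507) (rL508) (Nat.ble 508 i)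
noncomputable def rT503 (i : Nat) : List ℕ × List ℕ := Bool.rec (rL506) (rT502 i) (Nat.ble 507 i)
noncomputable def rT504 (i : Nat) : List ℕ × List ℕ := Bool.rec (rT501 i) (rT503 i) (Nat.ble 506 i)
noncomputable def rT505 (i : Nat) : List ℕ × List ℕ := Bool.rec (rT499 i) (rT504 i) (Nat.ble 503 i)
noncomputable def rT506 (i : Nat) : List ℕ × List ℕ := Bool.rec (rL510) (rL511) (Nat.ble 511 i)
noncomputable def rT507 (i : Nat) : List ℕ × List ℕ := Bool.rec (rL509) (rT506 i) (Nat.ble 510 i)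
noncomputable def rT508 (i : Nat) : List ℕ × List ℕ := Bool.rec (rL513) (rL514) (Nat.ble 514 i)
noncomputable def rT509 (i : Nat) : List ℕ × List ℕ := Bool.rec (rL512) (rT508 i) (Nat.ble 513 i)
noncomputable def rT510 (i : Nat) : List ℕ × List ℕ := Bool.rec (rT507 i) (rT509 i) (Nat.ble 512 i)
noncomputable def rT511 (i : Nat) : List ℕ × List ℕ := Bool.rec (rL516) (rL517) (Nat.ble 517 i)
noncomputable def rT512 (i : Nat) : List ℕ × List ℕ := Bool.rec (rL515) (rT511 i) (Nat.ble 516 i)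
noncomputable def rT513 (i : Nat) : List ℕ × List ℕ := Bool.rec (rL518) (rL519) (Nat.ble 519 i)
noncomputable def rT514 (i : Nat) : List ℕ × List ℕ := Bool.rec (rL520) (rL521) (Nat.ble 521 i)
noncomputable def rT515 (i : Nat) : List ℕ × List ℕ := Bool.rec (rT513 i) (rT514 i) (Nat.ble 520 i)
noncomputable def rT516 (i : Nat) : List ℕ × List ℕ := Bool.rec (rT512 i) (rT515 i) (Nat.ble 518 i)
noncomputable def rT517 (i : Nat) : List ℕ × List ℕ := Bool.rec (rT510 i) (rT516 i) (Nat.ble 515 i)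
noncomputable def rT518 (i : Nat) : List ℕ × List ℕ := Bool.rec (rT505 i) (rT517 i) (Nat.ble 509 i)
noncomputable def rT519 (i : Nat) : List ℕ × List ℕ := Bool.rec (rL523) (rL524) (Nat.ble 524 i)
noncomputable def rT520 (i : Nat) : List ℕ × List ℕ := Bool.rec (rL522) (rT519 i) (Nat.ble 523 i)
noncomputable def rT521 (i : Nat) : List ℕ × List ℕ := Bool.rec (rL526) (rL527) (Nat.ble 527 i)
noncomputable def rT522 (i : Nat) : List ℕ × List ℕ := Bool.rec (rL525) (rT521 i) (Nat.ble 526 i)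
noncomputable def rT523 (i : Nat) : List ℕ × List ℕ := Bool.rec (rT520 i) (rT522 i) (Nat.ble 525 i)
noncomputable def rT524 (i : Nat) : List ℕ × List ℕ := Bool.rec (rL529) (rL530) (Nat.ble 530 i)
noncomputable def rT525 (i : Nat) : List ℕ × List ℕ := Bool.rec (rL528) (rT524 i) (Nat.ble 529 i)
noncomputable def rT526 (i : Nat) : List ℕ × List ℕ := Bool.rec (rL532) (rL533) (Nat.ble 533 i)
noncomputable def rT527 (i : Nat) : List ℕ × List ℕ := Bool.rec (rL531) (rT526 i) (Nat.ble 532 i)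
noncomputable def rT528 (i : Nat) : List ℕ × List ℕ := Bool.rec (rT525 i) (rT527 i) (Nat.ble 531 i)
noncomputable def rT529 (i : Nat) : List ℕ × List ℕ := Bool.rec (rT523 i) (rT528 i) (Nat.ble 528 i)
noncomputable def rT530 (i : Nat) : List ℕ × List ℕ := Bool.rec (rL535) (rL536) (Nat.ble 536 i)
noncomputable def rT531 (i : Nat) : List ℕ × List ℕ := Bool.rec (rL534) (rT530 i) (Nat.ble 535 i)
noncomputable def rT532 (i : Nat) : List ℕ × List ℕ := Bool.rec (rL538) (rL539) (Nat.ble 539 i)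
noncomputable def rT533 (i : Nat) : List ℕ × List ℕ := Bool.rec (rL537) (rT532 i) (Nat.ble 538 i)
noncomputable def rT534 (i : Nat) : List ℕ × List ℕ := Bool.rec (rT531 i) (rT533 i) (Nat.ble 537 i)
noncomputable def rT535 (i : Nat) : List ℕ × List ℕ := Bool.rec (rL541) (rL542) (Nat.ble 542 i)
noncomputable def rT536 (i : Nat) : List ℕ × List ℕ := Bool.rec (rL540) (rT535 i) (Nat.ble 541 i)
noncomputable def rT537 (i : Nat) : List ℕ × List ℕ := Bool.rec (rL543) (rL544) (Nat.ble 544 i)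
noncomputable def rT538 (i : Nat) : List ℕ × List ℕ := Bool.rec (rL545) (rL546) (Nat.ble 546 i)
noncomputable def rT539 (i : Nat) : List ℕ × List ℕ := Bool.rec (rT537 i) (rT538 i) (Nat.ble 545 i)
noncomputable def rT540 (i : Nat) : List ℕ × List ℕ := Bool.rec (rT536 i) (rT539 i) (Nat.ble 543 i)
noncomputable def rT541 (i : Nat) : List ℕ × List ℕ := Bool.rec (rT534 i) (rT540 i) (Nat.ble 540 i)
noncomputable def rT542 (i : Nat) : List ℕ × List ℕ := Bool.rec (rT529 i) (rT541 i) (Nat.ble 534 i)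
noncomputable def rT543 (i : Nat) : List ℕ × List ℕ := Bool.rec (rT518 i) (rT542 i) (Nat.ble 522 i)
noncomputable def rT544 (i : Nat) : List ℕ × List ℕ := Bool.rec (rL548) (rL549) (Nat.ble 549 i)
noncomputable def rT545 (i : Nat) : List ℕ × List ℕ := Bool.rec (rL547) (rT544 i) (Nat.ble 548 i)
noncomputable def rT546 (i : Nat) : List ℕ × List ℕ := Bool.rec (rL551) (rL552) (Nat.ble 552 i)
noncomputable def rT547 (i : Nat) : List ℕ × List ℕ := Bool.rec (rL550) (rT546 i) (Nat.ble 551 i)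
noncomputable def rT548 (i : Nat) : List ℕ × List ℕ := Bool.rec (rT545 i) (rT547 i) (Nat.ble 550 i)
noncomputable def rT549 (i : Nat) : List ℕ × List ℕ := Bool.rec (rL554) (rL555) (Nat.ble 555 i)
noncomputable def rT550 (i : Nat) : List ℕ × List ℕ := Bool.rec (rL553) (rT549 i) (Nat.ble 554 i)
noncomputable def rT551 (i : Nat) : List ℕ × List ℕ := Bool.rec (rL557) (rL558) (Nat.ble 558 i)
noncomputable def rT552 (i : Nat) : List ℕ × List ℕ := Bool.rec (rL556) (rT551 i) (Nat.ble 557 i)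
noncomputable def rT553 (i : Nat) : List ℕ × List ℕ := Bool.rec (rT550 i) (rT552 i) (Nat.ble 556 i)
noncomputable def rT554 (i : Nat) : List ℕ × List ℕ := Bool.rec (rT548 i) (rT553 i) (Nat.ble 553 i)
noncomputable def rT555 (i : Nat) : List ℕ × List ℕ := Bool.rec (rL560) (rL561) (Nat.ble 561 i)
noncomputable def rT556 (i : Nat) : List ℕ × List ℕ := Bool.rec (rL559) (rT555 i) (Nat.ble 560 i)
noncomputable def rT557 (i : Nat) : List ℕ × List ℕ := Bool.rec (rL563) (rL564) (Nat.ble 564 i)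
noncomputable def rT558 (i : Nat) : List ℕ × List ℕ := Bool.rec (rL562) (rT557 i) (Nat.ble 563 i)
noncomputable def rT559 (i : Nat) : List ℕ × List ℕ := Bool.rec (rT556 i) (rT558 i) (Nat.ble 562 i)
noncomputable def rT560 (i : Nat) : List ℕ × List ℕ := Bool.rec (rL566) (rL567) (Nat.ble 567 i)
noncomputable def rT561 (i : Nat) : List ℕ × List ℕ := Bool.rec (rL565) (rT560 i) (Nat.ble 566 i)
noncomputable def rT562 (i : Nat) : List ℕ × List ℕ := Bool.rec (rL568) (rL569) (Nat.ble 569 i)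
noncomputable def rT563 (i : Nat) : List ℕ × List ℕ := Bool.rec (rL570) (rL571) (Nat.ble 571 i)
noncomputable def rT564 (i : Nat) : List ℕ × List ℕ := Bool.rec (rT562 i) (rT563 i) (Nat.ble 570 i)
noncomputable def rT565 (i : Nat) : List ℕ × List ℕ := Bool.rec (rT561 i) (rT564 i) (Nat.ble 568 i)
noncomputable def rT566 (i : Nat) : List ℕ × List ℕ := Bool.rec (rT559 i) (rT565 i) (Nat.ble 565 i)
noncomputable def rT567 (i : Nat) : List ℕ × List ℕ := Bool.rec (rT554 i) (rT566 i) (Nat.ble 559 i)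
noncomputable def rT568 (i : Nat) : List ℕ × List ℕ := Bool.rec (rL573) (rL574) (Nat.ble 574 i)
noncomputable def rT569 (i : Nat) : List ℕ × List ℕ := Bool.rec (rL572) (rT568 i) (Nat.ble 573 i)
noncomputable def rT570 (i : Nat) : List ℕ × List ℕ := Bool.rec (rL576) (rL577) (Nat.ble 577 i)
noncomputable def rT571 (i : Nat) : List ℕ × List ℕ := Bool.rec (rL575) (rT570 i) (Nat.ble 576 i)
noncomputable def rT572 (i : Nat) : List ℕ × List ℕ := Bool.rec (rT569 i) (rT571 i) (Nat.ble 575 i)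
noncomputable def rT573 (i : Nat) : List ℕ × List ℕ := Bool.rec (rL579) (rL580) (Nat.ble 580 i)
noncomputable def rT574 (i : Nat) : List ℕ × List ℕ := Bool.rec (rL578) (rT573 i) (Nat.ble 579 i)
noncomputable def rT575 (i : Nat) : List ℕ × List ℕ := Bool.rec (rL582) (rL583) (Nat.ble 583 i)
noncomputable def rT576 (i : Nat) : List ℕ × List ℕ := Bool.rec (rL581) (rT575 i) (Nat.ble 582 i)
noncomputable def rT577 (i : Nat) : List ℕ × List ℕ := Bool.rec (rT574 i) (rT576 i) (Nat.ble 581 i)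
noncomputable def rT578 (i : Nat) : List ℕ × List ℕ := Bool.rec (rT572 i) (rT577 i) (Nat.ble 578 i)
noncomputable def rT579 (i : Nat) : List ℕ × List ℕ := Bool.rec (rL585) (rL586) (Nat.ble 586 i)
noncomputable def rT580 (i : Nat) : List ℕ × List ℕ := Bool.rec (rL584) (rT579 i) (Nat.ble 585 i)
noncomputable def rT581 (i : Nat) : List ℕ × List ℕ := Bool.rec (rL588) (rL589) (Nat.ble 589 i)
noncomputable def rT582 (i : Nat) : List ℕ × List ℕ := Bool.rec (rL587) (rT581 i) (Nat.ble 588 i)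
noncomputable def rT583 (i : Nat) : List ℕ × List ℕ := Bool.rec (rT580 i) (rT582 i) (Nat.ble 587 i)
noncomputable def rT584 (i : Nat) : List ℕ × List ℕ := Bool.rec (rL591) (rL592) (Nat.ble 592 i)
noncomputable def rT585 (i : Nat) : List ℕ × List ℕ := Bool.rec (rL590) (rT584 i) (Nat.ble 591 i)
noncomputable def rT586 (i : Nat) : List ℕ × List ℕ := Bool.rec (rL593) (rL594) (Nat.ble 594 i)
noncomputable def rT587 (i : Nat) : List ℕ × List ℕ := Bool.rec (rL595) (rL596) (Nat.ble 596 i)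
noncomputable def rT588 (i : Nat) : List ℕ × List ℕ := Bool.rec (rT586 i) (rT587 i) (Nat.ble 595 i)
noncomputable def rT589 (i : Nat) : List ℕ × List ℕ := Bool.rec (rT585 i) (rT588 i) (Nat.ble 593 i)
noncomputable def rT590 (i : Nat) : List ℕ × List ℕ := Bool.rec (rT583 i) (rT589 i) (Nat.ble 590 i)
noncomputable def rT591 (i : Nat) : List ℕ × List ℕ := Bool.rec (rT578 i) (rT590 i) (Nat.ble 584 i)
noncomputable def rT592 (i : Nat) : List ℕ × List ℕ := Bool.rec (rT567 i) (rT591 i) (Nat.ble 572 i)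
noncomputable def rT593 (i : Nat) : List ℕ × List ℕ := Bool.rec (rT543 i) (rT592 i) (Nat.ble 547 i)
noncomputable def rT594 (i : Nat) : List ℕ × List ℕ := Bool.rec (rT494 i) (rT593 i) (Nat.ble 497 i)
noncomputable def rT595 (i : Nat) : List ℕ × List ℕ := Bool.rec (rL598) (rL599) (Nat.ble 599 i)
noncomputable def rT596 (i : Nat) : List ℕ × List ℕ := Bool.rec (rL597) (rT595 i) (Nat.ble 598 i)
noncomputable def rT597 (i : Nat) : List ℕ × List ℕ := Bool.rec (rL601) (rL602) (Nat.ble 602 i)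
noncomputable def rT598 (i : Nat) : List ℕ × List ℕ := Bool.rec (rL600) (rT597 i) (Nat.ble 601 i)
noncomputable def rT599 (i : Nat) : List ℕ × List ℕ := Bool.rec (rT596 i) (rT598 i) (Nat.ble 600 i)
noncomputable def rT600 (i : Nat) : List ℕ × List ℕ := Bool.rec (rL604) (rL605) (Nat.ble 605 i)
noncomputable def rT601 (i : Nat) : List ℕ × List ℕ := Bool.rec (rL603) (rT600 i) (Nat.ble 604 i)
noncomputable def rT602 (i : Nat) : List ℕ × List ℕ := Bool.rec (rL607) (rL608) (Nat.ble 608 i)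
noncomputable def rT603 (i : Nat) : List ℕ × List ℕ := Bool.rec (rL606) (rT602 i) (Nat.ble 607 i)
noncomputable def rT604 (i : Nat) : List ℕ × List ℕ := Bool.rec (rT601 i) (rT603 i) (Nat.ble 606 i)
noncomputable def rT605 (i : Nat) : List ℕ × List ℕ := Bool.rec (rT599 i) (rT604 i) (Nat.ble 603 i)
noncomputable def rT606 (i : Nat) : List ℕ × List ℕ := Bool.rec (rL610) (rL611) (Nat.ble 611 i)
noncomputable def rT607 (i : Nat) : List ℕ × List ℕ := Bool.rec (rL609) (rT606 i) (Nat.ble 610 i)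
noncomputable def rT608 (i : Nat) : List ℕ × List ℕ := Bool.rec (rL613) (rL614) (Nat.ble 614 i)
noncomputable def rT609 (i : Nat) : List ℕ × List ℕ := Bool.rec (rL612) (rT608 i) (Nat.ble 613 i)
noncomputable def rT610 (i : Nat) : List ℕ × List ℕ := Bool.rec (rT607 i) (rT609 i) (Nat.ble 612 i)
noncomputable def rT611 (i : Nat) : List ℕ × List ℕ := Bool.rec (rL616) (rL617) (Nat.ble 617 i)
noncomputable def rT612 (i : Nat) : List ℕ × List ℕ := Bool.rec (rL615) (rT611 i) (Nat.ble 616 i)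
noncomputable def rT613 (i : Nat) : List ℕ × List ℕ := Bool.rec (rL619) (rL620) (Nat.ble 620 i)
noncomputable def rT614 (i : Nat) : List ℕ × List ℕ := Bool.rec (rL618) (rT613 i) (Nat.ble 619 i)
noncomputable def rT615 (i : Nat) : List ℕ × List ℕ := Bool.rec (rT612 i) (rT614 i) (Nat.ble 618 i)
noncomputable def rT616 (i : Nat) : List ℕ × List ℕ := Bool.rec (rT610 i) (rT615 i) (Nat.ble 615 i)
noncomputable def rT617 (i : Nat) : List ℕ × List ℕ := Bool.rec (rT605 i) (rT616 i) (Nat.ble 609 i)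
noncomputable def rT618 (i : Nat) : List ℕ × List ℕ := Bool.rec (rL622) (rL623) (Nat.ble 623 i)
noncomputable def rT619 (i : Nat) : List ℕ × List ℕ := Bool.rec (rL621) (rT618 i) (Nat.ble 622 i)
noncomputable def rT620 (i : Nat) : List ℕ × List ℕ := Bool.rec (rL625) (rL626) (Nat.ble 626 i)
noncomputable def rT621 (i : Nat) : List ℕ × List ℕ := Bool.rec (rL624) (rT620 i) (Nat.ble 625 i)
noncomputable def rT622 (i : Nat) : List ℕ × List ℕ := Bool.rec (rT619 i) (rT621 i) (Nat.ble 624 i)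
noncomputable def rT623 (i : Nat) : List ℕ × List ℕ := Bool.rec (rL628) (rL629) (Nat.ble 629 i)
noncomputable def rT624 (i : Nat) : List ℕ × List ℕ := Bool.rec (rL627) (rT623 i) (Nat.ble 628 i)
noncomputable def rT625 (i : Nat) : List ℕ × List ℕ := Bool.rec (rL631) (rL632) (Nat.ble 632 i)
noncomputable def rT626 (i : Nat) : List ℕ × List ℕ := Bool.rec (rL630) (rT625 i) (Nat.ble 631 i)
noncomputable def rT627 (i : Nat) : List ℕ × List ℕ := Bool.rec (rT624 i) (rT626 i) (Nat.ble 630 i)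
noncomputable def rT628 (i : Nat) : List ℕ × List ℕ := Bool.rec (rT622 i) (rT627 i) (Nat.ble 627 i)
noncomputable def rT629 (i : Nat) : List ℕ × List ℕ := Bool.rec (rL634) (rL635) (Nat.ble 635 i)
noncomputable def rT630 (i : Nat) : List ℕ × List ℕ := Bool.rec (rL633) (rT629 i) (Nat.ble 634 i)
noncomputable def rT631 (i : Nat) : List ℕ × List ℕ := Bool.rec (rL637) (rL638) (Nat.ble 638 i)
noncomputable def rT632 (i : Nat) : List ℕ × List ℕ := Bool.rec (rL636) (rT631 i) (Nat.ble 637 i)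
noncomputable def rT633 (i : Nat) : List ℕ × List ℕ := Bool.rec (rT630 i) (rT632 i) (Nat.ble 636 i)
noncomputable def rT634 (i : Nat) : List ℕ × List ℕ := Bool.rec (rL640) (rL641) (Nat.ble 641 i)
noncomputable def rT635 (i : Nat) : List ℕ × List ℕ := Bool.rec (rL639) (rT634 i) (Nat.ble 640 i)
noncomputable def rT636 (i : Nat) : List ℕ × List ℕ := Bool.rec (rL642) (rL643) (Nat.ble 643 i)
noncomputable def rT637 (i : Nat) : List ℕ × List ℕ := Bool.rec (rL644) (rL645) (Nat.ble 645 i)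
noncomputable def rT638 (i : Nat) : List ℕ × List ℕ := Bool.rec (rT636 i) (rT637 i) (Nat.ble 644 i)
noncomputable def rT639 (i : Nat) : List ℕ × List ℕ := Bool.rec (rT635 i) (rT638 i) (Nat.ble 642 i)
noncomputable def rT640 (i : Nat) : List ℕ × List ℕ := Bool.rec (rT633 i) (rT639 i) (Nat.ble 639 i)
noncomputable def rT641 (i : Nat) : List ℕ × List ℕ := Bool.rec (rT628 i) (rT640 i) (Nat.ble 633 i)
noncomputable def rT642 (i : Nat) : List ℕ × List ℕ := Bool.rec (rT617 i) (rT641 i) (Nat.ble 621 i)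
noncomputable def rT643 (i : Nat) : List ℕ × List ℕ := Bool.rec (rL647) (rL648) (Nat.ble 648 i)
noncomputable def rT644 (i : Nat) : List ℕ × List ℕ := Bool.rec (rL646) (rT643 i) (Nat.ble 647 i)
noncomputable def rT645 (i : Nat) : List ℕ × List ℕ := Bool.rec (rL650) (rL651) (Nat.ble 651 i)
noncomputable def rT646 (i : Nat) : List ℕ × List ℕ := Bool.rec (rL649) (rT645 i) (Nat.ble 650 i)
noncomputable def rT647 (i : Nat) : List ℕ × List ℕ := Bool.rec (rT644 i) (rT646 i) (Nat.ble 649 i)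
noncomputable def rT648 (i : Nat) : List ℕ × List ℕ := Bool.rec (rL653) (rL654) (Nat.ble 654 i)
noncomputable def rT649 (i : Nat) : List ℕ × List ℕ := Bool.rec (rL652) (rT648 i) (Nat.ble 653 i)
noncomputable def rT650 (i : Nat) : List ℕ × List ℕ := Bool.rec (rL656) (rL657) (Nat.ble 657 i)
noncomputable def rT651 (i : Nat) : List ℕ × List ℕ := Bool.rec (rL655) (rT650 i) (Nat.ble 656 i)
noncomputable def rT652 (i : Nat) : List ℕ × List ℕ := Bool.rec (rT649 i) (rT651 i) (Nat.ble 655 i)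
noncomputable def rT653 (i : Nat) : List ℕ × List ℕ := Bool.rec (rT647 i) (rT652 i) (Nat.ble 652 i)
noncomputable def rT654 (i : Nat) : List ℕ × List ℕ := Bool.rec (rL659) (rL660) (Nat.ble 660 i)
noncomputable def rT655 (i : Nat) : List ℕ × List ℕ := Bool.rec (rL658) (rT654 i) (Nat.ble 659 i)
noncomputable def rT656 (i : Nat) : List ℕ × List ℕ := Bool.rec (rL662) (rL663) (Nat.ble 663 i)
noncomputable def rT657 (i : Nat) : List ℕ × List ℕ := Bool.rec (rL661) (rT656 i) (Nat.ble 662 i)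
noncomputable def rT658 (i : Nat) : List ℕ × List ℕ := Bool.rec (rT655 i) (rT657 i) (Nat.ble 661 i)
noncomputable def rT659 (i : Nat) : List ℕ × List ℕ := Bool.rec (rL665) (rL666) (Nat.ble 666 i)
noncomputable def rT660 (i : Nat) : List ℕ × List ℕ := Bool.rec (rL664) (rT659 i) (Nat.ble 665 i)
noncomputable def rT661 (i : Nat) : List ℕ × List ℕ := Bool.rec (rL667) (rL668) (Nat.ble 668 i)
noncomputable def rT662 (i : Nat) : List ℕ × List ℕ := Bool.rec (rL669) (rL670) (Nat.ble 670 i)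
noncomputable def rT663 (i : Nat) : List ℕ × List ℕ := Bool.rec (rT661 i) (rT662 i) (Nat.ble 669 i)
noncomputable def rT664 (i : Nat) : List ℕ × List ℕ := Bool.rec (rT660 i) (rT663 i) (Nat.ble 667 i)
noncomputable def rT665 (i : Nat) : List ℕ × List ℕ := Bool.rec (rT658 i) (rT664 i) (Nat.ble 664 i)
noncomputable def rT666 (i : Nat) : List ℕ × List ℕ := Bool.rec (rT653 i) (rT665 i) (Nat.ble 658 i)
noncomputable def rT667 (i : Nat) : List ℕ × List ℕ := Bool.rec (rL672) (rL673) (Nat.ble 673 i)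
noncomputable def rT668 (i : Nat) : List ℕ × List ℕ := Bool.rec (rL671) (rT667 i) (Nat.ble 672 i)
noncomputable def rT669 (i : Nat) : List ℕ × List ℕ := Bool.rec (rL675) (rL676) (Nat.ble 676 i)
noncomputable def rT670 (i : Nat) : List ℕ × List ℕ := Bool.rec (rL674) (rT669 i) (Nat.ble 675 i)
noncomputable def rT671 (i : Nat) : List ℕ × List ℕ := Bool.rec (rT668 i) (rT670 i) (Nat.ble 674 i)
noncomputable def rT672 (i : Nat) : List ℕ × List ℕ := Bool.rec (rL678) (rL679) (Nat.ble 679 i)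
noncomputable def rT673 (i : Nat) : List ℕ × List ℕ := Bool.rec (rL677) (rT672 i) (Nat.ble 678 i)
noncomputable def rT674 (i : Nat) : List ℕ × List ℕ := Bool.rec (rL681) (rL682) (Nat.ble 682 i)
noncomputable def rT675 (i : Nat) : List ℕ × List ℕ := Bool.rec (rL680) (rT674 i) (Nat.ble 681 i)
noncomputable def rT676 (i : Nat) : List ℕ × List ℕ := Bool.rec (rT673 i) (rT675 i) (Nat.ble 680 i)
noncomputable def rT677 (i : Nat) : List ℕ × List ℕ := Bool.rec (rT671 i) (rT676 i) (Nat.ble 677 i)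
noncomputable def rT678 (i : Nat) : List ℕ × List ℕ := Bool.rec (rL684) (rL685) (Nat.ble 685 i)
noncomputable def rT679 (i : Nat) : List ℕ × List ℕ := Bool.rec (rL683) (rT678 i) (Nat.ble 684 i)
noncomputable def rT680 (i : Nat) : List ℕ × List ℕ := Bool.rec (rL687) (rL688) (Nat.ble 688 i)
noncomputable def rT681 (i : Nat) : List ℕ × List ℕ := Bool.rec (rL686) (rT680 i) (Nat.ble 687 i)
noncomputable def rT682 (i : Nat) : List ℕ × List ℕ := Bool.rec (rT679 i) (rT681 i) (Nat.ble 686 i)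
noncomputable def rT683 (i : Nat) : List ℕ × List ℕ := Bool.rec (rL690) (rL691) (Nat.ble 691 i)
noncomputable def rT684 (i : Nat) : List ℕ × List ℕ := Bool.rec (rL689) (rT683 i) (Nat.ble 690 i)
noncomputable def rT685 (i : Nat) : List ℕ × List ℕ := Bool.rec (rL692) (rL693) (Nat.ble 693 i)
noncomputable def rT686 (i : Nat) : List ℕ × List ℕ := Bool.rec (rL694) (rL695) (Nat.ble 695 i)
noncomputable def rT687 (i : Nat) : List ℕ × List ℕ := Bool.rec (rT685 i) (rT686 i) (Nat.ble 694 i)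
noncomputable def rT688 (i : Nat) : List ℕ × List ℕ := Bool.rec (rT684 i) (rT687 i) (Nat.ble 692 i)
noncomputable def rT689 (i : Nat) : List ℕ × List ℕ := Bool.rec (rT682 i) (rT688 i) (Nat.ble 689 i)
noncomputable def rT690 (i : Nat) : List ℕ × List ℕ := Bool.rec (rT677 i) (rT689 i) (Nat.ble 683 i)
noncomputable def rT691 (i : Nat) : List ℕ × List ℕ := Bool.rec (rT666 i) (rT690 i) (Nat.ble 671 i)
noncomputable def rT692 (i : Nat) : List ℕ × List ℕ := Bool.rec (rT642 i) (rT691 i) (Nat.ble 646 i)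
noncomputable def rT693 (i : Nat) : List ℕ × List ℕ := Bool.rec (rL697) (rL698) (Nat.ble 698 i)
noncomputable def rT694 (i : Nat) : List ℕ × List ℕ := Bool.rec (rL696) (rT693 i) (Nat.ble 697 i)
noncomputable def rT695 (i : Nat) : List ℕ × List ℕ := Bool.rec (rL700) (rL701) (Nat.ble 701 i)
noncomputable def rT696 (i : Nat) : List ℕ × List ℕ := Bool.rec (rL699) (rT695 i) (Nat.ble 700 i)
noncomputable def rT697 (i : Nat) : List ℕ × List ℕ := Bool.rec (rT694 i) (rT696 i) (Nat.ble 699 i)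
noncomputable def rT698 (i : Nat) : List ℕ × List ℕ := Bool.rec (rL703) (rL704) (Nat.ble 704 i)
noncomputable def rT699 (i : Nat) : List ℕ × List ℕ := Bool.rec (rL702) (rT698 i) (Nat.ble 703 i)
noncomputable def rT700 (i : Nat) : List ℕ × List ℕ := Bool.rec (rL706) (rL707) (Nat.ble 707 i)
noncomputable def rT701 (i : Nat) : List ℕ × List ℕ := Bool.rec (rL705) (rT700 i) (Nat.ble 706 i)
noncomputable def rT702 (i : Nat) : List ℕ × List ℕ := Bool.rec (rT699 i) (rT701 i) (Nat.ble 705 i)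
noncomputable def rT703 (i : Nat) : List ℕ × List ℕ := Bool.rec (rT697 i) (rT702 i) (Nat.ble 702 i)
noncomputable def rT704 (i : Nat) : List ℕ × List ℕ := Bool.rec (rL709) (rL710) (Nat.ble 710 i)
noncomputable def rT705 (i : Nat) : List ℕ × List ℕ := Bool.rec (rL708) (rT704 i) (Nat.ble 709 i)
noncomputable def rT706 (i : Nat) : List ℕ × List ℕ := Bool.rec (rL712) (rL713) (Nat.ble 713 i)
noncomputable def rT707 (i : Nat) : List ℕ × List ℕ := Bool.rec (rL711) (rT706 i) (Nat.ble 712 i)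
noncomputable def rT708 (i : Nat) : List ℕ × List ℕ := Bool.rec (rT705 i) (rT707 i) (Nat.ble 711 i)
noncomputable def rT709 (i : Nat) : List ℕ × List ℕ := Bool.rec (rL715) (rL716) (Nat.ble 716 i)
noncomputable def rT710 (i : Nat) : List ℕ × List ℕ := Bool.rec (rL714) (rT709 i) (Nat.ble 715 i)
noncomputable def rT711 (i : Nat) : List ℕ × List ℕ := Bool.rec (rL717) (rL718) (Nat.ble 718 i)
noncomputable def rT712 (i : Nat) : List ℕ × List ℕ := Bool.rec (rL719) (rL720) (Nat.ble 720 i)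
noncomputable def rT713 (i : Nat) : List ℕ × List ℕ := Bool.rec (rT711 i) (rT712 i) (Nat.ble 719 i)
noncomputable def rT714 (i : Nat) : List ℕ × List ℕ := Bool.rec (rT710 i) (rT713 i) (Nat.ble 717 i)
noncomputable def rT715 (i : Nat) : List ℕ × List ℕ := Bool.rec (rT708 i) (rT714 i) (Nat.ble 714 i)
noncomputable def rT716 (i : Nat) : List ℕ × List ℕ := Bool.rec (rT703 i) (rT715 i) (Nat.ble 708 i)
noncomputable def rT717 (i : Nat) : List ℕ × List ℕ := Bool.rec (rL722) (rL723) (Nat.ble 723 i)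
noncomputable def rT718 (i : Nat) : List ℕ × List ℕ := Bool.rec (rL721) (rT717 i) (Nat.ble 722 i)
noncomputable def rT719 (i : Nat) : List ℕ × List ℕ := Bool.rec (rL725) (rL726) (Nat.ble 726 i)
noncomputable def rT720 (i : Nat) : List ℕ × List ℕ := Bool.rec (rL724) (rT719 i) (Nat.ble 725 i)
noncomputable def rT721 (i : Nat) : List ℕ × List ℕ := Bool.rec (rT718 i) (rT720 i) (Nat.ble 724 i)
noncomputable def rT722 (i : Nat) : List ℕ × List ℕ := Bool.rec (rL728) (rL729) (Nat.ble 729 i)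
noncomputable def rT723 (i : Nat) : List ℕ × List ℕ := Bool.rec (rL727) (rT722 i) (Nat.ble 728 i)
noncomputable def rT724 (i : Nat) : List ℕ × List ℕ := Bool.rec (rL731) (rL732) (Nat.ble 732 i)
noncomputable def rT725 (i : Nat) : List ℕ × List ℕ := Bool.rec (rL730) (rT724 i) (Nat.ble 731 i)
noncomputable def rT726 (i : Nat) : List ℕ × List ℕ := Bool.rec (rT723 i) (rT725 i) (Nat.ble 730 i)
noncomputable def rT727 (i : Nat) : List ℕ × List ℕ := Bool.rec (rT721 i) (rT726 i) (Nat.ble 727 i)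
noncomputable def rT728 (i : Nat) : List ℕ × List ℕ := Bool.rec (rL734) (rL735) (Nat.ble 735 i)
noncomputable def rT729 (i : Nat) : List ℕ × List ℕ := Bool.rec (rL733) (rT728 i) (Nat.ble 734 i)
noncomputable def rT730 (i : Nat) : List ℕ × List ℕ := Bool.rec (rL737) (rL738) (Nat.ble 738 i)
noncomputable def rT731 (i : Nat) : List ℕ × List ℕ := Bool.rec (rL736) (rT730 i) (Nat.ble 737 i)
noncomputable def rT732 (i : Nat) : List ℕ × List ℕ := Bool.rec (rT729 i) (rT731 i) (Nat.ble 736 i)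
noncomputable def rT733 (i : Nat) : List ℕ × List ℕ := Bool.rec (rL740) (rL741) (Nat.ble 741 i)
noncomputable def rT734 (i : Nat) : List ℕ × List ℕ := Bool.rec (rL739) (rT733 i) (Nat.ble 740 i)
noncomputable def rT735 (i : Nat) : List ℕ × List ℕ := Bool.rec (rL742) (rL743) (Nat.ble 743 i)
noncomputable def rT736 (i : Nat) : List ℕ × List ℕ := Bool.rec (rL744) (rL745) (Nat.ble 745 i)
noncomputable def rT737 (i : Nat) : List ℕ × List ℕ := Bool.rec (rT735 i) (rT736 i) (Nat.ble 744 i)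
noncomputable def rT738 (i : Nat) : List ℕ × List ℕ := Bool.rec (rT734 i) (rT737 i) (Nat.ble 742 i)
noncomputable def rT739 (i : Nat) : List ℕ × List ℕ := Bool.rec (rT732 i) (rT738 i) (Nat.ble 739 i)
noncomputable def rT740 (i : Nat) : List ℕ × List ℕ := Bool.rec (rT727 i) (rT739 i) (Nat.ble 733 i)
noncomputable def rT741 (i : Nat) : List ℕ × List ℕ := Bool.rec (rT716 i) (rT740 i) (Nat.ble 721 i)
noncomputable def rT742 (i : Nat) : List ℕ × List ℕ := Bool.rec (rL747) (rL748) (Nat.ble 748 i)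
noncomputable def rT743 (i : Nat) : List ℕ × List ℕ := Bool.rec (rL746) (rT742 i) (Nat.ble 747 i)
noncomputable def rT744 (i : Nat) : List ℕ × List ℕ := Bool.rec (rL750) (rL751) (Nat.ble 751 i)
noncomputable def rT745 (i : Nat) : List ℕ × List ℕ := Bool.rec (rL749) (rT744 i) (Nat.ble 750 i)
noncomputable def rT746 (i : Nat) : List ℕ × List ℕ := Bool.rec (rT743 i) (rT745 i) (Nat.ble 749 i)
noncomputable def rT747 (i : Nat) : List ℕ × List ℕ := Bool.rec (rL753) (rL754) (Nat.ble 754 i)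
noncomputable def rT748 (i : Nat) : List ℕ × List ℕ := Bool.rec (rL752) (rT747 i) (Nat.ble 753 i)
noncomputable def rT749 (i : Nat) : List ℕ × List ℕ := Bool.rec (rL756) (rL757) (Nat.ble 757 i)
noncomputable def rT750 (i : Nat) : List ℕ × List ℕ := Bool.rec (rL755) (rT749 i) (Nat.ble 756 i)
noncomputable def rT751 (i : Nat) : List ℕ × List ℕ := Bool.rec (rT748 i) (rT750 i) (Nat.ble 755 i)
noncomputable def rT752 (i : Nat) : List ℕ × List ℕ := Bool.rec (rT746 i) (rT751 i) (Nat.ble 752 i)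
noncomputable def rT753 (i : Nat) : List ℕ × List ℕ := Bool.rec (rL759) (rL760) (Nat.ble 760 i)
noncomputable def rT754 (i : Nat) : List ℕ × List ℕ := Bool.rec (rL758) (rT753 i) (Nat.ble 759 i)
noncomputable def rT755 (i : Nat) : List ℕ × List ℕ := Bool.rec (rL762) (rL763) (Nat.ble 763 i)
noncomputable def rT756 (i : Nat) : List ℕ × List ℕ := Bool.rec (rL761) (rT755 i) (Nat.ble 762 i)
noncomputable def rT757 (i : Nat) : List ℕ × List ℕ := Bool.rec (rT754 i) (rT756 i) (Nat.ble 761 i)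
noncomputable def rT758 (i : Nat) : List ℕ × List ℕ := Bool.rec (rL765) (rL766) (Nat.ble 766 i)
noncomputable def rT759 (i : Nat) : List ℕ × List ℕ := Bool.rec (rL764) (rT758 i) (Nat.ble 765 i)
noncomputable def rT760 (i : Nat) : List ℕ × List ℕ := Bool.rec (rL767) (rL768) (Nat.ble 768 i)
noncomputable def rT761 (i : Nat) : List ℕ × List ℕ := Bool.rec (rL769) (rL770) (Nat.ble 770 i)
noncomputable def rT762 (i : Nat) : List ℕ × List ℕ := Bool.rec (rT760 i) (rT761 i) (Nat.ble 769 i)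
noncomputable def rT763 (i : Nat) : List ℕ × List ℕ := Bool.rec (rT759 i) (rT762 i) (Nat.ble 767 i)
noncomputable def rT764 (i : Nat) : List ℕ × List ℕ := Bool.rec (rT757 i) (rT763 i) (Nat.ble 764 i)
noncomputable def rT765 (i : Nat) : List ℕ × List ℕ := Bool.rec (rT752 i) (rT764 i) (Nat.ble 758 i)
noncomputable def rT766 (i : Nat) : List ℕ × List ℕ := Bool.rec (rL772) (rL773) (Nat.ble 773 i)
noncomputable def rT767 (i : Nat) : List ℕ × List ℕ := Bool.rec (rL771) (rT766 i) (Nat.ble 772 i)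
noncomputable def rT768 (i : Nat) : List ℕ × List ℕ := Bool.rec (rL775) (rL776) (Nat.ble 776 i)
noncomputable def rT769 (i : Nat) : List ℕ × List ℕ := Bool.rec (rL774) (rT768 i) (Nat.ble 775 i)
noncomputable def rT770 (i : Nat) : List ℕ × List ℕ := Bool.rec (rT767 i) (rT769 i) (Nat.ble 774 i)
noncomputable def rT771 (i : Nat) : List ℕ × List ℕ := Bool.rec (rL778) (rL779) (Nat.ble 779 i)
noncomputable def rT772 (i : Nat) : List ℕ × List ℕ := Bool.rec (rL777) (rT771 i) (Nat.ble 778 i)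
noncomputable def rT773 (i : Nat) : List ℕ × List ℕ := Bool.rec (rL781) (rL782) (Nat.ble 782 i)
noncomputable def rT774 (i : Nat) : List ℕ × List ℕ := Bool.rec (rL780) (rT773 i) (Nat.ble 781 i)
noncomputable def rT775 (i : Nat) : List ℕ × List ℕ := Bool.rec (rT772 i) (rT774 i) (Nat.ble 780 i)
noncomputable def rT776 (i : Nat) : List ℕ × List ℕ := Bool.rec (rT770 i) (rT775 i) (Nat.ble 777 i)
noncomputable def rT777 (i : Nat) : List ℕ × List ℕ := Bool.rec (rL784) (rL785) (Nat.ble 785 i)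
noncomputable def rT778 (i : Nat) : List ℕ × List ℕ := Bool.rec (rL783) (rT777 i) (Nat.ble 784 i)
noncomputable def rT779 (i : Nat) : List ℕ × List ℕ := Bool.rec (rL787) (rL788) (Nat.ble 788 i)
noncomputable def rT780 (i : Nat) : List ℕ × List ℕ := Bool.rec (rL786) (rT779 i) (Nat.ble 787 i)
noncomputable def rT781 (i : Nat) : List ℕ × List ℕ := Bool.rec (rT778 i) (rT780 i) (Nat.ble 786 i)
noncomputable def rT782 (i : Nat) : List ℕ × List ℕ := Bool.rec (rL790) (rL791) (Nat.ble 791 i)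
noncomputable def rT783 (i : Nat) : List ℕ × List ℕ := Bool.rec (rL789) (rT782 i) (Nat.ble 790 i)
noncomputable def rT784 (i : Nat) : List ℕ × List ℕ := Bool.rec (rL792) (rL793) (Nat.ble 793 i)
noncomputable def rT785 (i : Nat) : List ℕ × List ℕ := Bool.rec (rL794) (rL795) (Nat.ble 795 i)
noncomputable def rT786 (i : Nat) : List ℕ × List ℕ := Bool.rec (rT784 i) (rT785 i) (Nat.ble 794 i)
noncomputable def rT787 (i : Nat) : List ℕ × List ℕ := Bool.rec (rT783 i) (rT786 i) (Nat.ble 792 i)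
noncomputable def rT788 (i : Nat) : List ℕ × List ℕ := Bool.rec (rT781 i) (rT787 i) (Nat.ble 789 i)
noncomputable def rT789 (i : Nat) : List ℕ × List ℕ := Bool.rec (rT776 i) (rT788 i) (Nat.ble 783 i)
noncomputable def rT790 (i : Nat) : List ℕ × List ℕ := Bool.rec (rT765 i) (rT789 i) (Nat.ble 771 i)
noncomputable def rT791 (i : Nat) : List ℕ × List ℕ := Bool.rec (rT741 i) (rT790 i) (Nat.ble 746 i)
noncomputable def rT792 (i : Nat) : List ℕ × List ℕ := Bool.rec (rT692 i) (rT791 i) (Nat.ble 696 i)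
noncomputable def rT793 (i : Nat) : List ℕ × List ℕ := Bool.rec (rT594 i) (rT792 i) (Nat.ble 597 i)
noncomputable def rT794 (i : Nat) : List ℕ × List ℕ := Bool.rec (rT396 i) (rT793 i) (Nat.ble 398 i)
/-- the reversed words of the relation with a given number -/
noncomputable def relF (i : Nat) : List ℕ × List ℕ := rT794 i

set_option Elab.async false in
theorem relF_hyp : Cfsg.Agent.Lib.Helper2.SparseF.RelFHyp D relF 796 := by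
  refine ⟨by decide +kernel, ?_⟩
  show ∀ r < 796, relF r = ((rels.getD r ([], [])).1.reverse, (rels.getD r ([], [])).2.reverse)
  decide +kernel

set_option Elab.async false in
theorem tc_eq : 1237356000 = topCode D := by decide +kernel

end Cfsg.Agent.Lib.Helper2.HNMult.P3
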