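import Cfsg.Agent.Lib.Helper2.HNMult.P3.Cert
set_option autoImplicit false
set_option maxRecDepth 1000000
set_option Elab.async false
namespace Cfsg.Agent.Lib.Helper2.HNMult.P3
open Cfsg.Agent.Lib.Helper4.Sparse Cfsg.Agent.Lib.Helper2.SparseF
theorem ck_264 : chkURangeF D C relF 796 1237356000 540672 2048 = true := by decide +kernel
theorem ck_265 : chkURangeF D C relF 796 1237356000 542720 2048 = true := by decide +kernel
theorem ck_266 : chkURangeF D C relF 796 1237356000 544768 2048 = true := by decide +kernel
theorem ck_267 : chkURangeF D C relF 796 1237356000 546816 2048 = true := by decide +kernel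
theorem ck_268 : chkURangeF D C relF 796 1237356000 548864 2048 = true := by decide +kernel
theorem ck_269 : chkURangeF D C relF 796 1237356000 550912 2048 = true := by decide +kernel
theorem ck_270 : chkURangeF D C relF 796 1237356000 552960 2048 = true := by decide +kernel
theorem ck_271 : chkURangeF D C relF 796 1237356000 555008 2048 = true := by decide +kernel
theorem ck_272 : chkURangeF D C relF 796 1237356000 557056 2048 = true := by decide +kernel
theorem ck_273 : chkURangeF D C relF 796 1237356000 559104 2048 = true := by decide +kernel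
theorem ck_274 : chkURangeF D C relF 796 1237356000 561152 2048 = true := by decide +kernel
theorem ck_275 : chkURangeF D C relF 796 1237356000 563200 2048 = true := by decide +kernel
theorem ck_276 : chkURangeF D C relF 796 1237356000 565248 2048 = true := by decide +kernel
theorem ck_277 : chkURangeF D C relF 796 1237356000 567296 2048 = true := by decide +kernel
theorem ck_278 : chkURangeF D C relF 796 1237356000 569344 2048 = true := by decide +kernel
theorem ck_279 : chkURangeF D C relF 796 1237356000 571392 2048 = true := by decide +kernel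
theorem ck_280 : chkURangeF D C relF 796 1237356000 573440 2048 = true := by decide +kernel
theorem ck_281 : chkURangeF D C relF 796 1237356000 575488 2048 = true := by decide +kernel
theorem ck_282 : chkURangeF D C relF 796 1237356000 577536 2048 = true := by decide +kernel
theorem ck_283 : chkURangeF D C relF 796 1237356000 579584 2048 = true := by decide +kernel
theorem ck_284 : chkURangeF D C relF 796 1237356000 581632 2048 = true := by decide +kernel
theorem ck_285 : chkURangeF D C relF 796 1237356000 583680 2048 = true := by decide +kernel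
theorem ck_286 : chkURangeF D C relF 796 1237356000 585728 2048 = true := by decide +kernel
theorem ck_287 : chkURangeF D C relF 796 1237356000 587776 2048 = true := by decide +kernel
theorem chkU_11 (b : ℕ) (h1 : 540672 ≤ b) (h2 : b < 589824) : chkU D C b = true := by
  rcases Nat.lt_or_ge b 542720 with g0 | g0
  · exact chkURangeF_spec C relF_hyp 1237356000 tc_eq 540672 2048 ck_264 b (by omega) (by omega)
  rcases Nat.lt_or_ge b 544768 with g1 | g1
  · exact chkURangeF_spec C relF_hyp 1237356000 tc_eq 542720 2048 ck_265 b (by omega) (by omega)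
  rcases Nat.lt_or_ge b 546816 with g2 | g2
  · exact chkURangeF_spec C relF_hyp 1237356000 tc_eq 544768 2048 ck_266 b (by omega) (by omega)
  rcases Nat.lt_or_ge b 548864 with g3 | g3
  · exact chkURangeF_spec C relF_hyp 1237356000 tc_eq 546816 2048 ck_267 b (by omega) (by omega)
  rcases Nat.lt_or_ge b 550912 with g4 | g4
  · exact chkURangeF_spec C relF_hyp 1237356000 tc_eq 548864 2048 ck_268 b (by omega) (by omega)
  rcases Nat.lt_or_ge b 552960 with g5 | g5
  · exact chkURangeF_spec C relF_hyp 1237356000 tc_eq 550912 2048 ck_269 b (by omega) (by omega)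
  rcases Nat.lt_or_ge b 555008 with g6 | g6
  · exact chkURangeF_spec C relF_hyp 1237356000 tc_eq 552960 2048 ck_270 b (by omega) (by omega)
  rcases Nat.lt_or_ge b 557056 with g7 | g7
  · exact chkURangeF_spec C relF_hyp 1237356000 tc_eq 555008 2048 ck_271 b (by omega) (by omega)
  rcases Nat.lt_or_ge b 559104 with g8 | g8
  · exact chkURangeF_spec C relF_hyp 1237356000 tc_eq 557056 2048 ck_272 b (by omega) (by omega)
  rcases Nat.lt_or_ge b 561152 with g9 | g9
  · exact chkURangeF_spec C relF_hyp 1237356000 tc_eq 559104 2048 ck_273 b (by omega) (by omega)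
  rcases Nat.lt_or_ge b 563200 with g10 | g10
  · exact chkURangeF_spec C relF_hyp 1237356000 tc_eq 561152 2048 ck_274 b (by omega) (by omega)
  rcases Nat.lt_or_ge b 565248 with g11 | g11
  · exact chkURangeF_spec C relF_hyp 1237356000 tc_eq 563200 2048 ck_275 b (by omega) (by omega)
  rcases Nat.lt_or_ge b 567296 with g12 | g12
  · exact chkURangeF_spec C relF_hyp 1237356000 tc_eq 565248 2048 ck_276 b (by omega) (by omega)
  rcases Nat.lt_or_ge b 569344 with g13 | g13
  · exact chkURangeF_spec C relF_hyp 1237356000 tc_eq 567296 2048 ck_277 b (by omega) (by omega)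
  rcases Nat.lt_or_ge b 571392 with g14 | g14
  · exact chkURangeF_spec C relF_hyp 1237356000 tc_eq 569344 2048 ck_278 b (by omega) (by omega)
  rcases Nat.lt_or_ge b 573440 with g15 | g15
  · exact chkURangeF_spec C relF_hyp 1237356000 tc_eq 571392 2048 ck_279 b (by omega) (by omega)
  rcases Nat.lt_or_ge b 575488 with g16 | g16
  · exact chkURangeF_spec C relF_hyp 1237356000 tc_eq 573440 2048 ck_280 b (by omega) (by omega)
  rcases Nat.lt_or_ge b 577536 with g17 | g17
  · exact chkURangeF_spec C relF_hyp 1237356000 tc_eq 575488 2048 ck_281 b (by omega) (by omega)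
  rcases Nat.lt_or_ge b 579584 with g18 | g18
  · exact chkURangeF_spec C relF_hyp 1237356000 tc_eq 577536 2048 ck_282 b (by omega) (by omega)
  rcases Nat.lt_or_ge b 581632 with g19 | g19
  · exact chkURangeF_spec C relF_hyp 1237356000 tc_eq 579584 2048 ck_283 b (by omega) (by omega)
  rcases Nat.lt_or_ge b 583680 with g20 | g20
  · exact chkURangeF_spec C relF_hyp 1237356000 tc_eq 581632 2048 ck_284 b (by omega) (by omega)
  rcases Nat.lt_or_ge b 585728 with g21 | g21
  · exact chkURangeF_spec C relF_hyp 1237356000 tc_eq 583680 2048 ck_285 b (by omega) (by omega)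
  rcases Nat.lt_or_ge b 587776 with g22 | g22
  · exact chkURangeF_spec C relF_hyp 1237356000 tc_eq 585728 2048 ck_286 b (by omega) (by omega)
  exact chkURangeF_spec C relF_hyp 1237356000 tc_eq 587776 2048 ck_287 b (by omega) (by omega)
end Cfsg.Agent.Lib.Helper2.HNMult.P3
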