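import Cfsg.Agent.Lib.Helper2.HNMult.P3.Cert
set_option autoImplicit false
set_option maxRecDepth 1000000
set_option Elab.async false
namespace Cfsg.Agent.Lib.Helper2.HNMult.P3
open Cfsg.Agent.Lib.Helper4.Sparse Cfsg.Agent.Lib.Helper2.SparseF
theorem ck_4128 : chkURangeF D C relF 796 1237356000 8454144 2048 = true := by decide +kernel
theorem ck_4129 : chkURangeF D C relF 796 1237356000 8456192 2048 = true := by decide +kernel
theorem ck_4130 : chkURangeF D C relF 796 1237356000 8458240 2048 = true := by decide +kernel
theorem ck_4131 : chkURangeF D C relF 796 1237356000 8460288 2048 = true := by decide +kernel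
theorem ck_4132 : chkURangeF D C relF 796 1237356000 8462336 2048 = true := by decide +kernel
theorem ck_4133 : chkURangeF D C relF 796 1237356000 8464384 2048 = true := by decide +kernel
theorem ck_4134 : chkURangeF D C relF 796 1237356000 8466432 2048 = true := by decide +kernel
theorem ck_4135 : chkURangeF D C relF 796 1237356000 8468480 2048 = true := by decide +kernel
theorem ck_4136 : chkURangeF D C relF 796 1237356000 8470528 2048 = true := by decide +kernel
theorem ck_4137 : chkURangeF D C relF 796 1237356000 8472576 2048 = true := by decide +kernel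
theorem ck_4138 : chkURangeF D C relF 796 1237356000 8474624 2048 = true := by decide +kernel
theorem ck_4139 : chkURangeF D C relF 796 1237356000 8476672 2048 = true := by decide +kernel
theorem ck_4140 : chkURangeF D C relF 796 1237356000 8478720 2048 = true := by decide +kernel
theorem ck_4141 : chkURangeF D C relF 796 1237356000 8480768 2048 = true := by decide +kernel
theorem ck_4142 : chkURangeF D C relF 796 1237356000 8482816 2048 = true := by decide +kernel
theorem ck_4143 : chkURangeF D C relF 796 1237356000 8484864 2048 = true := by decide +kernel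
theorem ck_4144 : chkURangeF D C relF 796 1237356000 8486912 2048 = true := by decide +kernel
theorem ck_4145 : chkURangeF D C relF 796 1237356000 8488960 2048 = true := by decide +kernel
theorem ck_4146 : chkURangeF D C relF 796 1237356000 8491008 2048 = true := by decide +kernel
theorem ck_4147 : chkURangeF D C relF 796 1237356000 8493056 2048 = true := by decide +kernel
theorem ck_4148 : chkURangeF D C relF 796 1237356000 8495104 2048 = true := by decide +kernel
theorem ck_4149 : chkURangeF D C relF 796 1237356000 8497152 2048 = true := by decide +kernel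
theorem ck_4150 : chkURangeF D C relF 796 1237356000 8499200 2048 = true := by decide +kernel
theorem ck_4151 : chkURangeF D C relF 796 1237356000 8501248 2048 = true := by decide +kernel
theorem chkU_172 (b : ℕ) (h1 : 8454144 ≤ b) (h2 : b < 8503296) : chkU D C b = true := by
  rcases Nat.lt_or_ge b 8456192 with g0 | g0
  · exact chkURangeF_spec C relF_hyp 1237356000 tc_eq 8454144 2048 ck_4128 b (by omega) (by omega)
  rcases Nat.lt_or_ge b 8458240 with g1 | g1
  · exact chkURangeF_spec C relF_hyp 1237356000 tc_eq 8456192 2048 ck_4129 b (by omega) (by omega)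
  rcases Nat.lt_or_ge b 8460288 with g2 | g2
  · exact chkURangeF_spec C relF_hyp 1237356000 tc_eq 8458240 2048 ck_4130 b (by omega) (by omega)
  rcases Nat.lt_or_ge b 8462336 with g3 | g3
  · exact chkURangeF_spec C relF_hyp 1237356000 tc_eq 8460288 2048 ck_4131 b (by omega) (by omega)
  rcases Nat.lt_or_ge b 8464384 with g4 | g4
  · exact chkURangeF_spec C relF_hyp 1237356000 tc_eq 8462336 2048 ck_4132 b (by omega) (by omega)
  rcases Nat.lt_or_ge b 8466432 with g5 | g5
  · exact chkURangeF_spec C relF_hyp 1237356000 tc_eq 8464384 2048 ck_4133 b (by omega) (by omega)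
  rcases Nat.lt_or_ge b 8468480 with g6 | g6
  · exact chkURangeF_spec C relF_hyp 1237356000 tc_eq 8466432 2048 ck_4134 b (by omega) (by omega)
  rcases Nat.lt_or_ge b 8470528 with g7 | g7
  · exact chkURangeF_spec C relF_hyp 1237356000 tc_eq 8468480 2048 ck_4135 b (by omega) (by omega)
  rcases Nat.lt_or_ge b 8472576 with g8 | g8
  · exact chkURangeF_spec C relF_hyp 1237356000 tc_eq 8470528 2048 ck_4136 b (by omega) (by omega)
  rcases Nat.lt_or_ge b 8474624 with g9 | g9
  · exact chkURangeF_spec C relF_hyp 1237356000 tc_eq 8472576 2048 ck_4137 b (by omega) (by omega)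
  rcases Nat.lt_or_ge b 8476672 with g10 | g10
  · exact chkURangeF_spec C relF_hyp 1237356000 tc_eq 8474624 2048 ck_4138 b (by omega) (by omega)
  rcases Nat.lt_or_ge b 8478720 with g11 | g11
  · exact chkURangeF_spec C relF_hyp 1237356000 tc_eq 8476672 2048 ck_4139 b (by omega) (by omega)
  rcases Nat.lt_or_ge b 8480768 with g12 | g12
  · exact chkURangeF_spec C relF_hyp 1237356000 tc_eq 8478720 2048 ck_4140 b (by omega) (by omega)
  rcases Nat.lt_or_ge b 8482816 with g13 | g13
  · exact chkURangeF_spec C relF_hyp 1237356000 tc_eq 8480768 2048 ck_4141 b (by omega) (by omega)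
  rcases Nat.lt_or_ge b 8484864 with g14 | g14
  · exact chkURangeF_spec C relF_hyp 1237356000 tc_eq 8482816 2048 ck_4142 b (by omega) (by omega)
  rcases Nat.lt_or_ge b 8486912 with g15 | g15
  · exact chkURangeF_spec C relF_hyp 1237356000 tc_eq 8484864 2048 ck_4143 b (by omega) (by omega)
  rcases Nat.lt_or_ge b 8488960 with g16 | g16
  · exact chkURangeF_spec C relF_hyp 1237356000 tc_eq 8486912 2048 ck_4144 b (by omega) (by omega)
  rcases Nat.lt_or_ge b 8491008 with g17 | g17
  · exact chkURangeF_spec C relF_hyp 1237356000 tc_eq 8488960 2048 ck_4145 b (by omega) (by omega)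
  rcases Nat.lt_or_ge b 8493056 with g18 | g18
  · exact chkURangeF_spec C relF_hyp 1237356000 tc_eq 8491008 2048 ck_4146 b (by omega) (by omega)
  rcases Nat.lt_or_ge b 8495104 with g19 | g19
  · exact chkURangeF_spec C relF_hyp 1237356000 tc_eq 8493056 2048 ck_4147 b (by omega) (by omega)
  rcases Nat.lt_or_ge b 8497152 with g20 | g20
  · exact chkURangeF_spec C relF_hyp 1237356000 tc_eq 8495104 2048 ck_4148 b (by omega) (by omega)
  rcases Nat.lt_or_ge b 8499200 with g21 | g21
  · exact chkURangeF_spec C relF_hyp 1237356000 tc_eq 8497152 2048 ck_4149 b (by omega) (by omega)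
  rcases Nat.lt_or_ge b 8501248 with g22 | g22
  · exact chkURangeF_spec C relF_hyp 1237356000 tc_eq 8499200 2048 ck_4150 b (by omega) (by omega)
  exact chkURangeF_spec C relF_hyp 1237356000 tc_eq 8501248 2048 ck_4151 b (by omega) (by omega)
end Cfsg.Agent.Lib.Helper2.HNMult.P3
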