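import Cfsg.Agent.Lib.Helper2.HNMult.P3.Cert
set_option autoImplicit false
set_option maxRecDepth 1000000
set_option Elab.async false
namespace Cfsg.Agent.Lib.Helper2.HNMult.P3
open Cfsg.Agent.Lib.Helper4.Sparse Cfsg.Agent.Lib.Helper2.SparseF
theorem ck_552 : chkURangeF D C relF 796 1237356000 1130496 2048 = true := by decide +kernel
theorem ck_553 : chkURangeF D C relF 796 1237356000 1132544 2048 = true := by decide +kernel
theorem ck_554 : chkURangeF D C relF 796 1237356000 1134592 2048 = true := by decide +kernel
theorem ck_555 : chkURangeF D C relF 796 1237356000 1136640 2048 = true := by decide +kernel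
theorem ck_556 : chkURangeF D C relF 796 1237356000 1138688 2048 = true := by decide +kernel
theorem ck_557 : chkURangeF D C relF 796 1237356000 1140736 2048 = true := by decide +kernel
theorem ck_558 : chkURangeF D C relF 796 1237356000 1142784 2048 = true := by decide +kernel
theorem ck_559 : chkURangeF D C relF 796 1237356000 1144832 2048 = true := by decide +kernel
theorem ck_560 : chkURangeF D C relF 796 1237356000 1146880 2048 = true := by decide +kernel
theorem ck_561 : chkURangeF D C relF 796 1237356000 1148928 2048 = true := by decide +kernel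
theorem ck_562 : chkURangeF D C relF 796 1237356000 1150976 2048 = true := by decide +kernel
theorem ck_563 : chkURangeF D C relF 796 1237356000 1153024 2048 = true := by decide +kernel
theorem ck_564 : chkURangeF D C relF 796 1237356000 1155072 2048 = true := by decide +kernel
theorem ck_565 : chkURangeF D C relF 796 1237356000 1157120 2048 = true := by decide +kernel
theorem ck_566 : chkURangeF D C relF 796 1237356000 1159168 2048 = true := by decide +kernel
theorem ck_567 : chkURangeF D C relF 796 1237356000 1161216 2048 = true := by decide +kernel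
theorem ck_568 : chkURangeF D C relF 796 1237356000 1163264 2048 = true := by decide +kernel
theorem ck_569 : chkURangeF D C relF 796 1237356000 1165312 2048 = true := by decide +kernel
theorem ck_570 : chkURangeF D C relF 796 1237356000 1167360 2048 = true := by decide +kernel
theorem ck_571 : chkURangeF D C relF 796 1237356000 1169408 2048 = true := by decide +kernel
theorem ck_572 : chkURangeF D C relF 796 1237356000 1171456 2048 = true := by decide +kernel
theorem ck_573 : chkURangeF D C relF 796 1237356000 1173504 2048 = true := by decide +kernel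
theorem ck_574 : chkURangeF D C relF 796 1237356000 1175552 2048 = true := by decide +kernel
theorem ck_575 : chkURangeF D C relF 796 1237356000 1177600 2048 = true := by decide +kernel
theorem chkU_23 (b : ℕ) (h1 : 1130496 ≤ b) (h2 : b < 1179648) : chkU D C b = true := by
  rcases Nat.lt_or_ge b 1132544 with g0 | g0
  · exact chkURangeF_spec C relF_hyp 1237356000 tc_eq 1130496 2048 ck_552 b (by omega) (by omega)
  rcases Nat.lt_or_ge b 1134592 with g1 | g1
  · exact chkURangeF_spec C relF_hyp 1237356000 tc_eq 1132544 2048 ck_553 b (by omega) (by omega)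
  rcases Nat.lt_or_ge b 1136640 with g2 | g2
  · exact chkURangeF_spec C relF_hyp 1237356000 tc_eq 1134592 2048 ck_554 b (by omega) (by omega)
  rcases Nat.lt_or_ge b 1138688 with g3 | g3
  · exact chkURangeF_spec C relF_hyp 1237356000 tc_eq 1136640 2048 ck_555 b (by omega) (by omega)
  rcases Nat.lt_or_ge b 1140736 with g4 | g4
  · exact chkURangeF_spec C relF_hyp 1237356000 tc_eq 1138688 2048 ck_556 b (by omega) (by omega)
  rcases Nat.lt_or_ge b 1142784 with g5 | g5
  · exact chkURangeF_spec C relF_hyp 1237356000 tc_eq 1140736 2048 ck_557 b (by omega) (by omega)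
  rcases Nat.lt_or_ge b 1144832 with g6 | g6
  · exact chkURangeF_spec C relF_hyp 1237356000 tc_eq 1142784 2048 ck_558 b (by omega) (by omega)
  rcases Nat.lt_or_ge b 1146880 with g7 | g7
  · exact chkURangeF_spec C relF_hyp 1237356000 tc_eq 1144832 2048 ck_559 b (by omega) (by omega)
  rcases Nat.lt_or_ge b 1148928 with g8 | g8
  · exact chkURangeF_spec C relF_hyp 1237356000 tc_eq 1146880 2048 ck_560 b (by omega) (by omega)
  rcases Nat.lt_or_ge b 1150976 with g9 | g9
  · exact chkURangeF_spec C relF_hyp 1237356000 tc_eq 1148928 2048 ck_561 b (by omega) (by omega)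
  rcases Nat.lt_or_ge b 1153024 with g10 | g10
  · exact chkURangeF_spec C relF_hyp 1237356000 tc_eq 1150976 2048 ck_562 b (by omega) (by omega)
  rcases Nat.lt_or_ge b 1155072 with g11 | g11
  · exact chkURangeF_spec C relF_hyp 1237356000 tc_eq 1153024 2048 ck_563 b (by omega) (by omega)
  rcases Nat.lt_or_ge b 1157120 with g12 | g12
  · exact chkURangeF_spec C relF_hyp 1237356000 tc_eq 1155072 2048 ck_564 b (by omega) (by omega)
  rcases Nat.lt_or_ge b 1159168 with g13 | g13
  · exact chkURangeF_spec C relF_hyp 1237356000 tc_eq 1157120 2048 ck_565 b (by omega) (by omega)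
  rcases Nat.lt_or_ge b 1161216 with g14 | g14
  · exact chkURangeF_spec C relF_hyp 1237356000 tc_eq 1159168 2048 ck_566 b (by omega) (by omega)
  rcases Nat.lt_or_ge b 1163264 with g15 | g15
  · exact chkURangeF_spec C relF_hyp 1237356000 tc_eq 1161216 2048 ck_567 b (by omega) (by omega)
  rcases Nat.lt_or_ge b 1165312 with g16 | g16
  · exact chkURangeF_spec C relF_hyp 1237356000 tc_eq 1163264 2048 ck_568 b (by omega) (by omega)
  rcases Nat.lt_or_ge b 1167360 with g17 | g17
  · exact chkURangeF_spec C relF_hyp 1237356000 tc_eq 1165312 2048 ck_569 b (by omega) (by omega)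
  rcases Nat.lt_or_ge b 1169408 with g18 | g18
  · exact chkURangeF_spec C relF_hyp 1237356000 tc_eq 1167360 2048 ck_570 b (by omega) (by omega)
  rcases Nat.lt_or_ge b 1171456 with g19 | g19
  · exact chkURangeF_spec C relF_hyp 1237356000 tc_eq 1169408 2048 ck_571 b (by omega) (by omega)
  rcases Nat.lt_or_ge b 1173504 with g20 | g20
  · exact chkURangeF_spec C relF_hyp 1237356000 tc_eq 1171456 2048 ck_572 b (by omega) (by omega)
  rcases Nat.lt_or_ge b 1175552 with g21 | g21
  · exact chkURangeF_spec C relF_hyp 1237356000 tc_eq 1173504 2048 ck_573 b (by omega) (by omega)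
  rcases Nat.lt_or_ge b 1177600 with g22 | g22
  · exact chkURangeF_spec C relF_hyp 1237356000 tc_eq 1175552 2048 ck_574 b (by omega) (by omega)
  exact chkURangeF_spec C relF_hyp 1237356000 tc_eq 1177600 2048 ck_575 b (by omega) (by omega)
end Cfsg.Agent.Lib.Helper2.HNMult.P3
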