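import Cfsg.Agent.Lib.Helper2.HNMult.P3.Cert
set_option autoImplicit false
set_option maxRecDepth 1000000
set_option Elab.async false
namespace Cfsg.Agent.Lib.Helper2.HNMult.P3
open Cfsg.Agent.Lib.Helper4.Sparse Cfsg.Agent.Lib.Helper2.SparseF
theorem ck_840 : chkURangeF D C relF 796 1237356000 1720320 2048 = true := by decide +kernel
theorem ck_841 : chkURangeF D C relF 796 1237356000 1722368 2048 = true := by decide +kernel
theorem ck_842 : chkURangeF D C relF 796 1237356000 1724416 2048 = true := by decide +kernel
theorem ck_843 : chkURangeF D C relF 796 1237356000 1726464 2048 = true := by decide +kernel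
theorem ck_844 : chkURangeF D C relF 796 1237356000 1728512 2048 = true := by decide +kernel
theorem ck_845 : chkURangeF D C relF 796 1237356000 1730560 2048 = true := by decide +kernel
theorem ck_846 : chkURangeF D C relF 796 1237356000 1732608 2048 = true := by decide +kernel
theorem ck_847 : chkURangeF D C relF 796 1237356000 1734656 2048 = true := by decide +kernel
theorem ck_848 : chkURangeF D C relF 796 1237356000 1736704 2048 = true := by decide +kernel
theorem ck_849 : chkURangeF D C relF 796 1237356000 1738752 2048 = true := by decide +kernel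
theorem ck_850 : chkURangeF D C relF 796 1237356000 1740800 2048 = true := by decide +kernel
theorem ck_851 : chkURangeF D C relF 796 1237356000 1742848 2048 = true := by decide +kernel
theorem ck_852 : chkURangeF D C relF 796 1237356000 1744896 2048 = true := by decide +kernel
theorem ck_853 : chkURangeF D C relF 796 1237356000 1746944 2048 = true := by decide +kernel
theorem ck_854 : chkURangeF D C relF 796 1237356000 1748992 2048 = true := by decide +kernel
theorem ck_855 : chkURangeF D C relF 796 1237356000 1751040 2048 = true := by decide +kernel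
theorem ck_856 : chkURangeF D C relF 796 1237356000 1753088 2048 = true := by decide +kernel
theorem ck_857 : chkURangeF D C relF 796 1237356000 1755136 2048 = true := by decide +kernel
theorem ck_858 : chkURangeF D C relF 796 1237356000 1757184 2048 = true := by decide +kernel
theorem ck_859 : chkURangeF D C relF 796 1237356000 1759232 2048 = true := by decide +kernel
theorem ck_860 : chkURangeF D C relF 796 1237356000 1761280 2048 = true := by decide +kernel
theorem ck_861 : chkURangeF D C relF 796 1237356000 1763328 2048 = true := by decide +kernel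
theorem ck_862 : chkURangeF D C relF 796 1237356000 1765376 2048 = true := by decide +kernel
theorem ck_863 : chkURangeF D C relF 796 1237356000 1767424 2048 = true := by decide +kernel
theorem chkU_35 (b : ℕ) (h1 : 1720320 ≤ b) (h2 : b < 1769472) : chkU D C b = true := by
  rcases Nat.lt_or_ge b 1722368 with g0 | g0
  · exact chkURangeF_spec C relF_hyp 1237356000 tc_eq 1720320 2048 ck_840 b (by omega) (by omega)
  rcases Nat.lt_or_ge b 1724416 with g1 | g1
  · exact chkURangeF_spec C relF_hyp 1237356000 tc_eq 1722368 2048 ck_841 b (by omega) (by omega)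
  rcases Nat.lt_or_ge b 1726464 with g2 | g2
  · exact chkURangeF_spec C relF_hyp 1237356000 tc_eq 1724416 2048 ck_842 b (by omega) (by omega)
  rcases Nat.lt_or_ge b 1728512 with g3 | g3
  · exact chkURangeF_spec C relF_hyp 1237356000 tc_eq 1726464 2048 ck_843 b (by omega) (by omega)
  rcases Nat.lt_or_ge b 1730560 with g4 | g4
  · exact chkURangeF_spec C relF_hyp 1237356000 tc_eq 1728512 2048 ck_844 b (by omega) (by omega)
  rcases Nat.lt_or_ge b 1732608 with g5 | g5
  · exact chkURangeF_spec C relF_hyp 1237356000 tc_eq 1730560 2048 ck_845 b (by omega) (by omega)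
  rcases Nat.lt_or_ge b 1734656 with g6 | g6
  · exact chkURangeF_spec C relF_hyp 1237356000 tc_eq 1732608 2048 ck_846 b (by omega) (by omega)
  rcases Nat.lt_or_ge b 1736704 with g7 | g7
  · exact chkURangeF_spec C relF_hyp 1237356000 tc_eq 1734656 2048 ck_847 b (by omega) (by omega)
  rcases Nat.lt_or_ge b 1738752 with g8 | g8
  · exact chkURangeF_spec C relF_hyp 1237356000 tc_eq 1736704 2048 ck_848 b (by omega) (by omega)
  rcases Nat.lt_or_ge b 1740800 with g9 | g9
  · exact chkURangeF_spec C relF_hyp 1237356000 tc_eq 1738752 2048 ck_849 b (by omega) (by omega)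
  rcases Nat.lt_or_ge b 1742848 with g10 | g10
  · exact chkURangeF_spec C relF_hyp 1237356000 tc_eq 1740800 2048 ck_850 b (by omega) (by omega)
  rcases Nat.lt_or_ge b 1744896 with g11 | g11
  · exact chkURangeF_spec C relF_hyp 1237356000 tc_eq 1742848 2048 ck_851 b (by omega) (by omega)
  rcases Nat.lt_or_ge b 1746944 with g12 | g12
  · exact chkURangeF_spec C relF_hyp 1237356000 tc_eq 1744896 2048 ck_852 b (by omega) (by omega)
  rcases Nat.lt_or_ge b 1748992 with g13 | g13
  · exact chkURangeF_spec C relF_hyp 1237356000 tc_eq 1746944 2048 ck_853 b (by omega) (by omega)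
  rcases Nat.lt_or_ge b 1751040 with g14 | g14
  · exact chkURangeF_spec C relF_hyp 1237356000 tc_eq 1748992 2048 ck_854 b (by omega) (by omega)
  rcases Nat.lt_or_ge b 1753088 with g15 | g15
  · exact chkURangeF_spec C relF_hyp 1237356000 tc_eq 1751040 2048 ck_855 b (by omega) (by omega)
  rcases Nat.lt_or_ge b 1755136 with g16 | g16
  · exact chkURangeF_spec C relF_hyp 1237356000 tc_eq 1753088 2048 ck_856 b (by omega) (by omega)
  rcases Nat.lt_or_ge b 1757184 with g17 | g17
  · exact chkURangeF_spec C relF_hyp 1237356000 tc_eq 1755136 2048 ck_857 b (by omega) (by omega)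
  rcases Nat.lt_or_ge b 1759232 with g18 | g18
  · exact chkURangeF_spec C relF_hyp 1237356000 tc_eq 1757184 2048 ck_858 b (by omega) (by omega)
  rcases Nat.lt_or_ge b 1761280 with g19 | g19
  · exact chkURangeF_spec C relF_hyp 1237356000 tc_eq 1759232 2048 ck_859 b (by omega) (by omega)
  rcases Nat.lt_or_ge b 1763328 with g20 | g20
  · exact chkURangeF_spec C relF_hyp 1237356000 tc_eq 1761280 2048 ck_860 b (by omega) (by omega)
  rcases Nat.lt_or_ge b 1765376 with g21 | g21
  · exact chkURangeF_spec C relF_hyp 1237356000 tc_eq 1763328 2048 ck_861 b (by omega) (by omega)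
  rcases Nat.lt_or_ge b 1767424 with g22 | g22
  · exact chkURangeF_spec C relF_hyp 1237356000 tc_eq 1765376 2048 ck_862 b (by omega) (by omega)
  exact chkURangeF_spec C relF_hyp 1237356000 tc_eq 1767424 2048 ck_863 b (by omega) (by omega)
end Cfsg.Agent.Lib.Helper2.HNMult.P3
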