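import Cfsg.Agent.Lib.Helper2.HNMult.P3.Cert
set_option autoImplicit false
set_option maxRecDepth 1000000
set_option Elab.async false
namespace Cfsg.Agent.Lib.Helper2.HNMult.P3
open Cfsg.Agent.Lib.Helper4.Sparse Cfsg.Agent.Lib.Helper2.SparseF
theorem ck_1128 : chkURangeF D C relF 796 1237356000 2310144 2048 = true := by decide +kernel
theorem ck_1129 : chkURangeF D C relF 796 1237356000 2312192 2048 = true := by decide +kernel
theorem ck_1130 : chkURangeF D C relF 796 1237356000 2314240 2048 = true := by decide +kernel
theorem ck_1131 : chkURangeF D C relF 796 1237356000 2316288 2048 = true := by decide +kernel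
theorem ck_1132 : chkURangeF D C relF 796 1237356000 2318336 2048 = true := by decide +kernel
theorem ck_1133 : chkURangeF D C relF 796 1237356000 2320384 2048 = true := by decide +kernel
theorem ck_1134 : chkURangeF D C relF 796 1237356000 2322432 2048 = true := by decide +kernel
theorem ck_1135 : chkURangeF D C relF 796 1237356000 2324480 2048 = true := by decide +kernel
theorem ck_1136 : chkURangeF D C relF 796 1237356000 2326528 2048 = true := by decide +kernel
theorem ck_1137 : chkURangeF D C relF 796 1237356000 2328576 2048 = true := by decide +kernel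
theorem ck_1138 : chkURangeF D C relF 796 1237356000 2330624 2048 = true := by decide +kernel
theorem ck_1139 : chkURangeF D C relF 796 1237356000 2332672 2048 = true := by decide +kernel
theorem ck_1140 : chkURangeF D C relF 796 1237356000 2334720 2048 = true := by decide +kernel
theorem ck_1141 : chkURangeF D C relF 796 1237356000 2336768 2048 = true := by decide +kernel
theorem ck_1142 : chkURangeF D C relF 796 1237356000 2338816 2048 = true := by decide +kernel
theorem ck_1143 : chkURangeF D C relF 796 1237356000 2340864 2048 = true := by decide +kernel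
theorem ck_1144 : chkURangeF D C relF 796 1237356000 2342912 2048 = true := by decide +kernel
theorem ck_1145 : chkURangeF D C relF 796 1237356000 2344960 2048 = true := by decide +kernel
theorem ck_1146 : chkURangeF D C relF 796 1237356000 2347008 2048 = true := by decide +kernel
theorem ck_1147 : chkURangeF D C relF 796 1237356000 2349056 2048 = true := by decide +kernel
theorem ck_1148 : chkURangeF D C relF 796 1237356000 2351104 2048 = true := by decide +kernel
theorem ck_1149 : chkURangeF D C relF 796 1237356000 2353152 2048 = true := by decide +kernel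
theorem ck_1150 : chkURangeF D C relF 796 1237356000 2355200 2048 = true := by decide +kernel
theorem ck_1151 : chkURangeF D C relF 796 1237356000 2357248 2048 = true := by decide +kernel
theorem chkU_47 (b : ℕ) (h1 : 2310144 ≤ b) (h2 : b < 2359296) : chkU D C b = true := by
  rcases Nat.lt_or_ge b 2312192 with g0 | g0
  · exact chkURangeF_spec C relF_hyp 1237356000 tc_eq 2310144 2048 ck_1128 b (by omega) (by omega)
  rcases Nat.lt_or_ge b 2314240 with g1 | g1
  · exact chkURangeF_spec C relF_hyp 1237356000 tc_eq 2312192 2048 ck_1129 b (by omega) (by omega)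
  rcases Nat.lt_or_ge b 2316288 with g2 | g2
  · exact chkURangeF_spec C relF_hyp 1237356000 tc_eq 2314240 2048 ck_1130 b (by omega) (by omega)
  rcases Nat.lt_or_ge b 2318336 with g3 | g3
  · exact chkURangeF_spec C relF_hyp 1237356000 tc_eq 2316288 2048 ck_1131 b (by omega) (by omega)
  rcases Nat.lt_or_ge b 2320384 with g4 | g4
  · exact chkURangeF_spec C relF_hyp 1237356000 tc_eq 2318336 2048 ck_1132 b (by omega) (by omega)
  rcases Nat.lt_or_ge b 2322432 with g5 | g5
  · exact chkURangeF_spec C relF_hyp 1237356000 tc_eq 2320384 2048 ck_1133 b (by omega) (by omega)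
  rcases Nat.lt_or_ge b 2324480 with g6 | g6
  · exact chkURangeF_spec C relF_hyp 1237356000 tc_eq 2322432 2048 ck_1134 b (by omega) (by omega)
  rcases Nat.lt_or_ge b 2326528 with g7 | g7
  · exact chkURangeF_spec C relF_hyp 1237356000 tc_eq 2324480 2048 ck_1135 b (by omega) (by omega)
  rcases Nat.lt_or_ge b 2328576 with g8 | g8
  · exact chkURangeF_spec C relF_hyp 1237356000 tc_eq 2326528 2048 ck_1136 b (by omega) (by omega)
  rcases Nat.lt_or_ge b 2330624 with g9 | g9
  · exact chkURangeF_spec C relF_hyp 1237356000 tc_eq 2328576 2048 ck_1137 b (by omega) (by omega)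
  rcases Nat.lt_or_ge b 2332672 with g10 | g10
  · exact chkURangeF_spec C relF_hyp 1237356000 tc_eq 2330624 2048 ck_1138 b (by omega) (by omega)
  rcases Nat.lt_or_ge b 2334720 with g11 | g11
  · exact chkURangeF_spec C relF_hyp 1237356000 tc_eq 2332672 2048 ck_1139 b (by omega) (by omega)
  rcases Nat.lt_or_ge b 2336768 with g12 | g12
  · exact chkURangeF_spec C relF_hyp 1237356000 tc_eq 2334720 2048 ck_1140 b (by omega) (by omega)
  rcases Nat.lt_or_ge b 2338816 with g13 | g13
  · exact chkURangeF_spec C relF_hyp 1237356000 tc_eq 2336768 2048 ck_1141 b (by omega) (by omega)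
  rcases Nat.lt_or_ge b 2340864 with g14 | g14
  · exact chkURangeF_spec C relF_hyp 1237356000 tc_eq 2338816 2048 ck_1142 b (by omega) (by omega)
  rcases Nat.lt_or_ge b 2342912 with g15 | g15
  · exact chkURangeF_spec C relF_hyp 1237356000 tc_eq 2340864 2048 ck_1143 b (by omega) (by omega)
  rcases Nat.lt_or_ge b 2344960 with g16 | g16
  · exact chkURangeF_spec C relF_hyp 1237356000 tc_eq 2342912 2048 ck_1144 b (by omega) (by omega)
  rcases Nat.lt_or_ge b 2347008 with g17 | g17
  · exact chkURangeF_spec C relF_hyp 1237356000 tc_eq 2344960 2048 ck_1145 b (by omega) (by omega)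
  rcases Nat.lt_or_ge b 2349056 with g18 | g18
  · exact chkURangeF_spec C relF_hyp 1237356000 tc_eq 2347008 2048 ck_1146 b (by omega) (by omega)
  rcases Nat.lt_or_ge b 2351104 with g19 | g19
  · exact chkURangeF_spec C relF_hyp 1237356000 tc_eq 2349056 2048 ck_1147 b (by omega) (by omega)
  rcases Nat.lt_or_ge b 2353152 with g20 | g20
  · exact chkURangeF_spec C relF_hyp 1237356000 tc_eq 2351104 2048 ck_1148 b (by omega) (by omega)
  rcases Nat.lt_or_ge b 2355200 with g21 | g21
  · exact chkURangeF_spec C relF_hyp 1237356000 tc_eq 2353152 2048 ck_1149 b (by omega) (by omega)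
  rcases Nat.lt_or_ge b 2357248 with g22 | g22
  · exact chkURangeF_spec C relF_hyp 1237356000 tc_eq 2355200 2048 ck_1150 b (by omega) (by omega)
  exact chkURangeF_spec C relF_hyp 1237356000 tc_eq 2357248 2048 ck_1151 b (by omega) (by omega)
end Cfsg.Agent.Lib.Helper2.HNMult.P3
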