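import Cfsg.Agent.Lib.Helper2.HNMult.P3.Cert
set_option autoImplicit false
set_option maxRecDepth 1000000
set_option Elab.async false
namespace Cfsg.Agent.Lib.Helper2.HNMult.P3
open Cfsg.Agent.Lib.Helper4.Sparse Cfsg.Agent.Lib.Helper2.SparseF
theorem ck_1416 : chkURangeF D C relF 796 1237356000 2899968 2048 = true := by decide +kernel
theorem ck_1417 : chkURangeF D C relF 796 1237356000 2902016 2048 = true := by decide +kernel
theorem ck_1418 : chkURangeF D C relF 796 1237356000 2904064 2048 = true := by decide +kernel
theorem ck_1419 : chkURangeF D C relF 796 1237356000 2906112 2048 = true := by decide +kernel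
theorem ck_1420 : chkURangeF D C relF 796 1237356000 2908160 2048 = true := by decide +kernel
theorem ck_1421 : chkURangeF D C relF 796 1237356000 2910208 2048 = true := by decide +kernel
theorem ck_1422 : chkURangeF D C relF 796 1237356000 2912256 2048 = true := by decide +kernel
theorem ck_1423 : chkURangeF D C relF 796 1237356000 2914304 2048 = true := by decide +kernel
theorem ck_1424 : chkURangeF D C relF 796 1237356000 2916352 2048 = true := by decide +kernel
theorem ck_1425 : chkURangeF D C relF 796 1237356000 2918400 2048 = true := by decide +kernel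
theorem ck_1426 : chkURangeF D C relF 796 1237356000 2920448 2048 = true := by decide +kernel
theorem ck_1427 : chkURangeF D C relF 796 1237356000 2922496 2048 = true := by decide +kernel
theorem ck_1428 : chkURangeF D C relF 796 1237356000 2924544 2048 = true := by decide +kernel
theorem ck_1429 : chkURangeF D C relF 796 1237356000 2926592 2048 = true := by decide +kernel
theorem ck_1430 : chkURangeF D C relF 796 1237356000 2928640 2048 = true := by decide +kernel
theorem ck_1431 : chkURangeF D C relF 796 1237356000 2930688 2048 = true := by decide +kernel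
theorem ck_1432 : chkURangeF D C relF 796 1237356000 2932736 2048 = true := by decide +kernel
theorem ck_1433 : chkURangeF D C relF 796 1237356000 2934784 2048 = true := by decide +kernel
theorem ck_1434 : chkURangeF D C relF 796 1237356000 2936832 2048 = true := by decide +kernel
theorem ck_1435 : chkURangeF D C relF 796 1237356000 2938880 2048 = true := by decide +kernel
theorem ck_1436 : chkURangeF D C relF 796 1237356000 2940928 2048 = true := by decide +kernel
theorem ck_1437 : chkURangeF D C relF 796 1237356000 2942976 2048 = true := by decide +kernel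
theorem ck_1438 : chkURangeF D C relF 796 1237356000 2945024 2048 = true := by decide +kernel
theorem ck_1439 : chkURangeF D C relF 796 1237356000 2947072 2048 = true := by decide +kernel
theorem chkU_59 (b : ℕ) (h1 : 2899968 ≤ b) (h2 : b < 2949120) : chkU D C b = true := by
  rcases Nat.lt_or_ge b 2902016 with g0 | g0
  · exact chkURangeF_spec C relF_hyp 1237356000 tc_eq 2899968 2048 ck_1416 b (by omega) (by omega)
  rcases Nat.lt_or_ge b 2904064 with g1 | g1
  · exact chkURangeF_spec C relF_hyp 1237356000 tc_eq 2902016 2048 ck_1417 b (by omega) (by omega)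
  rcases Nat.lt_or_ge b 2906112 with g2 | g2
  · exact chkURangeF_spec C relF_hyp 1237356000 tc_eq 2904064 2048 ck_1418 b (by omega) (by omega)
  rcases Nat.lt_or_ge b 2908160 with g3 | g3
  · exact chkURangeF_spec C relF_hyp 1237356000 tc_eq 2906112 2048 ck_1419 b (by omega) (by omega)
  rcases Nat.lt_or_ge b 2910208 with g4 | g4
  · exact chkURangeF_spec C relF_hyp 1237356000 tc_eq 2908160 2048 ck_1420 b (by omega) (by omega)
  rcases Nat.lt_or_ge b 2912256 with g5 | g5
  · exact chkURangeF_spec C relF_hyp 1237356000 tc_eq 2910208 2048 ck_1421 b (by omega) (by omega)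
  rcases Nat.lt_or_ge b 2914304 with g6 | g6
  · exact chkURangeF_spec C relF_hyp 1237356000 tc_eq 2912256 2048 ck_1422 b (by omega) (by omega)
  rcases Nat.lt_or_ge b 2916352 with g7 | g7
  · exact chkURangeF_spec C relF_hyp 1237356000 tc_eq 2914304 2048 ck_1423 b (by omega) (by omega)
  rcases Nat.lt_or_ge b 2918400 with g8 | g8
  · exact chkURangeF_spec C relF_hyp 1237356000 tc_eq 2916352 2048 ck_1424 b (by omega) (by omega)
  rcases Nat.lt_or_ge b 2920448 with g9 | g9
  · exact chkURangeF_spec C relF_hyp 1237356000 tc_eq 2918400 2048 ck_1425 b (by omega) (by omega)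
  rcases Nat.lt_or_ge b 2922496 with g10 | g10
  · exact chkURangeF_spec C relF_hyp 1237356000 tc_eq 2920448 2048 ck_1426 b (by omega) (by omega)
  rcases Nat.lt_or_ge b 2924544 with g11 | g11
  · exact chkURangeF_spec C relF_hyp 1237356000 tc_eq 2922496 2048 ck_1427 b (by omega) (by omega)
  rcases Nat.lt_or_ge b 2926592 with g12 | g12
  · exact chkURangeF_spec C relF_hyp 1237356000 tc_eq 2924544 2048 ck_1428 b (by omega) (by omega)
  rcases Nat.lt_or_ge b 2928640 with g13 | g13
  · exact chkURangeF_spec C relF_hyp 1237356000 tc_eq 2926592 2048 ck_1429 b (by omega) (by omega)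
  rcases Nat.lt_or_ge b 2930688 with g14 | g14
  · exact chkURangeF_spec C relF_hyp 1237356000 tc_eq 2928640 2048 ck_1430 b (by omega) (by omega)
  rcases Nat.lt_or_ge b 2932736 with g15 | g15
  · exact chkURangeF_spec C relF_hyp 1237356000 tc_eq 2930688 2048 ck_1431 b (by omega) (by omega)
  rcases Nat.lt_or_ge b 2934784 with g16 | g16
  · exact chkURangeF_spec C relF_hyp 1237356000 tc_eq 2932736 2048 ck_1432 b (by omega) (by omega)
  rcases Nat.lt_or_ge b 2936832 with g17 | g17
  · exact chkURangeF_spec C relF_hyp 1237356000 tc_eq 2934784 2048 ck_1433 b (by omega) (by omega)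
  rcases Nat.lt_or_ge b 2938880 with g18 | g18
  · exact chkURangeF_spec C relF_hyp 1237356000 tc_eq 2936832 2048 ck_1434 b (by omega) (by omega)
  rcases Nat.lt_or_ge b 2940928 with g19 | g19
  · exact chkURangeF_spec C relF_hyp 1237356000 tc_eq 2938880 2048 ck_1435 b (by omega) (by omega)
  rcases Nat.lt_or_ge b 2942976 with g20 | g20
  · exact chkURangeF_spec C relF_hyp 1237356000 tc_eq 2940928 2048 ck_1436 b (by omega) (by omega)
  rcases Nat.lt_or_ge b 2945024 with g21 | g21
  · exact chkURangeF_spec C relF_hyp 1237356000 tc_eq 2942976 2048 ck_1437 b (by omega) (by omega)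
  rcases Nat.lt_or_ge b 2947072 with g22 | g22
  · exact chkURangeF_spec C relF_hyp 1237356000 tc_eq 2945024 2048 ck_1438 b (by omega) (by omega)
  exact chkURangeF_spec C relF_hyp 1237356000 tc_eq 2947072 2048 ck_1439 b (by omega) (by omega)
end Cfsg.Agent.Lib.Helper2.HNMult.P3
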