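import Cfsg.Agent.Lib.Helper2.HNMult.P3.Cert
set_option autoImplicit false
set_option maxRecDepth 1000000
set_option Elab.async false
namespace Cfsg.Agent.Lib.Helper2.HNMult.P3
open Cfsg.Agent.Lib.Helper4.Sparse Cfsg.Agent.Lib.Helper2.SparseF
theorem ck_1992 : chkURangeF D C relF 796 1237356000 4079616 2048 = true := by decide +kernel
theorem ck_1993 : chkURangeF D C relF 796 1237356000 4081664 2048 = true := by decide +kernel
theorem ck_1994 : chkURangeF D C relF 796 1237356000 4083712 2048 = true := by decide +kernel
theorem ck_1995 : chkURangeF D C relF 796 1237356000 4085760 2048 = true := by decide +kernel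
theorem ck_1996 : chkURangeF D C relF 796 1237356000 4087808 2048 = true := by decide +kernel
theorem ck_1997 : chkURangeF D C relF 796 1237356000 4089856 2048 = true := by decide +kernel
theorem ck_1998 : chkURangeF D C relF 796 1237356000 4091904 2048 = true := by decide +kernel
theorem ck_1999 : chkURangeF D C relF 796 1237356000 4093952 2048 = true := by decide +kernel
theorem ck_2000 : chkURangeF D C relF 796 1237356000 4096000 2048 = true := by decide +kernel
theorem ck_2001 : chkURangeF D C relF 796 1237356000 4098048 2048 = true := by decide +kernel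
theorem ck_2002 : chkURangeF D C relF 796 1237356000 4100096 2048 = true := by decide +kernel
theorem ck_2003 : chkURangeF D C relF 796 1237356000 4102144 2048 = true := by decide +kernel
theorem ck_2004 : chkURangeF D C relF 796 1237356000 4104192 2048 = true := by decide +kernel
theorem ck_2005 : chkURangeF D C relF 796 1237356000 4106240 2048 = true := by decide +kernel
theorem ck_2006 : chkURangeF D C relF 796 1237356000 4108288 2048 = true := by decide +kernel
theorem ck_2007 : chkURangeF D C relF 796 1237356000 4110336 2048 = true := by decide +kernel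
theorem ck_2008 : chkURangeF D C relF 796 1237356000 4112384 2048 = true := by decide +kernel
theorem ck_2009 : chkURangeF D C relF 796 1237356000 4114432 2048 = true := by decide +kernel
theorem ck_2010 : chkURangeF D C relF 796 1237356000 4116480 2048 = true := by decide +kernel
theorem ck_2011 : chkURangeF D C relF 796 1237356000 4118528 2048 = true := by decide +kernel
theorem ck_2012 : chkURangeF D C relF 796 1237356000 4120576 2048 = true := by decide +kernel
theorem ck_2013 : chkURangeF D C relF 796 1237356000 4122624 2048 = true := by decide +kernel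
theorem ck_2014 : chkURangeF D C relF 796 1237356000 4124672 2048 = true := by decide +kernel
theorem ck_2015 : chkURangeF D C relF 796 1237356000 4126720 2048 = true := by decide +kernel
theorem chkU_83 (b : ℕ) (h1 : 4079616 ≤ b) (h2 : b < 4128768) : chkU D C b = true := by
  rcases Nat.lt_or_ge b 4081664 with g0 | g0
  · exact chkURangeF_spec C relF_hyp 1237356000 tc_eq 4079616 2048 ck_1992 b (by omega) (by omega)
  rcases Nat.lt_or_ge b 4083712 with g1 | g1
  · exact chkURangeF_spec C relF_hyp 1237356000 tc_eq 4081664 2048 ck_1993 b (by omega) (by omega)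
  rcases Nat.lt_or_ge b 4085760 with g2 | g2
  · exact chkURangeF_spec C relF_hyp 1237356000 tc_eq 4083712 2048 ck_1994 b (by omega) (by omega)
  rcases Nat.lt_or_ge b 4087808 with g3 | g3
  · exact chkURangeF_spec C relF_hyp 1237356000 tc_eq 4085760 2048 ck_1995 b (by omega) (by omega)
  rcases Nat.lt_or_ge b 4089856 with g4 | g4
  · exact chkURangeF_spec C relF_hyp 1237356000 tc_eq 4087808 2048 ck_1996 b (by omega) (by omega)
  rcases Nat.lt_or_ge b 4091904 with g5 | g5
  · exact chkURangeF_spec C relF_hyp 1237356000 tc_eq 4089856 2048 ck_1997 b (by omega) (by omega)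
  rcases Nat.lt_or_ge b 4093952 with g6 | g6
  · exact chkURangeF_spec C relF_hyp 1237356000 tc_eq 4091904 2048 ck_1998 b (by omega) (by omega)
  rcases Nat.lt_or_ge b 4096000 with g7 | g7
  · exact chkURangeF_spec C relF_hyp 1237356000 tc_eq 4093952 2048 ck_1999 b (by omega) (by omega)
  rcases Nat.lt_or_ge b 4098048 with g8 | g8
  · exact chkURangeF_spec C relF_hyp 1237356000 tc_eq 4096000 2048 ck_2000 b (by omega) (by omega)
  rcases Nat.lt_or_ge b 4100096 with g9 | g9
  · exact chkURangeF_spec C relF_hyp 1237356000 tc_eq 4098048 2048 ck_2001 b (by omega) (by omega)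
  rcases Nat.lt_or_ge b 4102144 with g10 | g10
  · exact chkURangeF_spec C relF_hyp 1237356000 tc_eq 4100096 2048 ck_2002 b (by omega) (by omega)
  rcases Nat.lt_or_ge b 4104192 with g11 | g11
  · exact chkURangeF_spec C relF_hyp 1237356000 tc_eq 4102144 2048 ck_2003 b (by omega) (by omega)
  rcases Nat.lt_or_ge b 4106240 with g12 | g12
  · exact chkURangeF_spec C relF_hyp 1237356000 tc_eq 4104192 2048 ck_2004 b (by omega) (by omega)
  rcases Nat.lt_or_ge b 4108288 with g13 | g13
  · exact chkURangeF_spec C relF_hyp 1237356000 tc_eq 4106240 2048 ck_2005 b (by omega) (by omega)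
  rcases Nat.lt_or_ge b 4110336 with g14 | g14
  · exact chkURangeF_spec C relF_hyp 1237356000 tc_eq 4108288 2048 ck_2006 b (by omega) (by omega)
  rcases Nat.lt_or_ge b 4112384 with g15 | g15
  · exact chkURangeF_spec C relF_hyp 1237356000 tc_eq 4110336 2048 ck_2007 b (by omega) (by omega)
  rcases Nat.lt_or_ge b 4114432 with g16 | g16
  · exact chkURangeF_spec C relF_hyp 1237356000 tc_eq 4112384 2048 ck_2008 b (by omega) (by omega)
  rcases Nat.lt_or_ge b 4116480 with g17 | g17
  · exact chkURangeF_spec C relF_hyp 1237356000 tc_eq 4114432 2048 ck_2009 b (by omega) (by omega)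
  rcases Nat.lt_or_ge b 4118528 with g18 | g18
  · exact chkURangeF_spec C relF_hyp 1237356000 tc_eq 4116480 2048 ck_2010 b (by omega) (by omega)
  rcases Nat.lt_or_ge b 4120576 with g19 | g19
  · exact chkURangeF_spec C relF_hyp 1237356000 tc_eq 4118528 2048 ck_2011 b (by omega) (by omega)
  rcases Nat.lt_or_ge b 4122624 with g20 | g20
  · exact chkURangeF_spec C relF_hyp 1237356000 tc_eq 4120576 2048 ck_2012 b (by omega) (by omega)
  rcases Nat.lt_or_ge b 4124672 with g21 | g21
  · exact chkURangeF_spec C relF_hyp 1237356000 tc_eq 4122624 2048 ck_2013 b (by omega) (by omega)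
  rcases Nat.lt_or_ge b 4126720 with g22 | g22
  · exact chkURangeF_spec C relF_hyp 1237356000 tc_eq 4124672 2048 ck_2014 b (by omega) (by omega)
  exact chkURangeF_spec C relF_hyp 1237356000 tc_eq 4126720 2048 ck_2015 b (by omega) (by omega)
end Cfsg.Agent.Lib.Helper2.HNMult.P3
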