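import Cfsg.Agent.Lib.Helper2.HNMult.P3.Cert
set_option autoImplicit false
set_option maxRecDepth 1000000

/-! # The residual relations between the distinguished unknowns -/

namespace Cfsg.Agent.Lib.Helper2.HNMult.P3
open Cfsg.Agent.Lib.Helper4.Sparse

theorem res_0 : chkResid D C 802 0 2 = true := by decide +kernel

/-- the residual relations -/
def res : List (ℕ × ℕ × ℕ) :=
  [(802, 0, 2)]

theorem hres : ∀ x ∈ res, chkResid D C x.1 x.2.1 x.2.2 = true := by
  intro x hx
  simp only [res, List.mem_cons, List.mem_nil_iff, or_false] at hx
  subst hx
  exact res_0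

/-- the target relations -/
def tgt : ℕ → ℕ := fun i => List.getD [1] i 0

/-- the combinations of the residual relations giving the target relations -/
def comb : ℕ → List ℕ := fun i => List.getD [[0, 0]] i []

end Cfsg.Agent.Lib.Helper2.HNMult.P3
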